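import Mathlib

/-!
# Effectivity of flat descent for modules and algebras (affine case)

`B` is a flat `A`-algebra, `N` a `B`-module with a coaction `a : N → B ⊗[A] N` that is `B`-linear
for the left structure, counital and coassociative.  Then `B ⊗[A] N₀ → N` is bijective, where
`N₀` is the equalizer of `a` and `n ↦ 1 ⊗ n`.
-/

namespace Groth.Agent.Helper2.AffDesc
open TensorProduct

section Module

variable {A B N : Type*} [CommRing A] [CommRing B] [Algebra A B] [AddCommGroup N] [Module A N]
  [Module B N] [IsScalarTower A B N]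

/-- The counit `B ⊗[A] N → N`, `b ⊗ n ↦ b • n`. -/
noncomputable def eps (A B N : Type*) [CommRing A] [CommRing B] [Algebra A B] [AddCommGroup N]
    [Module A N] [Module B N] [IsScalarTower A B N] : B ⊗[A] N →ₗ[B] N :=
  (LinearMap.id : N →ₗ[A] N).liftBaseChange B

@[simp] theorem eps_tmul (b : B) (n : N) : eps A B N (b ⊗ₜ[A] n) = b • n := by
  simp [eps]

variable (a : N →ₗ[B] B ⊗[A] N)

/-- The descended module: the equalizer of the coaction and `n ↦ 1 ⊗ n`. -/
noncomputable def descended : Submodule A N :=
  LinearMap.eqLocus (a.restrictScalars A) (TensorProduct.mk A B N 1)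

theorem mem_descended {n : N} : n ∈ descended a ↔ a n = 1 ⊗ₜ[A] n := Iff.rfl

theorem eps_lTensor_coaction (x : B ⊗[A] N) :
    eps A B (B ⊗[A] N) (LinearMap.lTensor B (a.restrictScalars A) x) = a (eps A B N x) := by
  induction x with
  | zero => simp
  | tmul b n => simp
  | add x y hx hy => simp only [map_add, hx, hy]

theorem eps_lTensor_mk (x : B ⊗[A] N) :
    eps A B (B ⊗[A] N) (LinearMap.lTensor B (TensorProduct.mk A B N 1) x) = x := by
  induction x with
  | zero => simp
  | tmul b n => simp [TensorProduct.smul_tmul']
  | add x y hx hy => simp only [map_add, hx, hy]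

theorem eps_lTensor {M' : Type*} [AddCommGroup M'] [Module A M'] (l : M' →ₗ[A] N)
    (x : B ⊗[A] M') : eps A B N (LinearMap.lTensor B l x) = l.liftBaseChange B x := by
  induction x with
  | zero => simp
  | tmul b m => simp
  | add x y hx hy => simp only [map_add, hx, hy]

variable [Module.Flat A B]

/-- Effectivity of descent for modules along a flat ring map. -/
theorem bijective_liftBaseChange_descended
    (hU : ∀ n, eps A B N (a n) = n)
    (hC : ∀ n, LinearMap.lTensor B (a.restrictScalars A) (a n) =
      LinearMap.lTensor B (TensorProduct.mk A B N 1) (a n)) :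
    Function.Bijective ((descended a).subtype.liftBaseChange B) := by
  let f : N →ₗ[A] B ⊗[A] N := a.restrictScalars A
  let g : N →ₗ[A] B ⊗[A] N := TensorProduct.mk A B N 1
  let Φ := LinearMap.tensorEqLocusEquiv B B f g
  let E := LinearMap.eqLocus (AlgebraTensorModule.lTensor B B f) (AlgebraTensorModule.lTensor B B g)
  -- the restriction of the counit to `E` is bijective
  have hE : Function.Bijective (fun x : E => eps A B N (x : B ⊗[A] N)) := by
    constructor
    · intro x y hxy
      have hx : LinearMap.lTensor B f (x : B ⊗[A] N) = LinearMap.lTensor B g (x : B ⊗[A] N) :=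
        x.2
      have hy : LinearMap.lTensor B f (y : B ⊗[A] N) = LinearMap.lTensor B g (y : B ⊗[A] N) :=
        y.2
      have h1 : a (eps A B N (x : B ⊗[A] N)) = (x : B ⊗[A] N) :=
        ((eps_lTensor_coaction a _).symm.trans (congrArg _ hx)).trans (eps_lTensor_mk _)
      have h2 : a (eps A B N (y : B ⊗[A] N)) = (y : B ⊗[A] N) :=
        ((eps_lTensor_coaction a _).symm.trans (congrArg _ hy)).trans (eps_lTensor_mk _)
      apply Subtype.ext
      have hxy' : eps A B N (x : B ⊗[A] N) = eps A B N (y : B ⊗[A] N) := hxy
      rw [← h1, ← h2, hxy']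
    · intro n
      exact ⟨⟨a n, hC n⟩, hU n⟩
  have hcomp : ∀ x : B ⊗[A] LinearMap.eqLocus f g,
      eps A B N ((Φ x : E) : B ⊗[A] N) =
        (LinearMap.eqLocus f g).subtype.liftBaseChange B x := by
    intro x
    rw [LinearMap.tensorEqLocusEquiv_apply, LinearMap.tensorEqLocus_coe]
    exact eps_lTensor _ x
  have : (fun x => (LinearMap.eqLocus f g).subtype.liftBaseChange B x) =
      (fun x : E => eps A B N (x : B ⊗[A] N)) ∘ Φ := by
    funext x
    exact (hcomp x).symm
  show Function.Bijective (fun x => (LinearMap.eqLocus f g).subtype.liftBaseChange B x)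
  rw [this]
  exact hE.comp Φ.bijective

end Module

section Algebra

variable {A B C : Type*} [CommRing A] [CommRing B] [CommRing C] [Algebra A B] [Algebra A C]
  [Algebra B C] [IsScalarTower A B C]

variable (a : C →ₐ[A] B ⊗[A] C)

/-- The coaction as a `B`-linear map. -/
noncomputable def coactionLin (hL : ∀ b : B, a (algebraMap B C b) = b ⊗ₜ[A] 1) :
    C →ₗ[B] B ⊗[A] C where
  toFun := a
  map_add' := map_add a
  map_smul' b c := by
    show a (b • c) = b • a c
    rw [Algebra.smul_def, map_mul, hL, Algebra.smul_def]
    rfl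

@[simp] theorem coactionLin_apply (hL : ∀ b : B, a (algebraMap B C b) = b ⊗ₜ[A] 1) (c : C) :
    coactionLin a hL c = a c := rfl

theorem lTensor_eq_map (x : B ⊗[A] C) :
    LinearMap.lTensor B a.toLinearMap x = Algebra.TensorProduct.map (AlgHom.id A B) a x := by
  induction x with
  | zero => simp
  | tmul b c => simp
  | add x y hx hy => simp only [map_add, hx, hy]

theorem lTensor_mk_eq_map (x : B ⊗[A] C) :
    LinearMap.lTensor B (TensorProduct.mk A B C 1) x =
      Algebra.TensorProduct.map (AlgHom.id A B)
        (Algebra.TensorProduct.includeRight : C →ₐ[A] B ⊗[A] C) x := by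
  induction x with
  | zero => simp
  | tmul b c => simp
  | add x y hx hy => simp only [map_add, hx, hy]

/-- The descended algebra. -/
noncomputable def descendedAlg : Subalgebra A C :=
  AlgHom.equalizer a (Algebra.TensorProduct.includeRight : C →ₐ[A] B ⊗[A] C)

theorem mem_descendedAlg {c : C} : c ∈ descendedAlg a ↔ a c = 1 ⊗ₜ[A] c := Iff.rfl

variable [Module.Flat A B]

/-- Effectivity of descent for algebras along a flat ring map: `C = B ⊗[A] C₀`. -/
theorem isPushout_descendedAlg (hL : ∀ b : B, a (algebraMap B C b) = b ⊗ₜ[A] 1)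
    (hU : ∀ c, eps A B C (a c) = c)
    (hC : ∀ c, Algebra.TensorProduct.map (AlgHom.id A B) a (a c) =
      Algebra.TensorProduct.map (AlgHom.id A B)
        (Algebra.TensorProduct.includeRight : C →ₐ[A] B ⊗[A] C) (a c)) :
    Algebra.IsPushout A B (descendedAlg a) C := by
  have hbij := bijective_liftBaseChange_descended (coactionLin a hL) hU (by
    intro c
    have h1 := lTensor_eq_map a (a c)
    have h2 := lTensor_mk_eq_map (A := A) (B := B) (a c)
    exact (h1.trans (hC c)).trans h2.symm)
  refine ⟨?_⟩
  let l : descendedAlg a →ₗ[A] C := (IsScalarTower.toAlgHom A (descendedAlg a) C).toLinearMap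
  have hl : (l.liftBaseChange B : B ⊗[A] descendedAlg a → C) =
      ((descended (coactionLin a hL)).subtype.liftBaseChange B : _ → C) := rfl
  have hbij' : Function.Bijective (l.liftBaseChange B) := by rw [hl]; exact hbij
  refine IsBaseChange.of_equiv (LinearEquiv.ofBijective (l.liftBaseChange B) hbij') ?_
  intro x
  simp [l]

end Algebra

end Groth.Agent.Helper2.AffDesc
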