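import Mathlib
import Groth.Agent.Lib.Helper2.Desc.AffDescAlg

/-!
# Effectivity of flat descent for algebras, in `CommRingCat`
-/

namespace Groth.Agent.Helper2.AffDesc
open CategoryTheory CategoryTheory.Limits TensorProduct
universe u

set_option maxHeartbeats 800000 in
/-- Ring-level effectivity of descent along a flat ring map, phrased with abstract pushouts. -/
theorem exists_descended_ring {A B C D D₂ : CommRingCat.{u}} (φp : A ⟶ B) (φπ : B ⟶ C)
    (hflat : φp.hom.Flat)
    (x₂ : B ⟶ D) (s : C ⟶ D) (PO₁ : IsPushout φp (φp ≫ φπ) x₂ s)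
    (t : C ⟶ D) (ht : φπ ≫ t = x₂)
    (Δ : D ⟶ C) (hΔ₁ : x₂ ≫ Δ = φπ) (hΔ₂ : s ≫ Δ = 𝟙 C) (hU : t ≫ Δ = 𝟙 C)
    (y : B ⟶ D₂) (r : D ⟶ D₂) (PO₂ : IsPushout φp (φp ≫ φπ ≫ s) y r)
    (et : D ⟶ D₂) (het₁ : x₂ ≫ et = y) (het₂ : s ≫ et = t ≫ r)
    (es : D ⟶ D₂) (hes₁ : x₂ ≫ es = y) (hes₂ : s ≫ es = s ≫ r)
    (hC : t ≫ et = t ≫ es) :
    ∃ (C₀ : CommRingCat.{u}) (ι : C₀ ⟶ C) (α : A ⟶ C₀),
      IsPushout φp α φπ ι ∧ ι ≫ s = ι ≫ t := by
  letI : Algebra A B := φp.hom.toAlgebra
  letI : Algebra B C := φπ.hom.toAlgebra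
  letI : Algebra A C := (φp ≫ φπ).hom.toAlgebra
  haveI : IsScalarTower A B C := IsScalarTower.of_algebraMap_eq (fun _ => rfl)
  haveI : Module.Flat A B := hflat
  -- identify `D` with the tensor product
  have TP₁ := CommRingCat.isPushout_tensorProduct A B C
  let eD : CommRingCat.of (B ⊗[A] C) ≅ D := TP₁.isoIsPushout _ _ PO₁
  have heDl : CommRingCat.ofHom (S := B ⊗[A] C) Algebra.TensorProduct.includeLeftRingHom ≫
      eD.hom = x₂ := TP₁.inl_isoIsPushout_hom _ _ PO₁
  have heDr : CommRingCat.ofHom (S := B ⊗[A] C)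
      (Algebra.TensorProduct.includeRight : C →ₐ[A] B ⊗[A] C).toRingHom ≫ eD.hom = s :=
    TP₁.inr_isoIsPushout_hom _ _ PO₁
  have heDl' : x₂ ≫ eD.inv = CommRingCat.ofHom (S := B ⊗[A] C)
      Algebra.TensorProduct.includeLeftRingHom := by
    rw [← heDl, Category.assoc, Iso.hom_inv_id, Category.comp_id]
  have heDr' : s ≫ eD.inv = CommRingCat.ofHom (S := B ⊗[A] C)
      (Algebra.TensorProduct.includeRight : C →ₐ[A] B ⊗[A] C).toRingHom := by
    rw [← heDr, Category.assoc, Iso.hom_inv_id, Category.comp_id]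
  -- the coaction
  let a₀ : C ⟶ CommRingCat.of (B ⊗[A] C) := t ≫ eD.inv
  have hL : ∀ b : B, a₀.hom (algebraMap B C b) = b ⊗ₜ[A] (1 : C) := by
    intro b
    have h1 : φπ ≫ a₀ = CommRingCat.ofHom (S := B ⊗[A] C)
        Algebra.TensorProduct.includeLeftRingHom := by
      show φπ ≫ t ≫ eD.inv = _
      rw [← Category.assoc, ht, heDl']
    exact congrArg (fun m => m.hom b) h1
  let a : C →ₐ[A] B ⊗[A] C :=
    { toRingHom := a₀.hom
      commutes' := by
        intro x
        have e1 : algebraMap A C x = algebraMap B C (algebraMap A B x) := rfl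
        show a₀.hom (algebraMap A C x) = _
        rw [e1, hL, Algebra.TensorProduct.algebraMap_apply] }
  have ha : ∀ c, a c = a₀.hom c := fun _ => rfl
  -- counit
  have hμ : ∀ x : B ⊗[A] C, eps A B C x = Δ.hom (eD.hom.hom x) := by
    intro x
    induction x with
    | zero => simp
    | tmul b c =>
      have e1 : (b ⊗ₜ[A] c : B ⊗[A] C) =
          Algebra.TensorProduct.includeLeftRingHom b *
            (Algebra.TensorProduct.includeRight : C →ₐ[A] B ⊗[A] C) c := by
        simp
      have e2 : Δ.hom (eD.hom.hom (Algebra.TensorProduct.includeLeftRingHom b)) = φπ.hom b := by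
        have := congrArg (fun m => m.hom b) hΔ₁
        rw [← heDl] at this
        exact this
      have e3 : Δ.hom (eD.hom.hom ((Algebra.TensorProduct.includeRight : C →ₐ[A] B ⊗[A] C) c)) =
          c := by
        have := congrArg (fun m => m.hom c) hΔ₂
        rw [← heDr] at this
        exact this
      rw [eps_tmul, e1, map_mul, map_mul, e2, e3, Algebra.smul_def]
      rfl
    | add x y hx hy => simp only [map_add, hx, hy]
  have hU' : ∀ c, eps A B C (a c) = c := by
    intro c
    rw [hμ, ha]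
    show Δ.hom (eD.hom.hom (eD.inv.hom (t.hom c))) = c
    have h1 : eD.hom.hom (eD.inv.hom (t.hom c)) = t.hom c := by
      have := congrArg (fun m => m.hom (t.hom c)) eD.inv_hom_id
      exact this
    rw [h1]
    exact congrArg (fun m => m.hom c) hU
  -- identify `D₂` with the iterated tensor product
  have TP₂ := CommRingCat.isPushout_tensorProduct A B (B ⊗[A] C)
  have hg : (φp ≫ φπ ≫ s) ≫ eD.symm.hom =
      (Iso.refl A).hom ≫ CommRingCat.ofHom (algebraMap A (B ⊗[A] C)) := by
    show (φp ≫ φπ ≫ s) ≫ eD.inv = 𝟙 A ≫ _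
    rw [Category.id_comp, Category.assoc, Category.assoc, heDr']
    ext x
    show (1 : B) ⊗ₜ[A] (algebraMap A C x) = algebraMap A (B ⊗[A] C) x
    rw [Algebra.TensorProduct.algebraMap_apply, Algebra.algebraMap_eq_smul_one,
      Algebra.algebraMap_eq_smul_one, TensorProduct.smul_tmul]
  have PO₂' : IsPushout φp (CommRingCat.ofHom (algebraMap A (B ⊗[A] C))) y (eD.hom ≫ r) :=
    PO₂.of_iso (Iso.refl A) (Iso.refl B) eD.symm (Iso.refl D₂)
      (by simp) hg (by simp) (by simp)
  let eD₂ : CommRingCat.of (B ⊗[A] (B ⊗[A] C)) ≅ D₂ := TP₂.isoIsPushout _ _ PO₂'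
  have heD₂l : CommRingCat.ofHom (S := B ⊗[A] (B ⊗[A] C))
      Algebra.TensorProduct.includeLeftRingHom ≫ eD₂.hom = y :=
    TP₂.inl_isoIsPushout_hom _ _ PO₂'
  have heD₂r : CommRingCat.ofHom (S := B ⊗[A] (B ⊗[A] C))
      (Algebra.TensorProduct.includeRight : (B ⊗[A] C) →ₐ[A] B ⊗[A] (B ⊗[A] C)).toRingHom ≫
      eD₂.hom = eD.hom ≫ r := TP₂.inr_isoIsPushout_hom _ _ PO₂'
  have hM1 : CommRingCat.ofHom (Algebra.TensorProduct.map (AlgHom.id A B) a).toRingHom ≫
      eD₂.hom = eD.hom ≫ et := by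
    apply TP₁.hom_ext
    · have e1 : CommRingCat.ofHom (S := B ⊗[A] C) Algebra.TensorProduct.includeLeftRingHom ≫
          CommRingCat.ofHom (Algebra.TensorProduct.map (AlgHom.id A B) a).toRingHom =
          CommRingCat.ofHom (S := B ⊗[A] (B ⊗[A] C))
            Algebra.TensorProduct.includeLeftRingHom := by
        ext b
        simp
      rw [← Category.assoc, e1, heD₂l, ← Category.assoc, heDl, het₁]
    · have e1 : CommRingCat.ofHom (S := B ⊗[A] C)
          (Algebra.TensorProduct.includeRight : C →ₐ[A] B ⊗[A] C).toRingHom ≫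
          CommRingCat.ofHom (Algebra.TensorProduct.map (AlgHom.id A B) a).toRingHom =
          a₀ ≫ CommRingCat.ofHom (S := B ⊗[A] (B ⊗[A] C))
            (Algebra.TensorProduct.includeRight :
              (B ⊗[A] C) →ₐ[A] B ⊗[A] (B ⊗[A] C)).toRingHom := by
        ext c
        show Algebra.TensorProduct.map (AlgHom.id A B) a ((1 : B) ⊗ₜ[A] c) =
          (1 : B) ⊗ₜ[A] (a₀.hom c)
        simp [ha]
      rw [← Category.assoc, e1, Category.assoc, heD₂r]
      have e2 : CommRingCat.ofHom (S := B ⊗[A] C)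
          (Algebra.TensorProduct.includeRight : C →ₐ[A] B ⊗[A] C).toRingHom ≫ eD.hom ≫ et =
          t ≫ r := by rw [← Category.assoc, heDr, het₂]
      have e3 : a₀ ≫ eD.hom ≫ r = t ≫ r := by
        show (t ≫ eD.inv) ≫ eD.hom ≫ r = _
        rw [Category.assoc, Iso.inv_hom_id_assoc]
      rw [e2, e3]
  have hM2 : CommRingCat.ofHom (Algebra.TensorProduct.map (AlgHom.id A B)
      (Algebra.TensorProduct.includeRight : C →ₐ[A] B ⊗[A] C)).toRingHom ≫
      eD₂.hom = eD.hom ≫ es := by
    apply TP₁.hom_ext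
    · have e1 : CommRingCat.ofHom (S := B ⊗[A] C) Algebra.TensorProduct.includeLeftRingHom ≫
          CommRingCat.ofHom (Algebra.TensorProduct.map (AlgHom.id A B)
            (Algebra.TensorProduct.includeRight : C →ₐ[A] B ⊗[A] C)).toRingHom =
          CommRingCat.ofHom (S := B ⊗[A] (B ⊗[A] C))
            Algebra.TensorProduct.includeLeftRingHom := by
        ext b
        simp
      rw [← Category.assoc, e1, heD₂l, ← Category.assoc, heDl, hes₁]
    · have e1 : CommRingCat.ofHom (S := B ⊗[A] C)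
          (Algebra.TensorProduct.includeRight : C →ₐ[A] B ⊗[A] C).toRingHom ≫
          CommRingCat.ofHom (Algebra.TensorProduct.map (AlgHom.id A B)
            (Algebra.TensorProduct.includeRight : C →ₐ[A] B ⊗[A] C)).toRingHom =
          CommRingCat.ofHom (S := B ⊗[A] C)
            (Algebra.TensorProduct.includeRight : C →ₐ[A] B ⊗[A] C).toRingHom ≫
          CommRingCat.ofHom (S := B ⊗[A] (B ⊗[A] C))
            (Algebra.TensorProduct.includeRight :
              (B ⊗[A] C) →ₐ[A] B ⊗[A] (B ⊗[A] C)).toRingHom := by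
        ext c
        simp
      rw [← Category.assoc, e1, Category.assoc, heD₂r, ← Category.assoc, ← Category.assoc, heDr,
        hes₂]
  have heDinv : ∀ c : C, eD.hom.hom (a c) = t.hom c := by
    intro c
    show eD.hom.hom (eD.inv.hom (t.hom c)) = t.hom c
    exact congrArg (fun m => m.hom (t.hom c)) eD.inv_hom_id
  have hC' : ∀ c, Algebra.TensorProduct.map (AlgHom.id A B) a (a c) =
      Algebra.TensorProduct.map (AlgHom.id A B)
        (Algebra.TensorProduct.includeRight : C →ₐ[A] B ⊗[A] C) (a c) := by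
    intro c
    have hinj : Function.Injective eD₂.hom.hom :=
      (ConcreteCategory.bijective_of_isIso eD₂.hom).1
    apply hinj
    have h1 := congrArg (fun m => m.hom (a c)) hM1
    have h2 := congrArg (fun m => m.hom (a c)) hM2
    have h3 : et.hom (eD.hom.hom (a c)) = es.hom (eD.hom.hom (a c)) := by
      rw [heDinv]
      exact congrArg (fun m => m.hom c) hC
    exact (h1.trans h3).trans h2.symm
  have hPO : Algebra.IsPushout A B (descendedAlg a) C :=
    isPushout_descendedAlg a (fun b => hL b) hU' hC'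
  refine ⟨CommRingCat.of (descendedAlg a), CommRingCat.ofHom (algebraMap (descendedAlg a) C),
    CommRingCat.ofHom (algebraMap A (descendedAlg a)), ?_, ?_⟩
  · exact CommRingCat.isPushout_of_isPushout A B (descendedAlg a) C
  · ext c
    have hc : a (c : C) = (1 : B) ⊗ₜ[A] (c : C) := c.2
    have h1 : eD.hom.hom (a (c : C)) = t.hom (c : C) := heDinv c
    have h2 : eD.hom.hom ((1 : B) ⊗ₜ[A] (c : C)) = s.hom (c : C) :=
      congrArg (fun m => m.hom (c : C)) heDr
    show s.hom (c : C) = t.hom (c : C)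
    rw [← h1, ← h2, hc]

end Groth.Agent.Helper2.AffDesc
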