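import Mathlib
import Groth.Agent.Lib.Helper2.Desc.AffDescRing

/-!
# Effectivity of flat descent for affine schemes over an affine base
-/

namespace Groth.Agent.Helper2.AffDesc
open CategoryTheory CategoryTheory.Limits AlgebraicGeometry
universe u

/-- Effectivity of descent for affine schemes along a flat morphism of affine schemes.  The
descent datum on `π : V ⟶ X` relative to `p : X ⟶ S` is given in groupoid form: `R = X ×_S V`
with the projection `s` and the "action" `t`, satisfying the unit and cocycle conditions. -/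
theorem exists_affine_descent {S X V R R₂ : Scheme.{u}} [IsAffine S] [IsAffine X] [IsAffine V]
    (p : X ⟶ S) [Flat p] (π : V ⟶ X)
    (x₂ : R ⟶ X) (s : R ⟶ V) (sqR : IsPullback x₂ s p (π ≫ p))
    (t : R ⟶ V) (ht : t ≫ π = x₂)
    (Δ : V ⟶ R) (hΔ₁ : Δ ≫ x₂ = π) (hΔ₂ : Δ ≫ s = 𝟙 V) (hU : Δ ≫ t = 𝟙 V)
    (y : R₂ ⟶ X) (r : R₂ ⟶ R) (sqR₂ : IsPullback y r p (s ≫ π ≫ p))
    (et : R₂ ⟶ R) (het₁ : et ≫ x₂ = y) (het₂ : et ≫ s = r ≫ t)
    (es : R₂ ⟶ R) (hes₁ : es ≫ x₂ = y) (hes₂ : es ≫ s = r ≫ s)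
    (hC : et ≫ t = es ≫ t) :
    ∃ (U : Scheme.{u}) (q : V ⟶ U) (u : U ⟶ S),
      IsAffine U ∧ IsPullback π q p u ∧ s ≫ q = t ≫ q := by
  haveI hRa : IsAffine R := IsAffine.of_isPullback sqR
  haveI hR₂a : IsAffine R₂ := IsAffine.of_isPullback sqR₂
  have PO₁ : IsPushout p.appTop (p.appTop ≫ π.appTop) x₂.appTop s.appTop := by
    have := isPushout_appTop_of_isPullback sqR
    rwa [Scheme.Hom.comp_appTop] at this
  have PO₂ : IsPushout p.appTop (p.appTop ≫ π.appTop ≫ s.appTop) y.appTop r.appTop := by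
    have := isPushout_appTop_of_isPullback sqR₂
    rwa [Scheme.Hom.comp_appTop, Scheme.Hom.comp_appTop, Category.assoc] at this
  have hflat : p.appTop.hom.Flat := Scheme.Hom.flat_appTop p
  have tr : ∀ {P Q W : Scheme.{u}} (f : P ⟶ Q) (g : Q ⟶ W) (h : P ⟶ W), f ≫ g = h →
      g.appTop ≫ f.appTop = h.appTop := by
    intro P Q W f g h e
    rw [← Scheme.Hom.comp_appTop, e]
  obtain ⟨C₀, ι, α, PO, hι⟩ := exists_descended_ring p.appTop π.appTop hflat x₂.appTop s.appTop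
    PO₁ t.appTop (tr t π x₂ ht) Δ.appTop (tr Δ x₂ π hΔ₁)
    (by rw [tr Δ s (𝟙 V) hΔ₂]; rfl) (by rw [tr Δ t (𝟙 V) hU]; rfl)
    y.appTop r.appTop PO₂ et.appTop (tr et x₂ y het₁)
    (by rw [tr et s (r ≫ t) het₂, Scheme.Hom.comp_appTop])
    es.appTop (tr es x₂ y hes₁)
    (by rw [tr es s (r ≫ s) hes₂, Scheme.Hom.comp_appTop])
    (by rw [tr et t (es ≫ t) hC, Scheme.Hom.comp_appTop])
  refine ⟨Spec C₀, V.isoSpec.hom ≫ Spec.map ι, Spec.map α ≫ S.isoSpec.inv, inferInstance, ?_, ?_⟩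
  · have h0 := isPullback_SpecMap_of_isPushout p.appTop α π.appTop ι PO
    refine h0.of_iso V.isoSpec.symm X.isoSpec.symm (Iso.refl _) S.isoSpec.symm ?_ ?_ ?_ ?_
    · exact Scheme.isoSpec_inv_naturality π
    · simp
    · exact Scheme.isoSpec_inv_naturality p
    · simp
  · rw [← Scheme.isoSpec_hom_naturality_assoc, ← Scheme.isoSpec_hom_naturality_assoc,
      ← Spec.map_comp, ← Spec.map_comp, hι]

end Groth.Agent.Helper2.AffDesc
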