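import Mathlib

/-!
# Morphisms to a coproduct of schemes are coproducts of their restrictions (helper2)
-/

set_option autoImplicit false
set_option backward.isDefEq.respectTransparency false
universe v u
open CategoryTheory CategoryTheory.Limits AlgebraicGeometry Opposite

namespace Groth.Agent.Helper2.SigmaVK

section VK

variable {σ : Type v} [Small.{u} σ] (Y : σ → Scheme.{u}) {E : Scheme.{u}} (h : E ⟶ ∐ Y)

/-- the pieces of `E` over the components of the coproduct -/
noncomputable abbrev piece (k : σ) : Scheme.{u} := pullback h (Sigma.ι Y k)

/-- the inclusions of the pieces -/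
noncomputable abbrev pieceι (k : σ) : piece Y h k ⟶ E := pullback.fst h (Sigma.ι Y k)

/-- the structure morphisms of the pieces -/
noncomputable abbrev pieceHom (k : σ) : piece Y h k ⟶ Y k := pullback.snd h (Sigma.ι Y k)

open scoped Function in
instance isIso_desc_pieceι : IsIso (Sigma.desc (pieceι Y h)) := by
  have hcol : Nonempty (IsColimit (Cofan.mk E (pieceι Y h))) := by
    apply nonempty_isColimit_cofanMk_of
    · rw [eq_top_iff]
      intro x _
      obtain ⟨k, y, hy⟩ := (sigmaOpenCover Y).exists_eq (h.base x)
      have hx : x ∈ (pieceι Y h k).opensRange := by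
        rw [Scheme.Hom.opensRange_pullbackFst]
        exact ⟨y, hy⟩
      exact TopologicalSpace.Opens.mem_iSup.mpr ⟨k, hx⟩
    · intro k l hkl
      rw [Function.onFun_apply, Scheme.Hom.opensRange_pullbackFst,
        Scheme.Hom.opensRange_pullbackFst]
      have hd := disjoint_opensRange_sigmaι Y k l hkl
      rw [disjoint_iff] at hd ⊢
      rw [← Scheme.Hom.preimage_inf, hd]
      rfl
  have := (Cofan.nonempty_isColimit_iff_isIso_sigmaDesc (Cofan.mk E (pieceι Y h))).mp hcol
  simpa using this

lemma desc_pieceι_comp : Sigma.desc (pieceι Y h) ≫ h = Limits.Sigma.map (pieceHom Y h) := by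
  apply Sigma.hom_ext
  intro k
  rw [Sigma.ι_desc_assoc, Sigma.ι_map]
  exact pullback.condition

/-- A morphism to a coproduct has a property stable under coproducts and isomorphisms as soon as
its restrictions to the components have it. -/
theorem prop_of_pieces (P : MorphismProperty Scheme.{u}) [P.RespectsIso]
    (hP : P (Limits.Sigma.map (pieceHom Y h))) : P h := by
  rw [← desc_pieceι_comp] at hP
  exact (P.cancel_left_of_respectsIso _ _).mp hP

end VK

end Groth.Agent.Helper2.SigmaVK
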