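import Mathlib
import Groth.Prelude.Def_DescFam
import Groth.Agent.Lib.Helper5.Misc.DescFam
import Groth.Agent.Lib.Helper5.Misc.DescFam2
import Groth.Agent.Lib.Helper5.Misc.DescFam3

/-!
# Sections of the quotient of a descent datum (helper2)

For a descent datum `D` relative to a family `f i : X i ⟶ S`, a *section* over a scheme `T` is a
morphism `t : T ⟶ S` together with a morphism of descent data from the canonical descent datum of
`T` to `D`.  (If `D` is the canonical descent datum of `U`, these are the morphisms `T ⟶ U`.)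
We give a pointwise API for sections.
-/

set_option autoImplicit false
set_option backward.isDefEq.respectTransparency false
universe u
open CategoryTheory CategoryTheory.Limits AlgebraicGeometry Opposite Desc

namespace Groth.Agent.Helper2.DescSec

open Groth.Agent.Lib.Helper5.DescFam

variable {S : Scheme.{u}} {ι : Type u} {X : ι → Scheme.{u}} {f : ∀ i, X i ⟶ S}

/-- A section of the quotient of `D` over `T`. -/
structure Sec (D : SchDDFam f) (T : Scheme.{u}) where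
  /-- the structure morphism -/
  t : T ⟶ S
  /-- the morphism of descent data -/
  a : (toDDFam f).obj (Over.mk t) ⟶ D

/-- The point of the canonical descent datum of `t : T ⟶ S` given by `g : T' ⟶ T` and
`x : T' ⟶ X i`. -/
noncomputable def cpt {T : Scheme.{u}} (t : T ⟶ S) {T' : Scheme.{u}} {i : ι} (g : T' ⟶ T)
    (x : T' ⟶ X i) (h : x ≫ f i = g ≫ t) : Lifts (((toDDFam f).obj (Over.mk t)).obj i) x :=
  ⟨pullback.lift x g h, pullback.lift_fst _ _ _⟩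

@[simp] lemma cpt_val {T : Scheme.{u}} (t : T ⟶ S) {T' : Scheme.{u}} {i : ι} (g : T' ⟶ T)
    (x : T' ⟶ X i) (h : x ≫ f i = g ≫ t) : (cpt t g x h).1 = pullback.lift x g h := rfl

lemma cpt_snd {T : Scheme.{u}} (t : T ⟶ S) {T' : Scheme.{u}} {i : ι}
    {x : T' ⟶ X i} (v : Lifts (((toDDFam f).obj (Over.mk t)).obj i) x) :
    x ≫ f i = (v.1 ≫ pullback.snd (f i) t) ≫ t := by
  have e : v.1 ≫ pullback.fst (f i) t = x := v.2
  rw [Category.assoc, ← pullback.condition, ← Category.assoc, e]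

lemma eq_cpt {T : Scheme.{u}} (t : T ⟶ S) {T' : Scheme.{u}} {i : ι}
    {x : T' ⟶ X i} (v : Lifts (((toDDFam f).obj (Over.mk t)).obj i) x) :
    v = cpt t (v.1 ≫ pullback.snd (f i) t) x (cpt_snd t v) := by
  apply Subtype.ext
  apply pullback.hom_ext
  · refine Eq.trans ?_ (pullback.lift_fst _ _ _).symm
    exact v.2
  · exact (pullback.lift_snd _ _ _).symm

lemma cpt_congr {T : Scheme.{u}} (t : T ⟶ S) {T' : Scheme.{u}} {i : ι} {g g' : T' ⟶ T}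
    (x : T' ⟶ X i) (h : x ≫ f i = g ≫ t) (hg : g = g') :
    cpt t g x h = cpt t g' x (by rw [← hg]; exact h) := by
  subst hg; rfl

lemma canφ_cpt {T : Scheme.{u}} (t : T ⟶ S) {T' : Scheme.{u}} {i j : ι} (g : T' ⟶ T)
    (x₀ : T' ⟶ X i) (x₁ : T' ⟶ X j) (h₀ : x₀ ≫ f i = g ≫ t) (h₁ : x₁ ≫ f j = g ≫ t) :
    ((toDDFam f).obj (Over.mk t)).φ x₀ x₁ (h₀.trans h₁.symm) (cpt t g x₀ h₀) = cpt t g x₁ h₁ := by
  apply Subtype.ext
  apply pullback.hom_ext
  · simp [toDDFam, canonicalDDFam]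
  · simp [toDDFam, canonicalDDFam]

lemma res_cpt {T : Scheme.{u}} (t : T ⟶ S) {T' T'' : Scheme.{u}} {i : ι} (k : T'' ⟶ T')
    (g : T' ⟶ T) (x : T' ⟶ X i) (h : x ≫ f i = g ≫ t) :
    (cpt t (k ≫ g) (k ≫ x) (by rw [Category.assoc, h, Category.assoc])).1 =
      k ≫ (cpt t g x h).1 := by
  apply pullback.hom_ext <;> simp

/-- The image under `toDDFam.map` of a canonical point. -/
lemma push_map_cpt {T T₁ : Scheme.{u}} (t : T ⟶ S) (t₁ : T₁ ⟶ S) (k : Over.mk t₁ ⟶ Over.mk t)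
    {T' : Scheme.{u}} {i : ι} (g : T' ⟶ T₁) (x : T' ⟶ X i) (h : x ≫ f i = g ≫ t₁) :
    SchDDFam.Hom.push ((toDDFam f).map k) (cpt t₁ g x h) =
      cpt t (g ≫ k.left) x (by
        have := Over.w k
        simp only [Over.mk_hom] at this
        rw [Category.assoc, this, h]) := by
  apply Subtype.ext
  apply pullback.hom_ext
  · simp [toDDFam]
  · simp [toDDFam]

namespace Sec

variable {D : SchDDFam f} {T : Scheme.{u}}

/-- The value of a section at a point. -/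
noncomputable def pt (s : Sec D T) {T' : Scheme.{u}} {i : ι} (g : T' ⟶ T) (x : T' ⟶ X i)
    (h : x ≫ f i = g ≫ s.t) : Lifts (D.obj i) x :=
  SchDDFam.Hom.push s.a (cpt s.t g x h)

lemma pt_congr (s : Sec D T) {T' : Scheme.{u}} {i : ι} {g g' : T' ⟶ T} (x : T' ⟶ X i)
    (h : x ≫ f i = g ≫ s.t) (hg : g = g') :
    s.pt g x h = s.pt g' x (by rw [← hg]; exact h) := by
  subst hg; rfl

lemma pt_nat (s : Sec D T) {T' T'' : Scheme.{u}} {i : ι} (k : T'' ⟶ T') (g : T' ⟶ T)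
    (x : T' ⟶ X i) (h : x ≫ f i = g ≫ s.t) (h' : (k ≫ x) ≫ f i = (k ≫ g) ≫ s.t) :
    (s.pt (k ≫ g) (k ≫ x) h').1 = k ≫ (s.pt g x h).1 :=
  push_nat s.a k _ _ (res_cpt s.t k g x h)

lemma pt_comm (s : Sec D T) {T' : Scheme.{u}} {i j : ι} (g : T' ⟶ T)
    (x₀ : T' ⟶ X i) (x₁ : T' ⟶ X j) (h₀ : x₀ ≫ f i = g ≫ s.t) (h₁ : x₁ ≫ f j = g ≫ s.t) :
    D.φ x₀ x₁ (h₀.trans h₁.symm) (s.pt g x₀ h₀) = s.pt g x₁ h₁ := by
  unfold pt
  rw [push_φ, canφ_cpt]

/-- Restriction of a section. -/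
noncomputable def res (s : Sec D T) {T₁ : Scheme.{u}} (k : T₁ ⟶ T) : Sec D T₁ where
  t := k ≫ s.t
  a := (toDDFam f).map (Over.homMk k rfl : Over.mk (k ≫ s.t) ⟶ Over.mk s.t) ≫ s.a

@[simp] lemma res_t (s : Sec D T) {T₁ : Scheme.{u}} (k : T₁ ⟶ T) : (s.res k).t = k ≫ s.t := rfl

lemma res_pt (s : Sec D T) {T₁ : Scheme.{u}} (k : T₁ ⟶ T) {T' : Scheme.{u}} {i : ι}
    (g : T' ⟶ T₁) (x : T' ⟶ X i) (h : x ≫ f i = g ≫ (s.res k).t) :
    (s.res k).pt g x h = s.pt (g ≫ k) x (by rw [h, res_t, Category.assoc]) := by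
  unfold pt res
  rw [push_comp, push_map_cpt]
  rfl

/-- Extensionality for sections, pointwise. -/
lemma ext_pt {s s' : Sec D T} (ht : s.t = s'.t)
    (h : ∀ ⦃T' : Scheme.{u}⦄ ⦃i : ι⦄ (g : T' ⟶ T) (x : T' ⟶ X i) (hh : x ≫ f i = g ≫ s.t),
      s.pt g x hh = s'.pt g x (hh.trans (by rw [ht]))) : s = s' := by
  obtain ⟨t, a⟩ := s
  obtain ⟨t', a'⟩ := s'
  dsimp only at ht
  subst ht
  congr 1
  apply hom_ext_push
  intro i
  have h1 := h (pullback.snd (f i) t) (pullback.fst (f i) t) pullback.condition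
  have h2 : cpt t (pullback.snd (f i) t) (pullback.fst (f i) t) pullback.condition =
      univ (((toDDFam f).obj (Over.mk t)).obj i) := by
    apply Subtype.ext
    apply pullback.hom_ext
    · refine (pullback.lift_fst _ _ _).trans ?_
      exact (Category.id_comp _).symm
    · refine (pullback.lift_snd _ _ _).trans ?_
      exact (Category.id_comp _).symm
  unfold pt at h1
  rw [h2] at h1
  exact h1

/-- Construction of a section from its values at points. -/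
noncomputable def mk' (t : T ⟶ S)
    (m : ∀ ⦃T' : Scheme.{u}⦄ ⦃i : ι⦄ (g : T' ⟶ T) (x : T' ⟶ X i), x ≫ f i = g ≫ t →
      Lifts (D.obj i) x)
    (nat : ∀ ⦃T' T'' : Scheme.{u}⦄ ⦃i : ι⦄ (k : T'' ⟶ T') (g : T' ⟶ T) (x : T' ⟶ X i)
      (h : x ≫ f i = g ≫ t) (h' : (k ≫ x) ≫ f i = (k ≫ g) ≫ t),
      (m (k ≫ g) (k ≫ x) h').1 = k ≫ (m g x h).1)
    (comm : ∀ ⦃T' : Scheme.{u}⦄ ⦃i j : ι⦄ (g : T' ⟶ T) (x₀ : T' ⟶ X i) (x₁ : T' ⟶ X j)
      (h₀ : x₀ ≫ f i = g ≫ t) (h₁ : x₁ ≫ f j = g ≫ t),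
      D.φ x₀ x₁ (h₀.trans h₁.symm) (m g x₀ h₀) = m g x₁ h₁) : Sec D T where
  t := t
  a := PtMap.toHom
    { m := fun T' i x v => m (v.1 ≫ pullback.snd (f i) t) x (cpt_snd t v)
      nat := fun T' T'' k i x y v v' hv => by
        have hy : k ≫ x = y := hom_eq_of_lifts k v v' hv
        subst hy
        have e : v'.1 ≫ pullback.snd (f i) t = k ≫ v.1 ≫ pullback.snd (f i) t := by
          rw [hv, Category.assoc]
        have h1 := nat k (v.1 ≫ pullback.snd (f i) t) x (cpt_snd t v)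
          (by rw [← e]; exact cpt_snd t v')
        rw [← h1]
        have hc : ∀ (g₁ g₂ : T'' ⟶ T) (hg : g₁ = g₂) (hh₁ : (k ≫ x) ≫ f i = g₁ ≫ t)
            (hh₂ : (k ≫ x) ≫ f i = g₂ ≫ t), (m g₁ (k ≫ x) hh₁).1 = (m g₂ (k ≫ x) hh₂).1 := by
          intro g₁ g₂ hg hh₁ hh₂
          subst hg
          rfl
        exact hc _ _ e _ _
      comm := fun T' i j x₀ x₁ h v => by
        have e : (((toDDFam f).obj (Over.mk t)).φ x₀ x₁ h v).1 ≫ pullback.snd (f j) t =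
            v.1 ≫ pullback.snd (f i) t := by
          simp [toDDFam, canonicalDDFam]
        have h1 := comm (v.1 ≫ pullback.snd (f i) t) x₀ x₁ (cpt_snd t v)
          (by rw [← e]; exact cpt_snd t _)
        rw [h1]
        have hc : ∀ (g₁ g₂ : T' ⟶ T) (hg : g₁ = g₂) (hh₁ : x₁ ≫ f j = g₁ ≫ t)
            (hh₂ : x₁ ≫ f j = g₂ ≫ t), m g₁ x₁ hh₁ = m g₂ x₁ hh₂ := by
          intro g₁ g₂ hg hh₁ hh₂
          subst hg
          rfl
        exact hc _ _ e _ _ }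

lemma mk'_pt (t : T ⟶ S)
    (m : ∀ ⦃T' : Scheme.{u}⦄ ⦃i : ι⦄ (g : T' ⟶ T) (x : T' ⟶ X i), x ≫ f i = g ≫ t →
      Lifts (D.obj i) x)
    (nat : ∀ ⦃T' T'' : Scheme.{u}⦄ ⦃i : ι⦄ (k : T'' ⟶ T') (g : T' ⟶ T) (x : T' ⟶ X i)
      (h : x ≫ f i = g ≫ t) (h' : (k ≫ x) ≫ f i = (k ≫ g) ≫ t),
      (m (k ≫ g) (k ≫ x) h').1 = k ≫ (m g x h).1)
    (comm : ∀ ⦃T' : Scheme.{u}⦄ ⦃i j : ι⦄ (g : T' ⟶ T) (x₀ : T' ⟶ X i) (x₁ : T' ⟶ X j)
      (h₀ : x₀ ≫ f i = g ≫ t) (h₁ : x₁ ≫ f j = g ≫ t),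
      D.φ x₀ x₁ (h₀.trans h₁.symm) (m g x₀ h₀) = m g x₁ h₁)
    {T' : Scheme.{u}} {i : ι} (g : T' ⟶ T) (x : T' ⟶ X i)
    (h : x ≫ f i = g ≫ t) : (mk' (D := D) t m nat comm).pt g x h = m g x h := by
  unfold pt mk'
  rw [PtMap.toHom_push]
  have hc : ∀ (g₁ g₂ : T' ⟶ T) (hg : g₁ = g₂) (hh₁ : x ≫ f i = g₁ ≫ t)
      (hh₂ : x ≫ f i = g₂ ≫ t), m g₁ x hh₁ = m g₂ x hh₂ := by
    intro g₁ g₂ hg hh₁ hh₂
    subst hg
    rfl
  exact hc _ _ (pullback.lift_snd _ _ _) _ _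

end Sec

end Groth.Agent.Helper2.DescSec
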