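import Mathlib
import Groth.Agent.Lib.Helper2.Desc.Sec

/-!
# The presheaf of sections of the quotient of a descent datum is a Zariski sheaf (helper2)
-/

set_option autoImplicit false
set_option backward.isDefEq.respectTransparency false
universe w u
open CategoryTheory CategoryTheory.Limits AlgebraicGeometry Opposite Desc

namespace Groth.Agent.Helper2.DescSec

open Groth.Agent.Lib.Helper5.DescFam

variable {S : Scheme.{u}} {ι : Type u} {X : ι → Scheme.{u}} {f : ∀ i, X i ⟶ S}

namespace Sec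

variable {D : SchDDFam f} {T : Scheme.{u}}

lemma pt_val_congr (s : Sec D T) {T' : Scheme.{u}} {i : ι} {g g' : T' ⟶ T} {x x' : T' ⟶ X i}
    (h : x ≫ f i = g ≫ s.t) (h' : x' ≫ f i = g' ≫ s.t) (hg : g = g') (hx : x = x') :
    (s.pt g x h).1 = (s.pt g' x' h').1 := by
  subst hg hx; rfl

lemma pt_val_congr_sec {s s' : Sec D T} (hs : s = s') {T' : Scheme.{u}} {i : ι} (g : T' ⟶ T)
    (x : T' ⟶ X i) (h : x ≫ f i = g ≫ s.t) (h' : x ≫ f i = g ≫ s'.t) :
    (s.pt g x h).1 = (s'.pt g x h').1 := by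
  subst hs; rfl

lemma res_id (s : Sec D T) : s.res (𝟙 T) = s := by
  refine ext_pt (Category.id_comp _) ?_
  intro T' i g x hh
  rw [res_pt]
  exact pt_congr s x _ (Category.comp_id g)

lemma res_comp (s : Sec D T) {T₁ T₂ : Scheme.{u}} (k : T₁ ⟶ T) (k' : T₂ ⟶ T₁) :
    s.res (k' ≫ k) = (s.res k).res k' := by
  refine ext_pt (Category.assoc _ _ _) ?_
  intro T' i g x hh
  rw [res_pt, res_pt, res_pt]
  exact pt_congr s x _ (Category.assoc _ _ _).symm

/-- the value of a restricted section, as a morphism -/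
lemma res_pt_val (s : Sec D T) {T₁ : Scheme.{u}} (k : T₁ ⟶ T) {T' : Scheme.{u}} {i : ι}
    (g : T' ⟶ T₁) (x : T' ⟶ X i) (h : x ≫ f i = g ≫ (s.res k).t)
    (h' : x ≫ f i = (g ≫ k) ≫ s.t) :
    ((s.res k).pt g x h).1 = (s.pt (g ≫ k) x h').1 := by
  rw [res_pt]

/-- the value of a section at a point, through the restricted section at the identity -/
lemma pt_val_eq_res (s : Sec D T) {T' : Scheme.{u}} {i : ι} (g : T' ⟶ T) (x : T' ⟶ X i)
    (h : x ≫ f i = g ≫ s.t) :
    (s.pt g x h).1 = ((s.res g).pt (𝟙 T') x (by rw [res_t, Category.id_comp]; exact h)).1 := by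
  rw [res_pt]
  exact pt_val_congr s _ _ (Category.id_comp g).symm rfl

end Sec

/-- The presheaf of sections of the quotient of `D`. -/
noncomputable def secFunctor (D : SchDDFam f) : Scheme.{u}ᵒᵖ ⥤ Type u where
  obj T := Sec D T.unop
  map {T V} g := ↾fun s => s.res g.unop
  map_id T := by
    ext s
    exact Sec.res_id s
  map_comp {T V W} g g' := by
    ext s
    exact Sec.res_comp s g.unop g'.unop

@[simp] lemma secFunctor_map (D : SchDDFam f) {T V : Scheme.{u}} (g : V ⟶ T) (s : Sec D T) :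
    (secFunctor D).map g.op s = s.res g := rfl

section Glue

variable {D : SchDDFam f} {T : Scheme.{u}} {J : Type w} {C : J → Scheme.{u}} (c : ∀ b, C b ⟶ T)
  (hc : Presieve.ofArrows C c ∈ Scheme.fpqcPrecoverage T)
  (xx : ∀ b, Sec D (C b))
  (hxx : ∀ (b b' : J) (Z : Scheme.{u}) (g₁ : Z ⟶ C b) (g₂ : Z ⟶ C b'), g₁ ≫ c b = g₂ ≫ c b' →
    (xx b).res g₁ = (xx b').res g₂)

include hc hxx in
lemma exists_glue_t : ∃! t : T ⟶ S, ∀ b, c b ≫ t = (xx b).t :=
  glue_fpqc c hc (fun b => (xx b).t) (fun b b' Z g₁ g₂ h => by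
    have := congrArg Sec.t (hxx b b' Z g₁ g₂ h)
    simpa using this)

/-- the glued structure morphism -/
noncomputable def glueT : T ⟶ S := (exists_glue_t c hc xx hxx).exists.choose

lemma c_glueT (b : J) : c b ≫ glueT c hc xx hxx = (xx b).t :=
  (exists_glue_t c hc xx hxx).exists.choose_spec b

lemma glue_cond {T' : Scheme.{u}} {i : ι} (g : T' ⟶ T) (x : T' ⟶ X i)
    (h : x ≫ f i = g ≫ glueT c hc xx hxx) (b : J) :
    (pullback.fst g (c b) ≫ x) ≫ f i = pullback.snd g (c b) ≫ (xx b).t := by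
  rw [Category.assoc, h, ← Category.assoc, pullback.condition, Category.assoc, c_glueT]

include hxx in
lemma glue_compat {T' : Scheme.{u}} {i : ι} (g : T' ⟶ T) (x : T' ⟶ X i)
    (h : x ≫ f i = g ≫ glueT c hc xx hxx) (b b' : J) (Z : Scheme.{u})
    (g₁ : Z ⟶ pullback g (c b)) (g₂ : Z ⟶ pullback g (c b'))
    (hg : g₁ ≫ pullback.fst g (c b) = g₂ ≫ pullback.fst g (c b')) :
    g₁ ≫ ((xx b).pt (pullback.snd g (c b)) (pullback.fst g (c b) ≫ x)
        (glue_cond c hc xx hxx g x h b)).1 =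
      g₂ ≫ ((xx b').pt (pullback.snd g (c b')) (pullback.fst g (c b') ≫ x)
        (glue_cond c hc xx hxx g x h b')).1 := by
  have e : (g₁ ≫ pullback.snd g (c b)) ≫ c b = (g₂ ≫ pullback.snd g (c b')) ≫ c b' := by
    rw [Category.assoc, ← pullback.condition, ← Category.assoc, hg, Category.assoc,
      pullback.condition, Category.assoc]
  have hs := hxx b b' Z _ _ e
  have h1 : ((g₁ ≫ pullback.fst g (c b)) ≫ x) ≫ f i =
      (g₁ ≫ pullback.snd g (c b)) ≫ (xx b).t := by
    have h0 := glue_cond c hc xx hxx g x h b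
    simp only [Category.assoc] at h0 ⊢
    rw [h0]
  have h2 : ((g₁ ≫ pullback.fst g (c b)) ≫ x) ≫ f i =
      (g₂ ≫ pullback.snd g (c b')) ≫ (xx b').t := by
    have h0 := glue_cond c hc xx hxx g x h b'
    rw [hg]
    simp only [Category.assoc] at h0 ⊢
    rw [h0]
  calc g₁ ≫ ((xx b).pt (pullback.snd g (c b)) (pullback.fst g (c b) ≫ x) _).1
      = ((xx b).pt (g₁ ≫ pullback.snd g (c b)) (g₁ ≫ pullback.fst g (c b) ≫ x)
          (by rw [← Category.assoc]; exact h1)).1 := ((xx b).pt_nat g₁ _ _ _ _).symm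
    _ = ((xx b).pt (g₁ ≫ pullback.snd g (c b)) ((g₁ ≫ pullback.fst g (c b)) ≫ x) h1).1 :=
        Sec.pt_val_congr _ _ _ rfl (Category.assoc _ _ _).symm
    _ = (((xx b).res (g₁ ≫ pullback.snd g (c b))).pt (𝟙 Z) ((g₁ ≫ pullback.fst g (c b)) ≫ x)
          (by rw [Sec.res_t, Category.id_comp]; exact h1)).1 := Sec.pt_val_eq_res _ _ _ _
    _ = (((xx b').res (g₂ ≫ pullback.snd g (c b'))).pt (𝟙 Z) ((g₁ ≫ pullback.fst g (c b)) ≫ x)
          (by rw [Sec.res_t, Category.id_comp]; exact h2)).1 := Sec.pt_val_congr_sec hs _ _ _ _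
    _ = ((xx b').pt (g₂ ≫ pullback.snd g (c b')) ((g₁ ≫ pullback.fst g (c b)) ≫ x) h2).1 :=
        (Sec.pt_val_eq_res _ _ _ _).symm
    _ = ((xx b').pt (g₂ ≫ pullback.snd g (c b')) (g₂ ≫ pullback.fst g (c b') ≫ x)
          (by rw [← Category.assoc, ← hg]; exact h2)).1 :=
        Sec.pt_val_congr _ _ _ rfl (by rw [hg, Category.assoc])
    _ = g₂ ≫ ((xx b').pt (pullback.snd g (c b')) (pullback.fst g (c b') ≫ x) _).1 :=
        (xx b').pt_nat g₂ _ _ _ _

include hxx in
lemma exists_glue_m {T' : Scheme.{u}} {i : ι} (g : T' ⟶ T) (x : T' ⟶ X i)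
    (h : x ≫ f i = g ≫ glueT c hc xx hxx) :
    ∃! w : T' ⟶ (D.obj i).left, ∀ b, pullback.fst g (c b) ≫ w =
      ((xx b).pt (pullback.snd g (c b)) (pullback.fst g (c b) ≫ x)
        (glue_cond c hc xx hxx g x h b)).1 :=
  glue_fpqc _ (cover_fst c hc g) _ (glue_compat c hc xx hxx g x h)

/-- the glued values -/
noncomputable def glueM {T' : Scheme.{u}} {i : ι} (g : T' ⟶ T) (x : T' ⟶ X i)
    (h : x ≫ f i = g ≫ glueT c hc xx hxx) : Lifts (D.obj i) x :=
  ⟨(exists_glue_m c hc xx hxx g x h).exists.choose, by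
    apply jointly_epi_of_fpqc _ (cover_fst c hc g)
    intro b
    rw [← Category.assoc, (exists_glue_m c hc xx hxx g x h).exists.choose_spec b]
    exact ((xx b).pt _ _ _).2⟩

lemma fst_glueM {T' : Scheme.{u}} {i : ι} (g : T' ⟶ T) (x : T' ⟶ X i)
    (h : x ≫ f i = g ≫ glueT c hc xx hxx) (b : J) :
    pullback.fst g (c b) ≫ (glueM c hc xx hxx g x h).1 =
      ((xx b).pt (pullback.snd g (c b)) (pullback.fst g (c b) ≫ x)
        (glue_cond c hc xx hxx g x h b)).1 :=
  (exists_glue_m c hc xx hxx g x h).exists.choose_spec b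

/-- characterisation of the glued values -/
lemma glueM_eq {T' : Scheme.{u}} {i : ι} (g : T' ⟶ T) (x : T' ⟶ X i)
    (h : x ≫ f i = g ≫ glueT c hc xx hxx) (w : T' ⟶ (D.obj i).left)
    (hw : ∀ b, pullback.fst g (c b) ≫ w =
      ((xx b).pt (pullback.snd g (c b)) (pullback.fst g (c b) ≫ x)
        (glue_cond c hc xx hxx g x h b)).1) : (glueM c hc xx hxx g x h).1 = w := by
  apply jointly_epi_of_fpqc _ (cover_fst c hc g)
  intro b
  rw [fst_glueM, hw]

/-- the glued section -/
noncomputable def glueSec : Sec D T :=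
  Sec.mk' (glueT c hc xx hxx) (fun _ _ g x h => glueM c hc xx hxx g x h)
    (fun T' T'' i k g x h h' => by
      apply glueM_eq
      intro b
      let θ : pullback (k ≫ g) (c b) ⟶ pullback g (c b) :=
        pullback.lift (pullback.fst _ _ ≫ k) (pullback.snd _ _) (by
          rw [Category.assoc, pullback.condition])
      have hθ₁ : θ ≫ pullback.fst g (c b) = pullback.fst (k ≫ g) (c b) ≫ k :=
        pullback.lift_fst _ _ _
      have hθ₂ : θ ≫ pullback.snd g (c b) = pullback.snd (k ≫ g) (c b) :=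
        pullback.lift_snd _ _ _
      rw [← Category.assoc, ← hθ₁, Category.assoc, fst_glueM, ← (xx b).pt_nat θ _ _ _
        (by
          have h0 := glue_cond c hc xx hxx g x h b
          simp only [Category.assoc] at h0 ⊢
          rw [h0])]
      exact Sec.pt_val_congr _ _ _ hθ₂ (by rw [← Category.assoc, hθ₁, Category.assoc]))
    (fun T' i j g x₀ x₁ h₀ h₁ => by
      apply Subtype.ext
      symm
      apply glueM_eq
      intro b
      have e1 := φ_res D (pullback.fst g (c b)) x₀ x₁ (h₀.trans h₁.symm)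
        (by rw [Category.assoc, Category.assoc, h₀, h₁]) (glueM c hc xx hxx g x₀ h₀)
      have e2 := congrArg Subtype.val e1
      simp only [res_val] at e2
      rw [← e2]
      have e3 : res (pullback.fst g (c b)) (glueM c hc xx hxx g x₀ h₀) rfl =
          (xx b).pt (pullback.snd g (c b)) (pullback.fst g (c b) ≫ x₀)
            (glue_cond c hc xx hxx g x₀ h₀ b) := Subtype.ext (fst_glueM c hc xx hxx g x₀ h₀ b)
      rw [e3]
      exact congrArg Subtype.val ((xx b).pt_comm _ _ _ _ _))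

lemma glueSec_t : (glueSec c hc xx hxx).t = glueT c hc xx hxx := rfl

include hxx in
lemma glueSec_res (b : J) : (glueSec c hc xx hxx).res (c b) = xx b := by
  refine Sec.ext_pt (c_glueT c hc xx hxx b) ?_
  intro T' i g x hh
  rw [Sec.res_pt]
  unfold glueSec
  rw [Sec.mk'_pt]
  apply Subtype.ext
  apply glueM_eq
  intro b'
  have e : (pullback.fst (g ≫ c b) (c b') ≫ g) ≫ c b =
      pullback.snd (g ≫ c b) (c b') ≫ c b' := by
    rw [Category.assoc, pullback.condition]
  have hs := hxx b b' _ _ _ e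
  have hh' : x ≫ f i = g ≫ (xx b).t := by
    rw [← c_glueT c hc xx hxx b]; exact hh
  have h1 : (pullback.fst (g ≫ c b) (c b') ≫ x) ≫ f i =
      (pullback.fst (g ≫ c b) (c b') ≫ g) ≫ (xx b).t := by
    rw [Category.assoc, Category.assoc, hh']
  have h3 : (pullback.fst (g ≫ c b) (c b') ≫ x) ≫ f i =
      pullback.snd (g ≫ c b) (c b') ≫ (xx b').t := h1.trans (congrArg Sec.t hs)
  calc pullback.fst (g ≫ c b) (c b') ≫ ((xx b).pt g x _).1
      = ((xx b).pt (pullback.fst (g ≫ c b) (c b') ≫ g) (pullback.fst (g ≫ c b) (c b') ≫ x)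
          h1).1 := ((xx b).pt_nat _ _ _ _ _).symm
    _ = (((xx b).res (pullback.fst (g ≫ c b) (c b') ≫ g)).pt (𝟙 _)
          (pullback.fst (g ≫ c b) (c b') ≫ x)
          (by rw [Sec.res_t, Category.id_comp]; exact h1)).1 := Sec.pt_val_eq_res _ _ _ _
    _ = (((xx b').res (pullback.snd (g ≫ c b) (c b'))).pt (𝟙 _)
          (pullback.fst (g ≫ c b) (c b') ≫ x)
          (by rw [Sec.res_t, Category.id_comp]; exact h3)).1 :=
        Sec.pt_val_congr_sec hs _ _ _ _
    _ = ((xx b').pt (pullback.snd (g ≫ c b) (c b')) (pullback.fst (g ≫ c b) (c b') ≫ x) _).1 :=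
        (Sec.pt_val_eq_res _ _ _ _).symm

include hc in
/-- sections are determined by their restrictions to a covering -/
lemma sec_ext_of_cover (s s' : Sec D T) (h : ∀ b, s.res (c b) = s'.res (c b)) : s = s' := by
  have ht : s.t = s'.t := by
    apply jointly_epi_of_fpqc c hc
    intro b
    exact congrArg Sec.t (h b)
  refine Sec.ext_pt ht ?_
  intro T' i g x hh
  apply Subtype.ext
  apply jointly_epi_of_fpqc _ (cover_fst c hc g)
  intro b
  have h1 : (pullback.fst g (c b) ≫ x) ≫ f i = (pullback.fst g (c b) ≫ g) ≫ s.t := by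
    rw [Category.assoc, Category.assoc, hh]
  have h1' : (pullback.fst g (c b) ≫ x) ≫ f i = (pullback.fst g (c b) ≫ g) ≫ s'.t := by
    rw [← ht]; exact h1
  have h2 : (pullback.fst g (c b) ≫ x) ≫ f i = (pullback.snd g (c b) ≫ c b) ≫ s.t := by
    rw [← pullback.condition]; exact h1
  have h2' : (pullback.fst g (c b) ≫ x) ≫ f i = (pullback.snd g (c b) ≫ c b) ≫ s'.t := by
    rw [← ht]; exact h2
  calc pullback.fst g (c b) ≫ (s.pt g x hh).1
      = (s.pt (pullback.fst g (c b) ≫ g) (pullback.fst g (c b) ≫ x) h1).1 :=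
        (s.pt_nat _ _ _ _ _).symm
    _ = (s.pt (pullback.snd g (c b) ≫ c b) (pullback.fst g (c b) ≫ x) h2).1 :=
        Sec.pt_val_congr _ _ _ pullback.condition rfl
    _ = ((s.res (c b)).pt (pullback.snd g (c b)) (pullback.fst g (c b) ≫ x)
          (by rw [Sec.res_t, ← Category.assoc]; exact h2)).1 := (Sec.res_pt_val _ _ _ _ _ _).symm
    _ = ((s'.res (c b)).pt (pullback.snd g (c b)) (pullback.fst g (c b) ≫ x)
          (by rw [Sec.res_t, ← Category.assoc]; exact h2')).1 :=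
        Sec.pt_val_congr_sec (h b) _ _ _ _
    _ = (s'.pt (pullback.snd g (c b) ≫ c b) (pullback.fst g (c b) ≫ x) h2').1 :=
        Sec.res_pt_val _ _ _ _ _ _
    _ = (s'.pt (pullback.fst g (c b) ≫ g) (pullback.fst g (c b) ≫ x) h1').1 :=
        Sec.pt_val_congr _ _ _ pullback.condition.symm rfl
    _ = pullback.fst g (c b) ≫ (s'.pt g x _).1 := s'.pt_nat _ _ _ _ _

end Glue

/-- The presheaf of sections satisfies the sheaf condition for every fpqc covering family. -/
theorem isSheafFor_secFunctor (D : SchDDFam f) {T : Scheme.{u}} {J : Type w} {C : J → Scheme.{u}}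
    (c : ∀ b, C b ⟶ T) (hc : Presieve.ofArrows C c ∈ Scheme.fpqcPrecoverage T) :
    Presieve.IsSheafFor (secFunctor D) (Presieve.ofArrows C c) := by
  rw [Presieve.isSheafFor_arrows_iff]
  intro xx hxx
  have hxx' : ∀ (b b' : J) (Z : Scheme.{u}) (g₁ : Z ⟶ C b) (g₂ : Z ⟶ C b'),
      g₁ ≫ c b = g₂ ≫ c b' → (xx b).res g₁ = (xx b').res g₂ := fun b b' Z g₁ g₂ h =>
    hxx b b' Z g₁ g₂ h
  refine ⟨glueSec c hc xx hxx', fun b => glueSec_res c hc xx hxx' b, ?_⟩
  intro s hs
  apply sec_ext_of_cover c hc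
  intro b
  rw [glueSec_res c hc xx hxx' b]
  exact hs b

/-- The presheaf of sections is a Zariski sheaf. -/
theorem isSheaf_secFunctor (D : SchDDFam f) :
    Presieve.IsSheaf Scheme.zariskiTopology (secFunctor D) := by
  rw [Scheme.zariskiTopology_eq, Presieve.isSheaf_pretopology]
  intro T R hR
  obtain ⟨𝒰, rfl⟩ := Scheme.exists_cover_of_mem_pretopology hR
  exact isSheafFor_secFunctor D 𝒰.f (Scheme.zariskiPrecoverage_le_fpqcPrecoverage _ 𝒰.mem₀)

end Groth.Agent.Helper2.DescSec
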