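import Mathlib
import Groth.Agent.Lib.Helper2.Desc.SecSheaf

/-!
# A descent datum whose functor of sections is representable is effective (helper2)
-/

set_option autoImplicit false
set_option backward.isDefEq.respectTransparency false
universe u
open CategoryTheory CategoryTheory.Limits AlgebraicGeometry Opposite Desc

namespace Groth.Agent.Helper2.DescSec

open Groth.Agent.Lib.Helper5.DescFam

variable {S : Scheme.{u}} {ι : Type u} {X : ι → Scheme.{u}} {f : ∀ i, X i ⟶ S}

lemma φ_val_congr (D : SchDDFam f) {T : Scheme.{u}} {i j : ι} {x₀ x₀' : T ⟶ X i}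
    {x₁ x₁' : T ⟶ X j} (h : x₀ ≫ f i = x₁ ≫ f j) (h' : x₀' ≫ f i = x₁' ≫ f j)
    (hx₀ : x₀ = x₀') (hx₁ : x₁ = x₁') (v : Lifts (D.obj i) x₀) (v' : Lifts (D.obj i) x₀')
    (hv : v.1 = v'.1) : (D.φ x₀ x₁ h v).1 = (D.φ x₀' x₁' h' v').1 := by
  subst hx₀ hx₁
  have : v = v' := Subtype.ext hv
  subst this
  rfl

/-- The section over `T` attached to a point of `D.obj i` over `x : T ⟶ X i`. -/
noncomputable def secOfLift (D : SchDDFam f) {T : Scheme.{u}} {i : ι} (x : T ⟶ X i)
    (w : Lifts (D.obj i) x) : Sec D T :=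
  Sec.mk' (x ≫ f i)
    (fun T' j g y h => D.φ (g ≫ x) y (by rw [Category.assoc, h]) (res g w rfl))
    (fun T' T'' j k g y h h' => by
      exact D.φ_natural k (g ≫ x) y (by rw [Category.assoc, h]) ((k ≫ g) ≫ x) (k ≫ y)
        (Category.assoc _ _ _).symm rfl (by rw [Category.assoc (k ≫ g), h']) (res g w rfl)
        (res (k ≫ g) w rfl) (by simp))
    (fun T' j j' g y₀ y₁ h₀ h₁ => by
      rw [D.φ_comp])

lemma secOfLift_t (D : SchDDFam f) {T : Scheme.{u}} {i : ι} (x : T ⟶ X i)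
    (w : Lifts (D.obj i) x) : (secOfLift D x w).t = x ≫ f i := rfl

lemma secOfLift_pt (D : SchDDFam f) {T : Scheme.{u}} {i : ι} (x : T ⟶ X i)
    (w : Lifts (D.obj i) x) {T' : Scheme.{u}} {j : ι} (g : T' ⟶ T) (y : T' ⟶ X j)
    (h : y ≫ f j = g ≫ (x ≫ f i)) :
    (secOfLift D x w).pt g y h = D.φ (g ≫ x) y (by rw [Category.assoc, h]) (res g w rfl) := by
  unfold secOfLift
  rw [Sec.mk'_pt]

lemma secOfLift_pt_self (D : SchDDFam f) {T : Scheme.{u}} {i : ι} (x : T ⟶ X i)
    (w : Lifts (D.obj i) x) :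
    (secOfLift D x w).pt (𝟙 T) x (by rw [secOfLift_t, Category.id_comp]) = w := by
  rw [secOfLift_pt]
  apply Subtype.ext
  have h1 := φ_val_congr D (x₀ := 𝟙 T ≫ x) (x₀' := x) (x₁ := x) (x₁' := x)
    (by rw [Category.id_comp]) rfl (Category.id_comp x) rfl (res (𝟙 T) w rfl) w (by simp)
  rw [h1, D.φ_self]

/-- Sections are determined by their value at one point lying over a member of the family. -/
lemma sec_eq_of_pt (D : SchDDFam f) {T : Scheme.{u}} {i : ι} (x : T ⟶ X i) (s s' : Sec D T)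
    (h : x ≫ f i = s.t) (h' : x ≫ f i = s'.t)
    (hp : s.pt (𝟙 T) x (by rw [Category.id_comp]; exact h) =
      s'.pt (𝟙 T) x (by rw [Category.id_comp]; exact h')) : s = s' := by
  refine Sec.ext_pt (h.symm.trans h') ?_
  intro T' j g y hh
  have e0 : (g ≫ x) ≫ f i = g ≫ s.t := by rw [Category.assoc, h]
  have e0' : (g ≫ x) ≫ f i = g ≫ s'.t := by rw [Category.assoc, h']
  rw [← s.pt_comm g (g ≫ x) y e0 hh, ← s'.pt_comm g (g ≫ x) y e0' (hh.trans (by rw [← h, ← h']))]
  congr 1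
  apply Subtype.ext
  have n1 := s.pt_nat g (𝟙 T) x (by rw [Category.id_comp]; exact h)
    (by rw [Category.assoc, Category.assoc, h, Category.id_comp])
  have n2 := s'.pt_nat g (𝟙 T) x (by rw [Category.id_comp]; exact h')
    (by rw [Category.assoc, Category.assoc, h', Category.id_comp])
  have c1 : (s.pt g (g ≫ x) e0).1 = (s.pt (g ≫ 𝟙 T) (g ≫ x) (by
      rw [Category.comp_id]; exact e0)).1 :=
    Sec.pt_val_congr s _ _ (Category.comp_id g).symm rfl
  have c2 : (s'.pt g (g ≫ x) e0').1 = (s'.pt (g ≫ 𝟙 T) (g ≫ x) (by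
      rw [Category.comp_id]; exact e0')).1 :=
    Sec.pt_val_congr s' _ _ (Category.comp_id g).symm rfl
  rw [c1, c2, n1, n2, hp]

/-- A descent datum whose functor of sections is representable is effective. -/
theorem isEffective_of_representableBy (D : SchDDFam f) {U₀ : Scheme.{u}}
    (R : (secFunctor D).RepresentableBy U₀) : D.IsEffective := by
  let ξ : Sec D U₀ := R.homEquiv (𝟙 U₀)
  have hξ : ∀ {T : Scheme.{u}} (g : T ⟶ U₀), R.homEquiv g = ξ.res g := by
    intro T g
    have := R.homEquiv_comp g (𝟙 U₀)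
    rw [Category.comp_id] at this
    exact this
  have hbij : ∀ ⦃T : Scheme.{u}⦄ ⦃i : ι⦄ (x : T ⟶ X i), Function.Bijective
      (SchDDFam.Hom.push ξ.a : Lifts (((toDDFam f).obj (Over.mk ξ.t)).obj i) x →
        Lifts (D.obj i) x) := by
    intro T i x
    constructor
    · intro v₁ v₂ hv
      rw [eq_cpt ξ.t v₁, eq_cpt ξ.t v₂] at hv ⊢
      have hg : v₁.1 ≫ pullback.snd (f i) ξ.t = v₂.1 ≫ pullback.snd (f i) ξ.t := by
        apply R.homEquiv.injective
        rw [hξ, hξ]
        refine sec_eq_of_pt D x _ _ (cpt_snd ξ.t v₁) (cpt_snd ξ.t v₂) ?_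
        rw [Sec.res_pt, Sec.res_pt]
        apply Subtype.ext
        have c1 := Sec.pt_val_congr ξ (g := 𝟙 T ≫ v₁.1 ≫ pullback.snd (f i) ξ.t)
          (g' := v₁.1 ≫ pullback.snd (f i) ξ.t) (x := x) (x' := x)
          (by rw [Category.id_comp]; exact cpt_snd ξ.t v₁) (cpt_snd ξ.t v₁)
          (Category.id_comp _) rfl
        have c2 := Sec.pt_val_congr ξ (g := 𝟙 T ≫ v₂.1 ≫ pullback.snd (f i) ξ.t)
          (g' := v₂.1 ≫ pullback.snd (f i) ξ.t) (x := x) (x' := x)
          (by rw [Category.id_comp]; exact cpt_snd ξ.t v₂) (cpt_snd ξ.t v₂)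
          (Category.id_comp _) rfl
        rw [c1, c2]
        exact congrArg Subtype.val hv
      exact cpt_congr ξ.t x _ hg
    · intro w
      let g₀ : T ⟶ U₀ := R.homEquiv.symm (secOfLift D x w)
      have hg₀ : ξ.res g₀ = secOfLift D x w := by
        rw [← hξ]
        exact R.homEquiv.apply_symm_apply _
      have ht : x ≫ f i = g₀ ≫ ξ.t := (congrArg Sec.t hg₀).symm
      refine ⟨cpt ξ.t g₀ x ht, ?_⟩
      apply Subtype.ext
      have h1 : (ξ.pt g₀ x ht).1 = ((ξ.res g₀).pt (𝟙 T) x (by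
          rw [Sec.res_t, Category.id_comp]; exact ht)).1 := Sec.pt_val_eq_res ξ g₀ x ht
      have h2 := Sec.pt_val_congr_sec hg₀ (𝟙 T) x (by
          rw [Sec.res_t, Category.id_comp]; exact ht) (by rw [secOfLift_t, Category.id_comp])
      have h3 := congrArg Subtype.val (secOfLift_pt_self D x w)
      exact h1.trans (h2.trans h3)
  let E : PtEquiv ((toDDFam f).obj (Over.mk ξ.t)) D :=
    { e := fun T i x => Equiv.ofBijective _ (hbij x)
      nat := fun T T' g i x y v v' hv => push_nat ξ.a g v v' hv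
      comm := fun T i j x₀ x₁ h v => (push_φ ξ.a x₀ x₁ h v).symm }
  exact ⟨Over.mk ξ.t, ⟨E.toIso⟩⟩

end Groth.Agent.Helper2.DescSec
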