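import Mathlib
import Groth.Agent.Lib.Helper2.Desc.RepEff

/-!
# Sections over a member of the family are points of the descent datum (helper2)
-/

set_option autoImplicit false
set_option backward.isDefEq.respectTransparency false
universe u
open CategoryTheory CategoryTheory.Limits AlgebraicGeometry Opposite Desc

namespace Groth.Agent.Helper2.DescSec

open Groth.Agent.Lib.Helper5.DescFam

variable {S : Scheme.{u}} {ι : Type u} {X : ι → Scheme.{u}} {f : ∀ i, X i ⟶ S}

/-- Sections of the quotient of `D` over `T` lying over `x ≫ f i` are the points of `D.obj i`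
over `x`. -/
noncomputable def secLiftsEquiv (D : SchDDFam f) {T : Scheme.{u}} {i : ι} (x : T ⟶ X i) :
    {s : Sec D T // s.t = x ≫ f i} ≃ Lifts (D.obj i) x where
  toFun s := s.1.pt (𝟙 T) x (by rw [Category.id_comp]; exact s.2.symm)
  invFun w := ⟨secOfLift D x w, rfl⟩
  left_inv s := by
    apply Subtype.ext
    refine sec_eq_of_pt D x _ _ rfl s.2.symm ?_
    exact secOfLift_pt_self D x _
  right_inv w := secOfLift_pt_self D x w

lemma secLiftsEquiv_apply (D : SchDDFam f) {T : Scheme.{u}} {i : ι} (x : T ⟶ X i)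
    (s : {s : Sec D T // s.t = x ≫ f i}) :
    secLiftsEquiv D x s = s.1.pt (𝟙 T) x (by rw [Category.id_comp]; exact s.2.symm) := rfl

/-- naturality of `secLiftsEquiv` -/
lemma secLiftsEquiv_nat (D : SchDDFam f) {T T' : Scheme.{u}} (g : T' ⟶ T) {i : ι} (x : T ⟶ X i)
    (s : {s : Sec D T // s.t = x ≫ f i}) (s' : {s : Sec D T' // s.t = (g ≫ x) ≫ f i})
    (hs : s'.1 = s.1.res g) :
    (secLiftsEquiv D (g ≫ x) s').1 = g ≫ (secLiftsEquiv D x s).1 := by
  obtain ⟨s, hs0⟩ := s
  obtain ⟨s', hs0'⟩ := s'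
  dsimp only at hs
  subst hs
  rw [secLiftsEquiv_apply, secLiftsEquiv_apply]
  dsimp only
  rw [Sec.res_pt_val s g (𝟙 T') (g ≫ x) _ (by
    rw [Category.id_comp, Category.assoc, hs0])]
  have h1 := s.pt_nat g (𝟙 T) x (by rw [Category.id_comp]; exact hs0.symm)
    (by rw [Category.comp_id, Category.assoc, hs0])
  rw [← h1]
  exact Sec.pt_val_congr s _ _ (by rw [Category.id_comp, Category.comp_id]) rfl

/-- the section attached to a point has the expected values -/
lemma secLiftsEquiv_symm_pt (D : SchDDFam f) {T : Scheme.{u}} {i : ι} (x : T ⟶ X i)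
    (w : Lifts (D.obj i) x) {j : ι} (y : T ⟶ X j) (h : y ≫ f j = x ≫ f i) :
    ((secLiftsEquiv D x).symm w).1.pt (𝟙 T) y (by
      rw [Category.id_comp]; exact h) = D.φ x y h.symm w := by
  change (secOfLift D x w).pt (𝟙 T) y _ = _
  rw [secOfLift_pt]
  apply Subtype.ext
  exact φ_val_congr D _ _ (Category.id_comp x) rfl _ _ (by simp)

end Groth.Agent.Helper2.DescSec
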