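import Mathlib
import Groth.Agent.Lib.Helper2.Desc.SecEquiv

/-!
# Descent data from representability of the functor of sections over another family (helper2)

Let `D` be a descent datum relative to a family `u i : U i ⟶ S` and `v j : V j ⟶ S` another family.
If for each `j` the functor of sections of `D` over `V j` is represented by a scheme `obj j` over
`V j`, then the `obj j` carry a canonical descent datum relative to `v`, and its pullback along any
morphism of families `u → v` over `S` is `D`.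
-/

set_option autoImplicit false
set_option backward.isDefEq.respectTransparency false
universe w u
open CategoryTheory CategoryTheory.Limits AlgebraicGeometry Opposite Desc

namespace Groth.Agent.Helper2.DescSec

open Groth.Agent.Lib.Helper5.DescFam

variable {S : Scheme.{u}} {ι : Type u} {U : ι → Scheme.{u}} {u : ∀ i, U i ⟶ S}
  {κ : Type w} {V : κ → Scheme.{u}}

/-- Representability of the functor of sections of `D` over the members of the family `v`. -/
structure SecRep (D : SchDDFam u) (v : ∀ j, V j ⟶ S) where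
  /-- the representing schemes -/
  obj : ∀ j, Over (V j)
  /-- the bijections -/
  ε : ∀ ⦃T : Scheme.{u}⦄ ⦃j : κ⦄ (y : T ⟶ V j),
    Lifts (obj j) y ≃ {s : Sec D T // s.t = y ≫ v j}
  nat : ∀ ⦃T T' : Scheme.{u}⦄ (g : T' ⟶ T) ⦃j : κ⦄ (y : T ⟶ V j) (y' : T' ⟶ V j)
    (a : Lifts (obj j) y) (a' : Lifts (obj j) y'), a'.1 = g ≫ a.1 →
    (ε y' a').1 = (ε y a).1.res g

namespace SecRep

variable {D : SchDDFam u} {v : ∀ j, V j ⟶ S} (R : SecRep D v)

/-- transport of a section along an equality of structure morphisms -/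
def cast {T : Scheme.{u}} {t t' : T ⟶ S} (h : t = t') :
    {s : Sec D T // s.t = t} ≃ {s : Sec D T // s.t = t'} :=
  Equiv.subtypeEquivRight (fun s => by rw [h])

@[simp] lemma cast_val {T : Scheme.{u}} {t t' : T ⟶ S} (h : t = t')
    (s : {s : Sec D T // s.t = t}) : (cast h s).1 = s.1 := rfl

lemma ε_symm_nat {T T' : Scheme.{u}} (g : T' ⟶ T) {j : κ} (y : T ⟶ V j) (y' : T' ⟶ V j)
    (hy : g ≫ y = y') (s : {s : Sec D T // s.t = y ≫ v j})
    (s' : {s : Sec D T' // s.t = y' ≫ v j}) (hs : s'.1 = s.1.res g) :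
    ((R.ε y').symm s').1 = g ≫ ((R.ε y).symm s).1 := by
  have h1 := R.nat g y y' ((R.ε y).symm s) (res g ((R.ε y).symm s) hy) rfl
  rw [Equiv.apply_symm_apply, ← hs] at h1
  have h2 : R.ε y' (res g ((R.ε y).symm s) hy) = s' := Subtype.ext h1
  rw [← h2, Equiv.symm_apply_apply]
  rfl

/-- The descent datum relative to `v` on the representing schemes. -/
noncomputable def dd : SchDDFam v where
  obj := R.obj
  φ T j j' y₀ y₁ h := (R.ε y₀).trans ((cast h).trans (R.ε y₁).symm)
  φ_natural T T' g j j' x₀ x₁ h y₀ y₁ hy₀ hy₁ h' a a' ha' := by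
    simp only [Equiv.trans_apply]
    refine R.ε_symm_nat g x₁ y₁ hy₁ _ _ ?_
    rw [cast_val, cast_val]
    exact R.nat g x₀ y₀ a a' ha'
  φ_self T j y a := by
    simp only [Equiv.trans_apply]
    have : cast (D := D) (rfl : y ≫ v j = y ≫ v j) (R.ε y a) = R.ε y a := Subtype.ext rfl
    rw [this, Equiv.symm_apply_apply]
  φ_comp T j j' j'' y₀ y₁ y₂ h₀₁ h₁₂ a := by
    simp only [Equiv.trans_apply, Equiv.apply_symm_apply]
    congr 1

@[simp] lemma dd_obj (j : κ) : R.dd.obj j = R.obj j := rfl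

lemma dd_φ {T : Scheme.{u}} {j j' : κ} (y₀ : T ⟶ V j) (y₁ : T ⟶ V j')
    (h : y₀ ≫ v j = y₁ ≫ v j') (a : Lifts (R.obj j) y₀) :
    R.dd.φ y₀ y₁ h a = (R.ε y₁).symm (cast h (R.ε y₀ a)) := rfl

section Pull

variable {α : ι → κ} {g : ∀ i, U i ⟶ V (α i)} (w : ∀ i, g i ≫ v (α i) = u i ≫ 𝟙 S)

include w in
lemma w' (i : ι) : g i ≫ v (α i) = u i := by
  have hw := w i
  rwa [Category.comp_id] at hw

/-- the bijections on points between the pullback of `R.dd` and `D` -/
noncomputable def pullE {T : Scheme.{u}} {i : ι} (x : T ⟶ U i) :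
    Lifts (((pullDDFam w).obj R.dd).obj i) x ≃ Lifts (D.obj i) x :=
  (liftsPullbackEquiv (R.obj (α i)) (g i) x).trans
    ((R.ε (x ≫ g i)).trans ((cast (by rw [Category.assoc, w' w i])).trans (secLiftsEquiv D x)))

lemma pullE_symm {T : Scheme.{u}} {i : ι} (x : T ⟶ U i) (c : Lifts (R.obj (α i)) (x ≫ g i)) :
    R.pullE w x ((liftsPullbackEquiv (R.obj (α i)) (g i) x).symm c) =
      secLiftsEquiv D x (cast (by rw [Category.assoc, w' w i]) (R.ε (x ≫ g i) c)) := by
  unfold pullE
  exact congrArg (fun z => secLiftsEquiv D x (cast (by rw [Category.assoc, w' w i])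
    (R.ε (x ≫ g i) z))) (Equiv.apply_symm_apply _ c)

/-- The pullback of `R.dd` along a morphism of families `u → v` over `S` is `D`. -/
noncomputable def pullPtEquiv : PtEquiv ((pullDDFam w).obj R.dd) D where
  e T i x := R.pullE w x
  nat T T' k i x y a a' ha' := by
    have hy := hom_eq_of_lifts k a a' ha'
    subst hy
    simp only [pullE, Equiv.trans_apply]
    refine secLiftsEquiv_nat D k x _ _ ?_
    rw [cast_val, cast_val]
    refine R.nat k (x ≫ g i) ((k ≫ x) ≫ g i) _ _ ?_
    change a'.1 ≫ pullback.fst _ _ = k ≫ a.1 ≫ pullback.fst _ _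
    rw [ha', Category.assoc]
  comm T i i' x₀ x₁ h a := by
    have hφ : ((pullDDFam w).obj R.dd).φ x₀ x₁ h a =
        (liftsPullbackEquiv (R.obj (α i')) (g i') x₁).symm
          (R.dd.φ (x₀ ≫ g i) (x₁ ≫ g i') (pull_compat w x₀ x₁ h)
            (liftsPullbackEquiv (R.obj (α i)) (g i) x₀ a)) := rfl
    rw [hφ, pullE_symm, dd_φ, Equiv.apply_symm_apply]
    obtain ⟨s, hs⟩ : ∃ s, s = R.ε (x₀ ≫ g i) (liftsPullbackEquiv (R.obj (α i)) (g i) x₀ a) :=
      ⟨_, rfl⟩
    have e0 : R.pullE w x₀ a = secLiftsEquiv D x₀ (cast (by rw [Category.assoc, w' w i]) s) := by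
      rw [hs]; rfl
    rw [e0, ← hs, secLiftsEquiv_apply, secLiftsEquiv_apply]
    dsimp only [cast_val]
    have hst : x₀ ≫ u i = s.1.t := by
      rw [s.2, Category.assoc, w' w i]
    have hst' : x₁ ≫ u i' = s.1.t := by
      rw [← h]; exact hst
    exact (s.1.pt_comm (𝟙 T) x₀ x₁ (by rw [Category.id_comp]; exact hst)
      (by rw [Category.id_comp]; exact hst')).symm

/-- The pullback of `R.dd` along a morphism of families `u → v` over `S` is `D`. -/
noncomputable def pullIso : (pullDDFam w).obj R.dd ≅ D := (R.pullPtEquiv w).toIso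

end Pull

end SecRep

end Groth.Agent.Helper2.DescSec
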