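import Mathlib
import Groth.Prelude.Def_DescFam
import Groth.Agent.Lib.Helper5.Misc.DescFam

/-!
# A quotient criterion for effectivity of descent data (helper2)

A descent datum `D` relative to a family `f i : X i ⟶ S` is effective as soon as there are
a scheme `U` over `S` and `φ`-invariant morphisms `q i : D.obj i ⟶ U` making the squares
`D.obj i = X i ×_S U` cartesian.  Also the dictionary between descent data relative to one
morphism and relative to the corresponding one-member family.
-/

set_option autoImplicit false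
set_option backward.isDefEq.respectTransparency false
universe w u
open CategoryTheory CategoryTheory.Limits AlgebraicGeometry Opposite Desc

namespace Groth.Agent.Helper2.DescEff

open Groth.Agent.Lib.Helper5.DescFam

section Crit

variable {S : Scheme.{u}} {ι : Type w} {X : ι → Scheme.{u}} {f : ∀ i, X i ⟶ S}

/-- The bijections on points attached to a quotient presentation. -/
noncomputable def ptEquivOfQuotient (D : SchDDFam f) (U : Over S) (q : ∀ i, (D.obj i).left ⟶ U.left)
    (hpb : ∀ i, IsPullback (D.obj i).hom (q i) (f i) U.hom)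
    (hinv : ∀ ⦃T : Scheme.{u}⦄ ⦃i j : ι⦄ (x₀ : T ⟶ X i) (x₁ : T ⟶ X j) (h : x₀ ≫ f i = x₁ ≫ f j)
      (v : Lifts (D.obj i) x₀), (D.φ x₀ x₁ h v).1 ≫ q j = v.1 ≫ q i) :
    PtEquiv (canonicalDDFam f U) D where
  e T i x :=
    { toFun := fun v => ⟨(hpb i).lift x (v.1 ≫ pullback.snd (f i) U.hom) (by
          have e : v.1 ≫ pullback.fst (f i) U.hom = x := v.2
          rw [Category.assoc, ← pullback.condition, ← Category.assoc, e]),
        (hpb i).lift_fst _ _ _⟩
      invFun := fun w => ⟨pullback.lift x (w.1 ≫ q i) (by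
          rw [Category.assoc, ← (hpb i).w, ← Category.assoc, w.2]), pullback.lift_fst _ _ _⟩
      left_inv := fun v => Subtype.ext (by
        apply pullback.hom_ext
        · rw [pullback.lift_fst]; exact v.2.symm
        · rw [pullback.lift_snd, (hpb i).lift_snd])
      right_inv := fun w => Subtype.ext (by
        apply (hpb i).hom_ext
        · rw [(hpb i).lift_fst]; exact w.2.symm
        · rw [(hpb i).lift_snd, pullback.lift_snd]) }
  nat T T' g i x y v v' hv := by
    apply (hpb i).hom_ext
    · simp only [Equiv.coe_fn_mk, Category.assoc, (hpb i).lift_fst]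
      rw [← v.2, ← v'.2, hv, Category.assoc]
    · simp only [Equiv.coe_fn_mk, Category.assoc, (hpb i).lift_snd]
      rw [hv, Category.assoc]
  comm T i j x₀ x₁ h v := by
    apply Subtype.ext
    apply (hpb j).hom_ext
    · simp only [Equiv.coe_fn_mk, (hpb j).lift_fst]
      exact (D.φ x₀ x₁ h _).2.symm
    · simp only [Equiv.coe_fn_mk, (hpb j).lift_snd]
      rw [hinv, (hpb i).lift_snd]
      exact pullback.lift_snd _ _ _

/-- Quotient criterion for effectivity. -/
theorem isEffective_of_quotient (D : SchDDFam f) (U : Over S) (q : ∀ i, (D.obj i).left ⟶ U.left)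
    (hpb : ∀ i, IsPullback (D.obj i).hom (q i) (f i) U.hom)
    (hinv : ∀ ⦃T : Scheme.{u}⦄ ⦃i j : ι⦄ (x₀ : T ⟶ X i) (x₁ : T ⟶ X j) (h : x₀ ≫ f i = x₁ ≫ f j)
      (v : Lifts (D.obj i) x₀), (D.φ x₀ x₁ h v).1 ≫ q j = v.1 ≫ q i) :
    D.IsEffective :=
  ⟨U, ⟨(ptEquivOfQuotient D U q hpb hinv).toIso⟩⟩

end Crit

section One

variable {S X₀ : Scheme.{u}} (p : X₀ ⟶ S)

/-- Effectivity relative to one morphism from effectivity relative to the one-member family. -/
theorem exists_iso_of_isEffective (D : SchDD p)
    (h : ((SchDDFam.ofSchDD.{u, u} p).obj D).IsEffective) :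
    ∃ U : Over S, Nonempty ((toDD p).obj U ≅ D) := by
  obtain ⟨U, ⟨e⟩⟩ := h
  exact ⟨U, ⟨(SchDDFam.toSchDD.{u, u} p).mapIso e⟩⟩

/-- Effectivity relative to the one-member family from effectivity relative to one morphism. -/
theorem isEffective_of_exists_iso (D : SchDDFam (fun _ : PUnit.{u + 1} => p))
    (h : ∃ U : Over S, Nonempty ((toDD p).obj U ≅ (SchDDFam.toSchDD.{u, u} p).obj D)) :
    D.IsEffective := by
  obtain ⟨U, ⟨e⟩⟩ := h
  exact ⟨U, ⟨(SchDDFam.ofSchDD.{u, u} p).mapIso e⟩⟩

end One

end Groth.Agent.Helper2.DescEff
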