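import Mathlib
import Groth.Prelude.Def_DescFam
import Groth.Agent.Lib.Helper2.Desc.AffDescSch
import Groth.Agent.Lib.Helper2.Desc.EffCrit

/-!
# Effectivity of descent for affine schemes over an affine base, in functor-of-points form (helper2)
-/

set_option autoImplicit false
set_option backward.isDefEq.respectTransparency false
universe u
open CategoryTheory CategoryTheory.Limits AlgebraicGeometry Opposite Desc

namespace Groth.Agent.Helper2.DescEff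

variable {S X : Scheme.{u}} (p : X ⟶ S)

/-- naturality of the gluing bijections, in a convenient form -/
theorem φ_val_of_comp (D : SchDD p) {T T' : Scheme.{u}} (g : T' ⟶ T) (x₀ x₁ : T ⟶ X)
    (h : x₀ ≫ p = x₁ ≫ p) (v : Lifts D.obj x₀) (y₀ y₁ : T' ⟶ X) (hy₀ : g ≫ x₀ = y₀)
    (hy₁ : g ≫ x₁ = y₁) (h' : y₀ ≫ p = y₁ ≫ p) (v' : Lifts D.obj y₀) (hv' : v'.1 = g ≫ v.1) :
    (D.φ y₀ y₁ h' v').1 = g ≫ (D.φ x₀ x₁ h v).1 := by
  subst hy₀ hy₁
  exact D.φ_natural g x₀ x₁ h h' v v' hv'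

/-- Effectivity of descent for affine schemes along a flat morphism of affine schemes. -/
theorem affine_case [IsAffine X] [IsAffine S] [Flat p] (D : SchDD p) [IsAffine D.obj.left] :
    ∃ (U : Over S) (q : D.obj.left ⟶ U.left), IsAffine U.left ∧
      IsPullback D.obj.hom q p U.hom ∧
      ∀ ⦃T : Scheme.{u}⦄ (x₀ x₁ : T ⟶ X) (h : x₀ ≫ p = x₁ ≫ p) (v : Lifts D.obj x₀),
        (D.φ x₀ x₁ h v).1 ≫ q = v.1 ≫ q := by
  let V := D.obj.left
  let π : V ⟶ X := D.obj.hom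
  let R := pullback p (π ≫ p)
  let x₂ : R ⟶ X := pullback.fst p (π ≫ p)
  let s : R ⟶ V := pullback.snd p (π ≫ p)
  have hR : x₂ ≫ p = s ≫ π ≫ p := pullback.condition
  have hR' : (s ≫ π) ≫ p = x₂ ≫ p := by rw [Category.assoc]; exact hR.symm
  let tt : Lifts D.obj x₂ := D.φ (s ≫ π) x₂ hR' ⟨s, rfl⟩
  let t : R ⟶ V := tt.1
  have ht : t ≫ π = x₂ := tt.2
  -- the universal property of `t`
  have key : ∀ ⦃T : Scheme.{u}⦄ (x₀ x₁ : T ⟶ X) (h : x₀ ≫ p = x₁ ≫ p) (v : Lifts D.obj x₀)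
      (g : T ⟶ R), g ≫ x₂ = x₁ → g ≫ s = v.1 → (D.φ x₀ x₁ h v).1 = g ≫ t := by
    intro T x₀ x₁ h v g hg₁ hg₂
    refine φ_val_of_comp p D g (s ≫ π) x₂ hR' ⟨s, rfl⟩ x₀ x₁ ?_ hg₁ h v hg₂.symm
    rw [← Category.assoc, hg₂]
    exact v.2
  let Δ : V ⟶ R := pullback.lift π (𝟙 V) (by rw [Category.id_comp])
  have hΔ₁ : Δ ≫ x₂ = π := pullback.lift_fst _ _ _
  have hΔ₂ : Δ ≫ s = 𝟙 V := pullback.lift_snd _ _ _
  have hU : Δ ≫ t = 𝟙 V := by
    have h1 := key π π rfl ⟨𝟙 V, Category.id_comp _⟩ Δ hΔ₁ hΔ₂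
    rw [← h1, D.φ_self]
  let R₂ := pullback p (s ≫ π ≫ p)
  let y : R₂ ⟶ X := pullback.fst p (s ≫ π ≫ p)
  let r : R₂ ⟶ R := pullback.snd p (s ≫ π ≫ p)
  have hR₂ : y ≫ p = r ≫ s ≫ π ≫ p := pullback.condition
  let et : R₂ ⟶ R := pullback.lift y (r ≫ t) (by
    rw [hR₂, Category.assoc, ← Category.assoc t, ht, hR])
  have het₁ : et ≫ x₂ = y := pullback.lift_fst _ _ _
  have het₂ : et ≫ s = r ≫ t := pullback.lift_snd _ _ _
  let es : R₂ ⟶ R := pullback.lift y (r ≫ s) (by rw [hR₂, Category.assoc])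
  have hes₁ : es ≫ x₂ = y := pullback.lift_fst _ _ _
  have hes₂ : es ≫ s = r ≫ s := pullback.lift_snd _ _ _
  have hC : et ≫ t = es ≫ t := by
    have e1 : (r ≫ s ≫ π) ≫ p = (r ≫ x₂) ≫ p := by
      rw [Category.assoc, Category.assoc, Category.assoc, hR]
    have e2 : (r ≫ x₂) ≫ p = y ≫ p := by
      rw [hR₂, Category.assoc, hR]
    have h1 := key (r ≫ s ≫ π) (r ≫ x₂) e1 ⟨r ≫ s, by rw [Category.assoc]⟩ r rfl rfl
    have h2 := key (r ≫ x₂) y e2 ⟨r ≫ t, by rw [Category.assoc, ht]⟩ et het₁ het₂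
    have h3 := key (r ≫ s ≫ π) y (e1.trans e2) ⟨r ≫ s, by rw [Category.assoc]⟩ es hes₁ hes₂
    rw [← h2, ← h3]
    have h4 : (⟨r ≫ t, by rw [Category.assoc, ht]⟩ : Lifts D.obj (r ≫ x₂)) =
        D.φ (r ≫ s ≫ π) (r ≫ x₂) e1 ⟨r ≫ s, by rw [Category.assoc]⟩ := Subtype.ext h1.symm
    rw [h4, D.φ_comp]
  obtain ⟨U, q, u, hUa, hpb, hq⟩ := Groth.Agent.Helper2.AffDesc.exists_affine_descent p π x₂ s
    (IsPullback.of_hasPullback p (π ≫ p)) t ht Δ hΔ₁ hΔ₂ hU y r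
    (IsPullback.of_hasPullback p (s ≫ π ≫ p)) et het₁ het₂ es hes₁ hes₂ hC
  refine ⟨Over.mk u, q, hUa, hpb, ?_⟩
  intro T x₀ x₁ h v
  let g : T ⟶ R := pullback.lift x₁ v.1 (by rw [← h, ← Category.assoc, v.2])
  have h1 := key x₀ x₁ h v g (pullback.lift_fst _ _ _) (pullback.lift_snd _ _ _)
  rw [h1, Category.assoc, ← hq, ← Category.assoc]
  congr 1
  exact pullback.lift_snd _ _ _

/-- Effectivity of descent for affine schemes along a flat morphism of affine schemes. -/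
theorem affine_case_effective [IsAffine X] [IsAffine S] [Flat p] (D : SchDD p)
    [IsAffine D.obj.left] : ∃ U : Over S, Nonempty ((toDD p).obj U ≅ D) := by
  obtain ⟨U, q, -, hpb, hinv⟩ := affine_case p D
  apply exists_iso_of_isEffective
  exact isEffective_of_quotient ((SchDDFam.ofSchDD.{u, u} p).obj D) U (fun _ => q)
    (fun _ => hpb) (fun T _ _ x₀ x₁ h v => hinv x₀ x₁ h v)

end Groth.Agent.Helper2.DescEff
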