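import Mathlib
import Groth.Prelude.Def_DescFam
import Groth.Agent.Lib.Helper5.Misc.DescFam

/-!
# Open sub-descent-data (helper2)

Given a descent datum `D` relative to a family `f` and open immersions `κ i : Y i ⟶ D.obj i` whose
ranges are stable under the gluing bijections, the `Y i` carry an induced descent datum.
-/

set_option autoImplicit false
set_option linter.unusedSectionVars false
set_option backward.isDefEq.respectTransparency false
universe w u
open CategoryTheory CategoryTheory.Limits AlgebraicGeometry Opposite Desc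

namespace Groth.Agent.Helper2.DescSub

open Groth.Agent.Lib.Helper5.DescFam

variable {S : Scheme.{u}} {ι : Type w} {X : ι → Scheme.{u}} {f : ∀ i, X i ⟶ S}
variable (D : SchDDFam f) {Y : ι → Scheme.{u}} (κ : ∀ i, Y i ⟶ (D.obj i).left)
  [hκ : ∀ i, IsOpenImmersion (κ i)]

/-- the sub-object -/
abbrev subObj (i : ι) : Over (X i) := Over.mk (κ i ≫ (D.obj i).hom)

/-- a point of the sub-object as a point of `D` -/
def toD {T : Scheme.{u}} {i : ι} {x : T ⟶ X i} (v : Lifts (subObj D κ i) x) : Lifts (D.obj i) x :=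
  ⟨v.1 ≫ κ i, by rw [Category.assoc]; exact v.2⟩

@[simp] lemma toD_val {T : Scheme.{u}} {i : ι} {x : T ⟶ X i} (v : Lifts (subObj D κ i) x) :
    (toD D κ v).1 = v.1 ≫ κ i := rfl

lemma range_toD {T : Scheme.{u}} {i : ι} {x : T ⟶ X i} (v : Lifts (subObj D κ i) x) :
    Set.range (toD D κ v).1.base ⊆ Set.range (κ i).base := by
  rw [toD_val, Scheme.Hom.comp_base, TopCat.coe_comp]
  exact Set.range_comp_subset_range _ _

/-- a point of `D` with range in the sub-object as a point of the sub-object -/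
noncomputable def ofD {T : Scheme.{u}} {i : ι} {x : T ⟶ X i} (w : Lifts (D.obj i) x)
    (hw : Set.range w.1.base ⊆ Set.range (κ i).base) : Lifts (subObj D κ i) x :=
  ⟨IsOpenImmersion.lift (κ i) w.1 hw, by
    change IsOpenImmersion.lift (κ i) w.1 hw ≫ κ i ≫ (D.obj i).hom = x
    rw [← Category.assoc, IsOpenImmersion.lift_fac]
    exact w.2⟩

lemma toD_ofD {T : Scheme.{u}} {i : ι} {x : T ⟶ X i} (w : Lifts (D.obj i) x)
    (hw : Set.range w.1.base ⊆ Set.range (κ i).base) : toD D κ (ofD D κ w hw) = w :=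
  Subtype.ext (IsOpenImmersion.lift_fac _ _ _)

include hκ in
lemma toD_injective {T : Scheme.{u}} {i : ι} {x : T ⟶ X i} :
    Function.Injective (toD D κ : Lifts (subObj D κ i) x → Lifts (D.obj i) x) := by
  intro v v' h
  apply Subtype.ext
  have := congrArg Subtype.val h
  simp only [toD_val] at this
  exact (cancel_mono (κ i)).mp this

lemma ofD_toD {T : Scheme.{u}} {i : ι} {x : T ⟶ X i} (v : Lifts (subObj D κ i) x)
    (hw : Set.range (toD D κ v).1.base ⊆ Set.range (κ i).base) : ofD D κ (toD D κ v) hw = v :=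
  toD_injective D κ (toD_ofD D κ _ hw)

variable (hst : ∀ ⦃T : Scheme.{u}⦄ ⦃i i' : ι⦄ (x₀ : T ⟶ X i) (x₁ : T ⟶ X i')
    (h : x₀ ≫ f i = x₁ ≫ f i') (v : Lifts (D.obj i) x₀),
    Set.range v.1.base ⊆ Set.range (κ i).base →
      Set.range (D.φ x₀ x₁ h v).1.base ⊆ Set.range (κ i').base)

/-- The open sub-descent-datum. -/
noncomputable def subDD : SchDDFam f where
  obj := subObj D κ
  φ T i i' x₀ x₁ h :=
    { toFun := fun v => ofD D κ (D.φ x₀ x₁ h (toD D κ v)) (hst x₀ x₁ h _ (range_toD D κ v))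
      invFun := fun v => ofD D κ (D.φ x₁ x₀ h.symm (toD D κ v))
        (hst x₁ x₀ h.symm _ (range_toD D κ v))
      left_inv := fun v => by
        apply toD_injective D κ
        rw [toD_ofD, toD_ofD, D.φ_comp, D.φ_self]
      right_inv := fun v => by
        apply toD_injective D κ
        rw [toD_ofD, toD_ofD, D.φ_comp, D.φ_self] }
  φ_natural T T' g i i' x₀ x₁ h y₀ y₁ hy₀ hy₁ h' v v' hv' := by
    rw [← cancel_mono (κ i'), Category.assoc]
    have e1 := congrArg Subtype.val (toD_ofD D κ (D.φ y₀ y₁ h' (toD D κ v'))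
      (hst y₀ y₁ h' _ (range_toD D κ v')))
    have e2 := congrArg Subtype.val (toD_ofD D κ (D.φ x₀ x₁ h (toD D κ v))
      (hst x₀ x₁ h _ (range_toD D κ v)))
    simp only [toD_val] at e1 e2
    simp only [Equiv.coe_fn_mk]
    rw [e1, e2]
    exact D.φ_natural g x₀ x₁ h y₀ y₁ hy₀ hy₁ h' (toD D κ v) (toD D κ v') (by
      simp only [toD_val]; rw [hv', Category.assoc])
  φ_self T i x v := by
    apply toD_injective D κ
    simp only [Equiv.coe_fn_mk]
    rw [toD_ofD, D.φ_self]
  φ_comp T i i' i'' x₀ x₁ x₂ h₀₁ h₁₂ v := by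
    apply toD_injective D κ
    simp only [Equiv.coe_fn_mk]
    rw [toD_ofD, toD_ofD, toD_ofD, D.φ_comp]

lemma toD_subDD_φ {T : Scheme.{u}} {i i' : ι} (x₀ : T ⟶ X i) (x₁ : T ⟶ X i')
    (h : x₀ ≫ f i = x₁ ≫ f i') (v : Lifts (subObj D κ i) x₀) :
    toD D κ ((subDD D κ hst).φ x₀ x₁ h v) = D.φ x₀ x₁ h (toD D κ v) :=
  toD_ofD D κ _ _

/-- The inclusion of the open sub-descent-datum. -/
noncomputable def subDDHom : subDD D κ hst ⟶ D where
  hom i := Over.homMk (κ i) rfl
  comm T i i' x₀ x₁ h v w hw := by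
    have e : w = toD D κ v := Subtype.ext (by simpa using hw)
    rw [e, ← toD_subDD_φ D κ hst]
    rfl

@[simp] lemma subDDHom_hom_left (i : ι) : ((subDDHom D κ hst).hom i).left = κ i := rfl

end Groth.Agent.Helper2.DescSub
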