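import Mathlib
import Groth.Agent.Lib.Helper2.Desc.RepEff
import Groth.Agent.Lib.Helper4.FpqcQuot

/-!
# Open sub-descent-data which are effective give representable open subfunctors (helper2)
-/

set_option autoImplicit false
set_option linter.unusedSectionVars false
set_option linter.style.haveILetI false
set_option backward.isDefEq.respectTransparency false
universe u
open CategoryTheory CategoryTheory.Limits AlgebraicGeometry Opposite Desc

namespace Groth.Agent.Helper2.DescSec

open Groth.Agent.Lib.Helper5.DescFam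

variable {S : Scheme.{u}} {ι : Type u} {X : ι → Scheme.{u}} {f : ∀ i, X i ⟶ S}

section Lift

variable {D D' : SchDDFam f} (j : D' ⟶ D) [hj : ∀ i, IsOpenImmersion (j.hom i).left]

/-- Lift of a point through an open immersion of descent data. -/
noncomputable def liftJ {T : Scheme.{u}} {i : ι} {x : T ⟶ X i} (w : Lifts (D.obj i) x)
    (hw : Set.range w.1.base ⊆ Set.range (j.hom i).left.base) : Lifts (D'.obj i) x :=
  ⟨IsOpenImmersion.lift (j.hom i).left w.1 hw, by
    rw [← Over.w (j.hom i), ← Category.assoc, IsOpenImmersion.lift_fac]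
    exact w.2⟩

lemma push_liftJ {T : Scheme.{u}} {i : ι} {x : T ⟶ X i} (w : Lifts (D.obj i) x)
    (hw : Set.range w.1.base ⊆ Set.range (j.hom i).left.base) :
    SchDDFam.Hom.push j (liftJ j w hw) = w :=
  Subtype.ext (IsOpenImmersion.lift_fac _ _ _)

include hj in
lemma push_injective {T : Scheme.{u}} {i : ι} {x : T ⟶ X i} :
    Function.Injective (SchDDFam.Hom.push j : Lifts (D'.obj i) x → Lifts (D.obj i) x) := by
  intro v v' h
  apply Subtype.ext
  have := congrArg Subtype.val h
  simp only [push_val] at this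
  exact (cancel_mono (j.hom i).left).mp this

lemma range_push {T : Scheme.{u}} {i : ι} {x : T ⟶ X i} (v : Lifts (D'.obj i) x) :
    Set.range (SchDDFam.Hom.push j v).1.base ⊆ Set.range (j.hom i).left.base := by
  rw [push_val, Scheme.Hom.comp_base, TopCat.coe_comp]
  exact Set.range_comp_subset_range _ _

/-- Open sub-descent-data are stable under the gluing bijections. -/
lemma range_φ {T : Scheme.{u}} {i i' : ι} (x₀ : T ⟶ X i) (x₁ : T ⟶ X i')
    (h : x₀ ≫ f i = x₁ ≫ f i') (w : Lifts (D.obj i) x₀)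
    (hw : Set.range w.1.base ⊆ Set.range (j.hom i).left.base) :
    Set.range (D.φ x₀ x₁ h w).1.base ⊆ Set.range (j.hom i').left.base := by
  rw [← push_liftJ j w hw, push_φ]
  exact range_push j _

end Lift

lemma push_iso_injective {D D' : SchDDFam f} (e : D' ≅ D) {T : Scheme.{u}} {i : ι} {x : T ⟶ X i} :
    Function.Injective (SchDDFam.Hom.push e.hom : Lifts (D'.obj i) x → Lifts (D.obj i) x) := by
  intro v v' h
  have := congrArg (SchDDFam.Hom.push e.inv) h
  rwa [← push_comp, ← push_comp, e.hom_inv_id, push_id, push_id] at this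

section Sub

variable (hf : Presieve.ofArrows X f ∈ Scheme.fpqcPrecoverage S)
variable {D D' : SchDDFam f} (j : D' ⟶ D) [hj : ∀ i, IsOpenImmersion (j.hom i).left]
variable {U₀ : Scheme.{u}} (u : U₀ ⟶ S) (e : (toDDFam f).obj (Over.mk u) ≅ D')

/-- The universal section attached to an effective sub-descent-datum. -/
noncomputable def subSec : Sec D U₀ := ⟨u, e.hom ≫ j⟩

lemma subSec_pt {T' : Scheme.{u}} {i : ι} (g : T' ⟶ U₀) (x : T' ⟶ X i) (h : x ≫ f i = g ≫ u) :
    (subSec j u e).pt g x h =
      SchDDFam.Hom.push j (SchDDFam.Hom.push e.hom (cpt u g x h)) := by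
  unfold Sec.pt subSec
  rw [push_comp]

include hf hj in
/-- `b ↦ ξ.res b` is injective. -/
lemma subSec_res_injective {T : Scheme.{u}} (b₁ b₂ : T ⟶ U₀)
    (h : (subSec j u e).res b₁ = (subSec j u e).res b₂) : b₁ = b₂ := by
  have ht : b₁ ≫ u = b₂ ≫ u := congrArg Sec.t h
  apply jointly_epi_of_fpqc _ (cover_snd f hf (Over.mk (b₁ ≫ u)))
  intro i
  have hc : pullback.fst (f i) (b₁ ≫ u) ≫ f i = pullback.snd (f i) (b₁ ≫ u) ≫ b₁ ≫ u :=
    pullback.condition
  have hc' : pullback.fst (f i) (b₁ ≫ u) ≫ f i =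
      pullback.snd (f i) (b₁ ≫ u) ≫ ((subSec j u e).res b₂).t := by
    refine hc.trans ?_
    change _ = pullback.snd (f i) (b₁ ≫ u) ≫ b₂ ≫ u
    rw [ht]
  have h1 := Sec.pt_val_congr_sec h (pullback.snd (f i) (b₁ ≫ u)) (pullback.fst (f i) (b₁ ≫ u))
    hc hc'
  have h2 : ((subSec j u e).res b₁).pt (pullback.snd (f i) (b₁ ≫ u))
      (pullback.fst (f i) (b₁ ≫ u)) hc =
      ((subSec j u e).res b₂).pt (pullback.snd (f i) (b₁ ≫ u))
      (pullback.fst (f i) (b₁ ≫ u)) hc' := Subtype.ext h1
  rw [Sec.res_pt, Sec.res_pt, subSec_pt, subSec_pt] at h2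
  have h3 := push_iso_injective e (push_injective j h2)
  have h4 := congrArg (fun v => v.1 ≫ pullback.snd (f i) u) h3
  simpa using h4

include hf in
/-- fullness: a section of the sub-datum comes from a morphism to `U₀`. -/
lemma exists_res_eq (T : Scheme.{u}) (s' : Sec D' T) :
    ∃ b : T ⟶ U₀, (subSec j u e).res b = ⟨s'.t, s'.a ≫ j⟩ := by
  haveI := toDDFam_full f hf
  obtain ⟨β, hβ⟩ := (toDDFam f).map_surjective (s'.a ≫ e.inv)
  have hβ' : s'.a = (toDDFam f).map β ≫ e.hom := by
    rw [hβ, Category.assoc, e.inv_hom_id, Category.comp_id]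
  have hw : β.left ≫ u = s'.t := Over.w β
  refine ⟨β.left, ?_⟩
  refine Sec.ext_pt hw ?_
  intro T' i g x hh
  rw [Sec.res_pt, subSec_pt]
  unfold Sec.pt
  dsimp only
  rw [push_comp, hβ', push_comp, push_map_cpt]

end Sub

end Groth.Agent.Helper2.DescSec
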