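import Mathlib
import Groth.Agent.Lib.Helper2.Desc.OpenSub

/-!
# The open locus where a section factors through an open sub-descent-datum (helper2)
-/

set_option autoImplicit false
set_option linter.unusedSectionVars false
set_option linter.style.haveILetI false
set_option backward.isDefEq.respectTransparency false
universe u
open CategoryTheory CategoryTheory.Limits AlgebraicGeometry Opposite Desc

namespace Groth.Agent.Helper2.DescSec

open Groth.Agent.Lib.Helper5.DescFam

variable {S : Scheme.{u}} {ι : Type u} {X : ι → Scheme.{u}} {f : ∀ i, X i ⟶ S}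

section UVal

variable {D : SchDDFam f} {T : Scheme.{u}} (s : Sec D T)

/-- the universal value of a section -/
noncomputable def uval (i : ι) : pullback (f i) s.t ⟶ (D.obj i).left :=
  (s.pt (pullback.snd (f i) s.t) (pullback.fst (f i) s.t) pullback.condition).1

lemma pt_val_eq_uval {T' : Scheme.{u}} {i : ι} (g : T' ⟶ T) (x : T' ⟶ X i)
    (h : x ≫ f i = g ≫ s.t) : (s.pt g x h).1 = pullback.lift x g h ≫ uval s i := by
  unfold uval
  rw [← s.pt_nat (pullback.lift x g h) (pullback.snd (f i) s.t) (pullback.fst (f i) s.t)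
    pullback.condition (by rw [pullback.lift_fst, pullback.lift_snd]; exact h)]
  exact Sec.pt_val_congr s _ _ (pullback.lift_snd _ _ _).symm (pullback.lift_fst _ _ _).symm

end UVal

section SubOpen

variable (hf : Presieve.ofArrows X f ∈ Scheme.fpqcPrecoverage S)
variable {D D' : SchDDFam f} (j : D' ⟶ D) [hj : ∀ i, IsOpenImmersion (j.hom i).left]
variable {T : Scheme.{u}} (s : Sec D T)

include hj in
lemma preimage_le_of_φ {Z : Scheme.{u}} {i i' : ι} (x₀ : Z ⟶ X i) (x₁ : Z ⟶ X i') (g : Z ⟶ T)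
    (h₀ : x₀ ≫ f i = g ≫ s.t) (h₁ : x₁ ≫ f i' = g ≫ s.t) :
    (s.pt g x₀ h₀).1 ⁻¹ᵁ (j.hom i).left.opensRange ≤
      (s.pt g x₁ h₁).1 ⁻¹ᵁ (j.hom i').left.opensRange := by
  intro z hz
  let O : Z.Opens := (s.pt g x₀ h₀).1 ⁻¹ᵁ (j.hom i).left.opensRange
  have e₀ : (O.ι ≫ x₀) ≫ f i = (O.ι ≫ g) ≫ s.t := by rw [Category.assoc, Category.assoc, h₀]
  have e₁ : (O.ι ≫ x₁) ≫ f i' = (O.ι ≫ g) ≫ s.t := by rw [Category.assoc, Category.assoc, h₁]
  have n₀ := s.pt_nat O.ι g x₀ h₀ e₀
  have n₁ := s.pt_nat O.ι g x₁ h₁ e₁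
  have hr : Set.range (s.pt (O.ι ≫ g) (O.ι ≫ x₀) e₀).1.base ⊆
      Set.range (j.hom i).left.base := by
    rw [n₀]
    rintro _ ⟨⟨y, hy⟩, rfl⟩
    exact hy
  have hr' := range_φ j (O.ι ≫ x₀) (O.ι ≫ x₁) (e₀.trans e₁.symm) _ hr
  rw [s.pt_comm (O.ι ≫ g) (O.ι ≫ x₀) (O.ι ≫ x₁) e₀ e₁, n₁] at hr'
  exact hr' ⟨⟨z, hz⟩, rfl⟩

/-- the opens of the universal points where the section lands in the sub-datum -/
noncomputable def subW (i : ι) : (pullback (f i) s.t).Opens :=
  uval s i ⁻¹ᵁ (j.hom i).left.opensRange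

include hj in
lemma subW_compat (i i' : ι) :
    pullback.fst (pullback.snd (f i) s.t) (pullback.snd (f i') s.t) ⁻¹ᵁ subW j s i =
      pullback.snd (pullback.snd (f i) s.t) (pullback.snd (f i') s.t) ⁻¹ᵁ subW j s i' := by
  let pr₁ := pullback.fst (pullback.snd (f i) s.t) (pullback.snd (f i') s.t)
  let pr₂ := pullback.snd (pullback.snd (f i) s.t) (pullback.snd (f i') s.t)
  let g := pr₁ ≫ pullback.snd (f i) s.t
  have hg : pr₂ ≫ pullback.snd (f i') s.t = g := pullback.condition.symm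
  have e₀ : (pr₁ ≫ pullback.fst (f i) s.t) ≫ f i = g ≫ s.t := by
    rw [Category.assoc, pullback.condition, Category.assoc]
  have e₁ : (pr₂ ≫ pullback.fst (f i') s.t) ≫ f i' = g ≫ s.t := by
    rw [Category.assoc, pullback.condition, ← Category.assoc, hg]
  have h₀ : pr₁ ≫ uval s i = (s.pt g (pr₁ ≫ pullback.fst (f i) s.t) e₀).1 := by
    rw [pt_val_eq_uval]
    congr 1
    apply pullback.hom_ext <;> simp [g]
  have h₁ : pr₂ ≫ uval s i' = (s.pt g (pr₂ ≫ pullback.fst (f i') s.t) e₁).1 := by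
    rw [pt_val_eq_uval]
    congr 1
    apply pullback.hom_ext
    · simp
    · simp [hg]
  change pr₁ ⁻¹ᵁ (uval s i ⁻¹ᵁ _) = pr₂ ⁻¹ᵁ (uval s i' ⁻¹ᵁ _)
  rw [← Scheme.Hom.comp_preimage, ← Scheme.Hom.comp_preimage, h₀, h₁]
  exact le_antisymm (preimage_le_of_φ j s _ _ g e₀ e₁) (preimage_le_of_φ j s _ _ g e₁ e₀)

include hf hj in
lemma exists_subOpen : ∃! V : T.Opens, ∀ i, pullback.snd (f i) s.t ⁻¹ᵁ V = subW j s i :=
  Groth.Agent.Lib.Helper4.FpqcQuot.S9839_main (fun i => pullback.snd (f i) s.t)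
    (cover_snd f hf (Over.mk s.t)) (subW j s) (subW_compat j s)

/-- the open locus of `T` where the section `s` factors through the sub-datum -/
noncomputable def subOpen : T.Opens := (exists_subOpen hf j s).exists.choose

lemma snd_preimage_subOpen (i : ι) :
    pullback.snd (f i) s.t ⁻¹ᵁ subOpen hf j s = subW j s i :=
  (exists_subOpen hf j s).exists.choose_spec i

/-- If `g` factors through `subOpen`, all values of `s` along `g` lie in the sub-datum. -/
lemma range_pt_of_le {T' : Scheme.{u}} (g : T' ⟶ T)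
    (hg : Set.range g.base ⊆ (subOpen hf j s : Set T)) {T'' : Scheme.{u}} {i : ι} (k : T'' ⟶ T')
    (x : T'' ⟶ X i) (h : x ≫ f i = (k ≫ g) ≫ s.t) :
    Set.range (s.pt (k ≫ g) x h).1.base ⊆ Set.range (j.hom i).left.base := by
  rw [pt_val_eq_uval]
  rintro _ ⟨y, rfl⟩
  have h1 : (pullback.lift x (k ≫ g) h).base y ∈ subW j s i := by
    rw [← snd_preimage_subOpen hf j s i]
    change (pullback.snd (f i) s.t).base ((pullback.lift x (k ≫ g) h).base y) ∈ subOpen hf j s
    rw [← Scheme.Hom.comp_apply, pullback.lift_snd]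
    exact hg ⟨k.base y, rfl⟩
  exact h1

/-- If the values of `s` along `a` at universal points lie in the sub-datum, `a` factors through
`subOpen`. -/
lemma range_le_subOpen {T' : Scheme.{u}} (a : T' ⟶ T)
    (h : ∀ i, Set.range ((s.res a).pt (pullback.snd (f i) (a ≫ s.t))
      (pullback.fst (f i) (a ≫ s.t)) pullback.condition).1.base ⊆
        Set.range (j.hom i).left.base) :
    Set.range a.base ⊆ (subOpen hf j s : Set T) := by
  rintro _ ⟨y, rfl⟩
  have hcov := (Scheme.ofArrows_mem_precoverage_iff _).mp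
    (cover_snd f hf (Over.mk (a ≫ s.t))).2
  obtain ⟨i, z, hz⟩ := hcov.1 y
  have hc : pullback.fst (f i) (a ≫ s.t) ≫ f i =
      (pullback.snd (f i) (a ≫ s.t) ≫ a) ≫ s.t := by
    rw [Category.assoc]; exact pullback.condition
  let θ : pullback (f i) (a ≫ s.t) ⟶ pullback (f i) s.t :=
    pullback.lift (pullback.fst _ _) (pullback.snd _ _ ≫ a) hc
  have h1 : ((s.res a).pt (pullback.snd (f i) (a ≫ s.t))
      (pullback.fst (f i) (a ≫ s.t)) pullback.condition).1 = θ ≫ uval s i := by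
    rw [Sec.res_pt_val s a _ _ _ hc, pt_val_eq_uval]
  have h2 : θ.base z ∈ subW j s i := by
    change (uval s i).base (θ.base z) ∈ (j.hom i).left.opensRange
    rw [← Scheme.Hom.comp_apply, ← h1]
    exact h i ⟨z, rfl⟩
  rw [← snd_preimage_subOpen hf j s i] at h2
  have h3 : (pullback.snd (f i) s.t).base (θ.base z) ∈ subOpen hf j s := h2
  rw [← Scheme.Hom.comp_apply, pullback.lift_snd, Scheme.Hom.comp_apply] at h3
  have hz' : (pullback.snd (f i) (a ≫ s.t)).base z = y := hz
  rw [hz'] at h3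
  exact h3

end SubOpen

end Groth.Agent.Helper2.DescSec
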