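import Mathlib
import Groth.Agent.Lib.Helper2.Desc.OpenSub2

/-!
# A descent datum covered by effective open sub-descent-data is effective (helper2)
-/

set_option autoImplicit false
set_option linter.unusedSectionVars false
set_option linter.style.haveILetI false
set_option backward.isDefEq.respectTransparency false
universe u
open CategoryTheory CategoryTheory.Limits AlgebraicGeometry Opposite Desc

namespace Groth.Agent.Helper2.DescSec

open Groth.Agent.Lib.Helper5.DescFam

variable {S : Scheme.{u}} {ι : Type u} {X : ι → Scheme.{u}} {f : ∀ i, X i ⟶ S}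

section LiftSec

variable {D D' : SchDDFam f} (j : D' ⟶ D) [hj : ∀ i, IsOpenImmersion (j.hom i).left]
variable {T : Scheme.{u}} (s : Sec D T)
  (hall : ∀ ⦃T' : Scheme.{u}⦄ ⦃i : ι⦄ (g : T' ⟶ T) (x : T' ⟶ X i) (h : x ≫ f i = g ≫ s.t),
    Set.range (s.pt g x h).1.base ⊆ Set.range (j.hom i).left.base)

/-- A section all of whose values lie in the open sub-datum is a section of the sub-datum. -/
noncomputable def liftSec : Sec D' T :=
  Sec.mk' s.t (fun T' i g x h => liftJ j (s.pt g x h) (hall g x h))
    (fun T' T'' i k g x h h' => by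
      rw [← cancel_mono (j.hom i).left, Category.assoc]
      have e1 := congrArg Subtype.val (push_liftJ j (s.pt (k ≫ g) (k ≫ x) h') (hall _ _ h'))
      have e2 := congrArg Subtype.val (push_liftJ j (s.pt g x h) (hall _ _ h))
      simp only [push_val] at e1 e2
      rw [e1, e2]
      exact s.pt_nat k g x h h')
    (fun T' i i' g x₀ x₁ h₀ h₁ => by
      apply push_injective j
      rw [← push_φ, push_liftJ, push_liftJ]
      exact s.pt_comm g x₀ x₁ h₀ h₁)

lemma liftSec_push : (⟨(liftSec j s hall).t, (liftSec j s hall).a ≫ j⟩ : Sec D T) = s := by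
  refine Sec.ext_pt rfl ?_
  intro T' i g x hh
  have h1 : (⟨(liftSec j s hall).t, (liftSec j s hall).a ≫ j⟩ : Sec D T).pt g x hh =
      SchDDFam.Hom.push j ((liftSec j s hall).pt g x hh) := by
    unfold Sec.pt
    rw [push_comp]
  rw [h1]
  unfold liftSec
  rw [Sec.mk'_pt, push_liftJ]

end LiftSec

section Square

variable (hf : Presieve.ofArrows X f ∈ Scheme.fpqcPrecoverage S)
variable {D D' : SchDDFam f} (j : D' ⟶ D) [hj : ∀ i, IsOpenImmersion (j.hom i).left]
variable {U₀ : Scheme.{u}} (u : U₀ ⟶ S) (e : (toDDFam f).obj (Over.mk u) ≅ D')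
variable {T : Scheme.{u}} (s : Sec D T)

include hj in
lemma exists_fstMap : ∃ b : (subOpen hf j s : Scheme.{u}) ⟶ U₀,
    (subSec j u e).res b = s.res (subOpen hf j s).ι := by
  have hall : ∀ ⦃T' : Scheme.{u}⦄ ⦃i : ι⦄ (g : T' ⟶ (subOpen hf j s : Scheme.{u})) (x : T' ⟶ X i)
      (h : x ≫ f i = g ≫ (s.res (subOpen hf j s).ι).t),
      Set.range ((s.res (subOpen hf j s).ι).pt g x h).1.base ⊆
        Set.range (j.hom i).left.base := by
    intro T' i g x h
    rw [Sec.res_pt]
    refine range_pt_of_le hf j s (subOpen hf j s).ι ?_ g x _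
    rw [Scheme.Opens.range_ι]
  obtain ⟨b, hb⟩ := exists_res_eq hf j u e _ (liftSec j _ hall)
  exact ⟨b, hb.trans (liftSec_push j _ hall)⟩

/-- the lift of the restriction of `s` to `subOpen` -/
noncomputable def fstMap : (subOpen hf j s : Scheme.{u}) ⟶ U₀ :=
  (exists_fstMap hf j u e s).choose

lemma fstMap_spec : (subSec j u e).res (fstMap hf j u e s) = s.res (subOpen hf j s).ι :=
  (exists_fstMap hf j u e s).choose_spec

include hf hj in
/-- If `ξ.res b = s.res a` then `a` factors through `subOpen s`. -/
lemma range_le_of_res_eq {T' : Scheme.{u}} (b : T' ⟶ U₀) (a : T' ⟶ T)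
    (hab : (subSec j u e).res b = s.res a) :
    Set.range a.base ⊆ (subOpen hf j s : Set T) := by
  apply range_le_subOpen hf j s a
  intro i
  have hc : pullback.fst (f i) (a ≫ s.t) ≫ f i =
      pullback.snd (f i) (a ≫ s.t) ≫ ((subSec j u e).res b).t := by
    rw [hab]; exact pullback.condition
  have h1 := Sec.pt_val_congr_sec hab (pullback.snd (f i) (a ≫ s.t))
    (pullback.fst (f i) (a ≫ s.t)) hc pullback.condition
  rw [← h1]
  have h2 : ((subSec j u e).res b).pt (pullback.snd (f i) (a ≫ s.t))
      (pullback.fst (f i) (a ≫ s.t)) hc = SchDDFam.Hom.push j (SchDDFam.Hom.push e.hom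
        (cpt u (pullback.snd (f i) (a ≫ s.t) ≫ b) (pullback.fst (f i) (a ≫ s.t)) (by
          rw [hc, Sec.res_t, Category.assoc]; rfl))) := by
    rw [Sec.res_pt, subSec_pt]
  rw [h2]
  exact range_push j _

/-- The pullback square exhibiting `subOpen s` as the fibre product. -/
theorem isPullback_subOpen (g : yoneda.obj T ⟶ secFunctor D) (hs : yonedaEquiv g = s) :
    IsPullback (yoneda.map (fstMap hf j u e s)) (yoneda.map (subOpen hf j s).ι)
      (yonedaEquiv.symm (subSec j u e)) g := by
  have hg : ∀ {T' : Scheme.{u}} (a : T' ⟶ T), g.app (op T') a = s.res a := by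
    intro T' a
    rw [← hs]
    exact (map_yonedaEquiv g a).symm
  have hξ : ∀ {T' : Scheme.{u}} (b : T' ⟶ U₀),
      (yonedaEquiv.symm (subSec j u e) : yoneda.obj U₀ ⟶ secFunctor D).app (op T') b =
        (subSec j u e).res b := fun b => rfl
  apply IsPullback.of_forall_isPullback_app
  intro T'
  obtain ⟨T'⟩ := T'
  rw [Types.isPullback_iff]
  refine ⟨?_, ?_, ?_⟩
  · ext c
    change (yonedaEquiv.symm (subSec j u e) : yoneda.obj U₀ ⟶ secFunctor D).app (op T')
      (c ≫ fstMap hf j u e s) = g.app (op T') (c ≫ (subOpen hf j s).ι)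
    rw [hg, hξ, Sec.res_comp, Sec.res_comp, fstMap_spec]
  · rintro (c₁ : T' ⟶ _) (c₂ : T' ⟶ _) ⟨-, h⟩
    exact (cancel_mono (subOpen hf j s).ι).mp h
  · rintro (b : T' ⟶ U₀) (a : T' ⟶ T) hab
    have hab' : (subSec j u e).res b = s.res a := by
      rw [← hg, ← hξ]; exact hab
    have hr : Set.range a.base ⊆ Set.range (subOpen hf j s).ι.base := by
      rw [Scheme.Opens.range_ι]
      exact range_le_of_res_eq hf j u e s b a hab'
    refine ⟨IsOpenImmersion.lift (subOpen hf j s).ι a hr, ?_, ?_⟩
    · change IsOpenImmersion.lift _ a hr ≫ fstMap hf j u e s = b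
      apply subSec_res_injective hf j u e
      rw [Sec.res_comp, fstMap_spec, ← Sec.res_comp, IsOpenImmersion.lift_fac, hab']
    · change IsOpenImmersion.lift _ a hr ≫ (subOpen hf j s).ι = a
      exact IsOpenImmersion.lift_fac _ _ _

include hf hj in
/-- The subfunctor of sections factoring through an effective open sub-datum is representable
by an open immersion. -/
theorem presheaf_subSec :
    IsOpenImmersion.presheaf (yonedaEquiv.symm (subSec j u e) :
      yoneda.obj U₀ ⟶ secFunctor D) := by
  apply MorphismProperty.relative.of_exists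
  intro T g
  exact ⟨_, _, _, isPullback_subOpen hf j u e (yonedaEquiv g) g rfl, inferInstance⟩

end Square

/-- **Local effectivity**: a descent datum relative to an fpqc covering family which is covered by
effective open sub-descent-data is effective. -/
theorem isEffective_of_open_cover (hf : Presieve.ofArrows X f ∈ Scheme.fpqcPrecoverage S)
    (D : SchDDFam f) {K : Type u} (D' : K → SchDDFam f) (j : ∀ c, D' c ⟶ D)
    (hj : ∀ c i, IsOpenImmersion ((j c).hom i).left) (hD' : ∀ c, (D' c).IsEffective)
    (hcov : ∀ (i : ι) (v : (D.obj i).left), ∃ c, v ∈ Set.range ((j c).hom i).left.base) :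
    D.IsEffective := by
  haveI : ∀ c i, IsOpenImmersion ((j c).hom i).left := hj
  choose U' hU' using hD'
  let e : ∀ c, (toDDFam f).obj (Over.mk (U' c).hom) ≅ D' c := fun c => (hU' c).some
  let F : Sheaf Scheme.zariskiTopology.{u} (Type u) :=
    ⟨secFunctor D, (isSheaf_iff_isSheaf_of_type _ _).mpr (isSheaf_secFunctor D)⟩
  let φ : ∀ c, yoneda.obj (U' c).left ⟶ F.1 := fun c =>
    yonedaEquiv.symm (subSec (j c) (U' c).hom (e c))
  have hφ : ∀ c, IsOpenImmersion.presheaf (φ c) := fun c =>
    presheaf_subSec hf (j c) (U' c).hom (e c)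
  haveI : Presheaf.IsLocallySurjective Scheme.zariskiTopology (Limits.Sigma.desc φ) := by
    constructor
    intro T (s : Sec D T)
    have hcover : TopologicalSpace.IsOpenCover (fun c : K => subOpen hf (j c) s) := by
      apply TopologicalSpace.IsOpenCover.mk
      rw [eq_top_iff]
      intro y _
      have hc := (Scheme.ofArrows_mem_precoverage_iff _).mp (cover_snd f hf (Over.mk s.t)).2
      obtain ⟨i, z, hz⟩ := hc.1 y
      obtain ⟨c, hcv⟩ := hcov i ((uval s i).base z)
      have h1 : z ∈ subW (j c) s i := hcv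
      rw [← snd_preimage_subOpen hf (j c) s i] at h1
      have h2 : (pullback.snd (f i) s.t).base z ∈ subOpen hf (j c) s := h1
      have hz' : (pullback.snd (f i) s.t).base z = y := hz
      rw [hz'] at h2
      exact TopologicalSpace.Opens.mem_iSup.mpr ⟨c, h2⟩
    let 𝒰 : T.OpenCover := T.openCoverOfIsOpenCover (fun c : K => subOpen hf (j c) s) hcover
    refine Scheme.zariskiTopology.superset_covering ?_ 𝒰.mem_grothendieckTopology
    rw [Sieve.ofArrows, Sieve.generate_le_iff]
    rintro _ _ ⟨c⟩
    refine ⟨(Limits.Sigma.ι (fun c : K => yoneda.obj (U' c).left) c).app _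
      (fstMap hf (j c) (U' c).hom (e c) s), ?_⟩
    have h1 : (Limits.Sigma.desc φ).app (op (subOpen hf (j c) s : Scheme.{u}))
        ((Limits.Sigma.ι (fun c : K => yoneda.obj (U' c).left) c).app _
          (fstMap hf (j c) (U' c).hom (e c) s)) =
        (φ c).app (op (subOpen hf (j c) s : Scheme.{u}))
          (fstMap hf (j c) (U' c).hom (e c) s) := by
      rw [← Limits.Sigma.ι_desc φ c]
      rfl
    refine h1.trans ?_
    exact fstMap_spec hf (j c) (U' c).hom (e c) s
  obtain ⟨U₀, ⟨R⟩⟩ := @Scheme.LocalRepresentability.isRepresentable F K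
    (fun c => (U' c).left) φ hφ inferInstance
  exact isEffective_of_representableBy D R

end Groth.Agent.Helper2.DescSec
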