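import Mathlib
import Groth.Agent.Lib.Helper2.Desc.ThmG
import Groth.Agent.Lib.Helper2.Desc.SubDD
import Groth.Agent.Lib.Helper2.Desc.EffCrit

/-!
# Effectivity of descent data is local on the base (helper2)
-/

set_option autoImplicit false
set_option linter.unusedSectionVars false
set_option linter.style.haveILetI false
set_option backward.isDefEq.respectTransparency false
universe u
open CategoryTheory CategoryTheory.Limits AlgebraicGeometry Opposite Desc

namespace Groth.Agent.Helper2.DescBase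

open Groth.Agent.Lib.Helper5.DescFam Groth.Agent.Helper2.DescSub Groth.Agent.Helper2.DescEff
  Groth.Agent.Helper2.DescSec

section Cart

variable {S S' : Scheme.{u}} {ι : Type u} {X X' : ι → Scheme.{u}} {f : ∀ i, X i ⟶ S}
  {f' : ∀ i, X' i ⟶ S'} (p : S' ⟶ S) [Mono p] (p' : ∀ i, X' i ⟶ X i)
  [hp' : ∀ i, IsOpenImmersion (p' i)]
  (hw : ∀ i, IsPullback (p' i) (f' i) (f i) p) (D : SchDDFam f)

/-- the pulled back descent datum -/
noncomputable abbrev pullD : SchDDFam f' :=
  (pullDDFam (f := f) (f' := f') (α := fun i => i) (p := p) (p' := p') (fun i => (hw i).w)).obj D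

/-- the open immersions `D' i ⟶ D i` -/
noncomputable abbrev kap (i : ι) : pullback (D.obj i).hom (p' i) ⟶ (D.obj i).left :=
  pullback.fst (D.obj i).hom (p' i)

instance (i : ι) : IsOpenImmersion (kap p' D i) := by
  unfold kap; infer_instance

include hw in
lemma fac_of_fac {T : Scheme.{u}} {i i' : ι} (x₀ : T ⟶ X i) (x₁ : T ⟶ X i')
    (h : x₀ ≫ f i = x₁ ≫ f i') (h₀ : ∃ x₀' : T ⟶ X' i, x₀' ≫ p' i = x₀) :
    ∃ x₁' : T ⟶ X' i', x₁' ≫ p' i' = x₁ := by
  obtain ⟨x₀', rfl⟩ := h₀
  refine ⟨(hw i').lift x₁ (x₀' ≫ f' i) ?_, (hw i').lift_fst _ _ _⟩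
  rw [← h, Category.assoc, (hw i).w, Category.assoc]

lemma range_kap_iff {T : Scheme.{u}} {i : ι} {x : T ⟶ X i} (v : Lifts (D.obj i) x) :
    Set.range v.1.base ⊆ Set.range (kap p' D i).base ↔ ∃ x' : T ⟶ X' i, x' ≫ p' i = x := by
  constructor
  · intro hv
    refine ⟨IsOpenImmersion.lift (kap p' D i) v.1 hv ≫ pullback.snd _ _, ?_⟩
    rw [Category.assoc, ← pullback.condition, ← Category.assoc, IsOpenImmersion.lift_fac]
    exact v.2
  · rintro ⟨x', hx'⟩
    have h1 : v.1 = pullback.lift v.1 x' (by rw [hx']; exact v.2) ≫ kap p' D i :=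
      (pullback.lift_fst _ _ _).symm
    rw [h1, Scheme.Hom.comp_base, TopCat.coe_comp]
    exact Set.range_comp_subset_range _ _

include hw in
lemma kap_stable ⦃T : Scheme.{u}⦄ ⦃i i' : ι⦄ (x₀ : T ⟶ X i) (x₁ : T ⟶ X i')
    (h : x₀ ≫ f i = x₁ ≫ f i') (v : Lifts (D.obj i) x₀)
    (hv : Set.range v.1.base ⊆ Set.range (kap p' D i).base) :
    Set.range (D.φ x₀ x₁ h v).1.base ⊆ Set.range (kap p' D i').base := by
  rw [range_kap_iff] at hv ⊢
  exact fac_of_fac p p' hw x₀ x₁ h hv

/-- the open sub-descent-datum of `D` lying over `S'` -/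
noncomputable def overSub : SchDDFam f := subDD D (kap p' D) (kap_stable p p' hw D)

/-- the inclusion of the sub-descent-datum -/
noncomputable def overSubHom : overSub p p' hw D ⟶ D := subDDHom D (kap p' D) (kap_stable p p' hw D)

lemma overSubHom_left (i : ι) : ((overSubHom p p' hw D).hom i).left = kap p' D i := rfl

include hw in
/-- If the pulled back descent datum is effective, so is the sub-descent-datum over `S'`. -/
theorem isEffective_overSub (h : (pullD p p' hw D).IsEffective) :
    (overSub p p' hw D).IsEffective := by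
  obtain ⟨U', ⟨he⟩⟩ := h
  let q : ∀ i, pullback (D.obj i).hom (p' i) ⟶ U'.left := fun i =>
    (he.inv.hom i).left ≫ pullback.snd (f' i) U'.hom
  refine isEffective_of_quotient (overSub p p' hw D) (Over.mk (U'.hom ≫ p)) q ?_ ?_
  · intro i
    have hinv : he.inv.hom i ≫ he.hom.hom i = 𝟙 _ := by
      exact congrArg (fun a : pullD p p' hw D ⟶ pullD p p' hw D => a.hom i) he.inv_hom_id
    have hinv' : he.hom.hom i ≫ he.inv.hom i = 𝟙 _ := by
      exact congrArg (fun a : (toDDFam f').obj U' ⟶ (toDDFam f').obj U' => a.hom i)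
        he.hom_inv_id
    let aIso : pullback (D.obj i).hom (p' i) ≅ pullback (f' i) U'.hom :=
      (Over.forget _).mapIso ⟨he.inv.hom i, he.hom.hom i, hinv, hinv'⟩
    have h1 : aIso.hom ≫ pullback.fst (f' i) U'.hom = pullback.snd (D.obj i).hom (p' i) :=
      Over.w (he.inv.hom i)
    have hl : IsPullback (pullback.snd (D.obj i).hom (p' i)) (q i) (f' i) U'.hom := by
      refine IsPullback.of_iso_pullback ⟨?_⟩ aIso h1 rfl
      rw [← h1, Category.assoc, pullback.condition]
      rfl
    have hbig := hl.paste_horiz (hw i)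
    have e1 : pullback.snd (D.obj i).hom (p' i) ≫ p' i = ((overSub p p' hw D).obj i).hom := by
      change _ = kap p' D i ≫ (D.obj i).hom
      exact pullback.condition.symm
    rw [e1] at hbig
    exact hbig
  · intro T i i' x₀ x₁ h v
    let E := overSub p p' hw D
    let u₁ := E.φ x₀ x₁ h v
    obtain ⟨x₀', hx₀'⟩ : ∃ x₀' : T ⟶ X' i, x₀' = v.1 ≫ pullback.snd (D.obj i).hom (p' i) :=
      ⟨_, rfl⟩
    obtain ⟨x₁', hx₁'⟩ : ∃ x₁' : T ⟶ X' i', x₁' = u₁.1 ≫ pullback.snd (D.obj i').hom (p' i') :=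
      ⟨_, rfl⟩
    have hx₀ : x₀' ≫ p' i = x₀ := by
      rw [hx₀', Category.assoc, ← pullback.condition]
      exact v.2
    have hx₁ : x₁' ≫ p' i' = x₁ := by
      rw [hx₁', Category.assoc, ← pullback.condition]
      exact u₁.2
    have h' : x₀' ≫ f' i = x₁' ≫ f' i' := by
      rw [← cancel_mono p]
      calc (x₀' ≫ f' i) ≫ p = (x₀' ≫ p' i) ≫ f i := by
            rw [Category.assoc, Category.assoc, (hw i).w]
        _ = (x₁' ≫ p' i') ≫ f i' := by rw [hx₀, hx₁, h]
        _ = (x₁' ≫ f' i') ≫ p := by rw [Category.assoc, Category.assoc, (hw i').w]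
    let v' : Lifts ((pullD p p' hw D).obj i) x₀' := ⟨v.1, hx₀'.symm⟩
    have hclaim : ((pullD p p' hw D).φ x₀' x₁' h' v').1 = u₁.1 := by
      apply pullback.hom_ext
      · have e1 : ((pullD p p' hw D).φ x₀' x₁' h' v').1 ≫ pullback.fst (D.obj i').hom (p' i') =
            (D.φ (x₀' ≫ p' i) (x₁' ≫ p' i')
              (pull_compat (fun i => (hw i).w) x₀' x₁' h')
              (liftsPullbackEquiv (D.obj i) (p' i) x₀' v')).1 := by
          change ((liftsPullbackEquiv (D.obj i') (p' i') x₁').symm _).1 ≫ _ = _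
          rw [liftsPullbackEquiv_symm_apply_val, pullback.lift_fst]
        rw [e1]
        have e2 : u₁.1 ≫ pullback.fst (D.obj i').hom (p' i') =
            (D.φ x₀ x₁ h (toD D (kap p' D) v)).1 :=
          congrArg Subtype.val (toD_subDD_φ D (kap p' D) (kap_stable p p' hw D) x₀ x₁ h v)
        rw [e2]
        exact φ_val_congr D _ _ hx₀ hx₁ _ _ rfl
      · exact ((pullD p p' hw D).φ x₀' x₁' h' v').2.trans hx₁'
    have hc := he.inv.comm x₀' x₁' h' v' (SchDDFam.Hom.push he.inv v') rfl
    have hc' := congrArg (fun m => m ≫ pullback.snd (f' i') U'.hom) hc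
    simp only [Category.assoc] at hc'
    rw [hclaim] at hc'
    rw [← hc']
    change _ = v.1 ≫ (he.inv.hom i).left ≫ pullback.snd (f' i) U'.hom
    have e3 : (((toDDFam f').obj U').φ x₀' x₁' h' (SchDDFam.Hom.push he.inv v')).1 ≫
        pullback.snd (f' i') U'.hom =
        (SchDDFam.Hom.push he.inv v').1 ≫ pullback.snd (f' i) U'.hom := by
      simp [toDDFam, canonicalDDFam]
    rw [e3, push_val, Category.assoc]

end Cart

section Cover

variable {S : Scheme.{u}} {ι : Type u} {X : ι → Scheme.{u}} {f : ∀ i, X i ⟶ S}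

/-- Effectivity is local on the base: abstract form. -/
theorem isEffective_of_local (hf : Presieve.ofArrows X f ∈ Scheme.fpqcPrecoverage S)
    (D : SchDDFam f) {A : Type u} (S' : A → Scheme.{u}) (p : ∀ a, S' a ⟶ S)
    [∀ a, IsOpenImmersion (p a)] (hcov : ∀ s : S, ∃ a, s ∈ Set.range (p a).base)
    (X' : A → ι → Scheme.{u}) (f' : ∀ a i, X' a i ⟶ S' a) (p' : ∀ a i, X' a i ⟶ X i)
    (hw : ∀ a i, IsPullback (p' a i) (f' a i) (f i) (p a))
    (h : ∀ a, haveI : ∀ i, IsOpenImmersion (p' a i) := fun i =>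
        MorphismProperty.of_isPullback (P := @IsOpenImmersion) (hw a i).flip inferInstance
      (pullD (p a) (p' a) (hw a) D).IsEffective) : D.IsEffective := by
  haveI hoi : ∀ a i, IsOpenImmersion (p' a i) := fun a i =>
    MorphismProperty.of_isPullback (P := @IsOpenImmersion) (hw a i).flip inferInstance
  refine isEffective_of_open_cover hf D (K := A) (fun a => overSub (p a) (p' a) (hw a) D)
    (fun a => overSubHom (p a) (p' a) (hw a) D) ?_ (fun a => ?_) ?_
  · intro a i
    rw [overSubHom_left]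
    infer_instance
  · exact isEffective_overSub (p a) (p' a) (hw a) D (h a)
  · intro i v
    obtain ⟨a, s', hs'⟩ := hcov ((f i).base ((D.obj i).hom.base v))
    refine ⟨a, ?_⟩
    rw [overSubHom_left]
    -- the point `hom v` lies in the image of `p' a i`
    obtain ⟨z, hz1, hz2⟩ := Scheme.Pullback.exists_preimage_pullback
      ((D.obj i).hom.base v) s' hs'.symm
    let z' : X' a i := ((hw a i).isoPullback.inv).base z
    have hz' : (p' a i).base z' = (D.obj i).hom.base v := by
      rw [← hz1]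
      change ((hw a i).isoPullback.inv ≫ p' a i).base z = _
      rw [IsPullback.isoPullback_inv_fst]
    obtain ⟨y, hy1, -⟩ := Scheme.Pullback.exists_preimage_pullback v z' hz'.symm
    exact ⟨y, hy1⟩

/-- Effectivity is local on the base: it suffices to check it over the members of an open cover,
for the restricted families. -/
theorem isEffective_of_forall_opens (hf : Presieve.ofArrows X f ∈ Scheme.fpqcPrecoverage S)
    (D : SchDDFam f) {A : Type u} (V : A → S.Opens) (hV : ∀ s : S, ∃ a, s ∈ V a)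
    (h : ∀ a, ((pullDDFam (f := f) (f' := fun i => f i ∣_ V a) (α := fun i => i) (p := (V a).ι)
      (p' := fun i => (f i ⁻¹ᵁ V a).ι) (fun i => (morphismRestrict_ι (f i) (V a)).symm)).obj
        D).IsEffective) : D.IsEffective := by
  refine isEffective_of_local hf D (fun a => (V a : Scheme.{u})) (fun a => (V a).ι) ?_
    (fun a i => (f i ⁻¹ᵁ V a : Scheme.{u})) (fun a i => f i ∣_ V a) (fun a i => (f i ⁻¹ᵁ V a).ι)
    (fun a i => (isPullback_morphismRestrict (f i) (V a)).flip) h
  intro s
  obtain ⟨a, ha⟩ := hV s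
  exact ⟨a, ⟨s, ha⟩, rfl⟩

end Cover

end Groth.Agent.Helper2.DescBase
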