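import Mathlib
import Groth.Prelude.Def_DescFam
import Groth.Agent.Lib.Helper5.Misc.DescFam3
import Groth.Agent.Lib.Helper2.Desc.EffCrit

/-!
# Pullback of canonical descent data along a refinement, and reflection of effectivity (helper2)
-/

set_option autoImplicit false
set_option backward.isDefEq.respectTransparency false
universe w' w u
open CategoryTheory CategoryTheory.Limits AlgebraicGeometry Opposite Desc

namespace Groth.Agent.Helper2.DescPull

open Groth.Agent.Lib.Helper5.DescFam

section Can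

variable {S : Scheme.{u}} {ι : Type w} {X : ι → Scheme.{u}} {f : ∀ i, X i ⟶ S}
  {ι' : Type w'} {X' : ι' → Scheme.{u}} {f' : ∀ j, X' j ⟶ S}
  {α : ι' → ι} {p' : ∀ j, X' j ⟶ X (α j)} (w : ∀ j, p' j ≫ f (α j) = f' j ≫ 𝟙 S)

section Aux

variable (U : Over S) {T : Scheme.{u}} {j : ι'} (x : T ⟶ X' j)

include w in
lemma w' (j : ι') : p' j ≫ f (α j) = f' j := by
  have hw := w j
  rwa [Category.comp_id] at hw

/-- forward map on points -/
noncomputable def fwd (a : T ⟶ pullback (pullback.fst (f (α j)) U.hom) (p' j))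
    (ha : a ≫ pullback.snd (pullback.fst (f (α j)) U.hom) (p' j) = x) :
    T ⟶ pullback (f' j) U.hom :=
  pullback.lift x
    (a ≫ pullback.fst (pullback.fst (f (α j)) U.hom) (p' j) ≫ pullback.snd (f (α j)) U.hom) (by
      rw [Category.assoc, Category.assoc, ← pullback.condition, ← w' w j, ← ha]
      simp only [Category.assoc]
      rw [pullback.condition_assoc])

/-- backward map on points -/
noncomputable def bwd (b : T ⟶ pullback (f' j) U.hom) (hb : b ≫ pullback.fst (f' j) U.hom = x) :
    T ⟶ pullback (pullback.fst (f (α j)) U.hom) (p' j) :=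
  pullback.lift
    (pullback.lift (x ≫ p' j) (b ≫ pullback.snd (f' j) U.hom) (by
      rw [Category.assoc, Category.assoc, ← pullback.condition, reassoc_of% hb, w' w j]))
    x (pullback.lift_fst _ _ _)

lemma fwd_fst (a : T ⟶ pullback (pullback.fst (f (α j)) U.hom) (p' j))
    (ha : a ≫ pullback.snd (pullback.fst (f (α j)) U.hom) (p' j) = x) :
    fwd w U x a ha ≫ pullback.fst (f' j) U.hom = x := pullback.lift_fst _ _ _

lemma fwd_snd (a : T ⟶ pullback (pullback.fst (f (α j)) U.hom) (p' j))
    (ha : a ≫ pullback.snd (pullback.fst (f (α j)) U.hom) (p' j) = x) :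
    fwd w U x a ha ≫ pullback.snd (f' j) U.hom =
      a ≫ pullback.fst (pullback.fst (f (α j)) U.hom) (p' j) ≫ pullback.snd (f (α j)) U.hom :=
  pullback.lift_snd _ _ _

lemma bwd_snd (b : T ⟶ pullback (f' j) U.hom) (hb : b ≫ pullback.fst (f' j) U.hom = x) :
    bwd w U x b hb ≫ pullback.snd (pullback.fst (f (α j)) U.hom) (p' j) = x :=
  pullback.lift_snd _ _ _

lemma bwd_fst_snd (b : T ⟶ pullback (f' j) U.hom) (hb : b ≫ pullback.fst (f' j) U.hom = x) :
    bwd w U x b hb ≫ pullback.fst (pullback.fst (f (α j)) U.hom) (p' j) ≫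
      pullback.snd (f (α j)) U.hom = b ≫ pullback.snd (f' j) U.hom := by
  unfold bwd
  rw [pullback.lift_fst_assoc, pullback.lift_snd]

lemma bwd_fst_fst (b : T ⟶ pullback (f' j) U.hom) (hb : b ≫ pullback.fst (f' j) U.hom = x) :
    bwd w U x b hb ≫ pullback.fst (pullback.fst (f (α j)) U.hom) (p' j) ≫
      pullback.fst (f (α j)) U.hom = x ≫ p' j := by
  unfold bwd
  rw [pullback.lift_fst_assoc, pullback.lift_fst]

lemma bwd_fwd (a : T ⟶ pullback (pullback.fst (f (α j)) U.hom) (p' j))
    (ha : a ≫ pullback.snd (pullback.fst (f (α j)) U.hom) (p' j) = x) :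
    bwd w U x (fwd w U x a ha) (fwd_fst w U x a ha) = a := by
  apply pullback.hom_ext
  · apply pullback.hom_ext
    · rw [Category.assoc, bwd_fst_fst, Category.assoc, pullback.condition, ← Category.assoc, ha]
    · rw [Category.assoc, bwd_fst_snd, fwd_snd, Category.assoc]
  · rw [bwd_snd, ha]

lemma fwd_bwd (b : T ⟶ pullback (f' j) U.hom) (hb : b ≫ pullback.fst (f' j) U.hom = x) :
    fwd w U x (bwd w U x b hb) (bwd_snd w U x b hb) = b := by
  apply pullback.hom_ext
  · rw [fwd_fst, hb]
  · rw [fwd_snd, bwd_fst_snd]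

end Aux

/-- The pullback of the canonical descent datum of `U` along a refinement over `S` is the canonical
descent datum of `U`: bijections on points. -/
noncomputable def pullCan (U : Over S) :
    PtEquiv ((pullDDFam w).obj ((toDDFam f).obj U)) ((toDDFam f').obj U) where
  e T j x :=
    { toFun := fun v => ⟨fwd w U x v.1 v.2, fwd_fst w U x v.1 v.2⟩
      invFun := fun v => ⟨bwd w U x v.1 v.2, bwd_snd w U x v.1 v.2⟩
      left_inv := fun v => Subtype.ext (bwd_fwd w U x v.1 v.2)
      right_inv := fun v => Subtype.ext (fwd_bwd w U x v.1 v.2) }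
  nat T T' g j x y v v' hv := by
    have hy := hom_eq_of_lifts g v v' hv
    apply pullback.hom_ext
    · simp only [Equiv.coe_fn_mk, Category.assoc, fwd_fst, hy]
    · simp only [Equiv.coe_fn_mk, Category.assoc, fwd_snd]
      rw [hv]
      simp only [Category.assoc]
  comm T j₀ j₁ x₀ x₁ h v := by
    apply Subtype.ext
    apply pullback.hom_ext
    · simp [toDDFam, canonicalDDFam, fwd]
    · simp [toDDFam, canonicalDDFam, pullDDFam, pullDDFamObj, liftsPullbackEquiv, fwd]

/-- The pullback of the canonical descent datum of `U` along a refinement over `S` is the canonical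
descent datum of `U`. -/
noncomputable def pullCanIso (U : Over S) :
    (pullDDFam w).obj ((toDDFam f).obj U) ≅ (toDDFam f').obj U :=
  (pullCan w U).toIso

end Can

section Reflect

variable {S : Scheme.{u}} {ι ι' : Type u} {X : ι → Scheme.{u}} {f : ∀ i, X i ⟶ S}
  {X' : ι' → Scheme.{u}} {f' : ∀ j, X' j ⟶ S}
  {α : ι' → ι} {p' : ∀ j, X' j ⟶ X (α j)} (w : ∀ j, p' j ≫ f (α j) = f' j ≫ 𝟙 S)

/-- Effectivity is reflected by pullback along a refinement by an fpqc covering family. -/
theorem isEffective_of_pull (hf' : Presieve.ofArrows X' f' ∈ Scheme.fpqcPrecoverage S)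
    (D : SchDDFam f) (h : ((pullDDFam w).obj D).IsEffective) : D.IsEffective := by
  obtain ⟨U, ⟨e⟩⟩ := h
  obtain ⟨hfull, hfaith⟩ := pull_full_faithful_of_cover f' f α p' w hf'
  exact ⟨U, ⟨(pullDDFam w).preimageIso (pullCanIso w U ≪≫ e)⟩⟩

end Reflect

end Groth.Agent.Helper2.DescPull
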