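import Mathlib
import Groth.Prelude.Def_DescFam
import Groth.Agent.Lib.Helper2.Desc.PullCan
import Groth.Agent.Lib.Helper2.Desc.AffCaseDD
import Groth.Agent.Lib.Helper2.Desc.BaseLocal

/-!
# Effectivity of descent data affine over the source, along an fpqc morphism (helper2)
-/

set_option autoImplicit false
set_option linter.style.haveILetI false
set_option backward.isDefEq.respectTransparency false
universe u
open CategoryTheory CategoryTheory.Limits AlgebraicGeometry Opposite Desc

namespace Groth.Agent.Helper2.DescAff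

open Groth.Agent.Lib.Helper5.DescFam Groth.Agent.Helper2.DescEff Groth.Agent.Helper2.DescPull
  Groth.Agent.Helper2.DescBase

lemma single_mem_fpqc {X S : Scheme.{u}} (p : X ⟶ S) [Surjective p] [Flat p] [QuasiCompact p] :
    Presieve.ofArrows (fun _ : PUnit.{u + 1} => X) (fun _ => p) ∈ Scheme.fpqcPrecoverage S := by
  rw [Presieve.ofArrows_pUnit]
  exact Scheme.Hom.singleton_mem_fpqcPrecoverage p

/-- Affine base: descent data affine over the source are effective. -/
theorem isEffective_of_affine_base {X S : Scheme.{u}} (p : X ⟶ S) [IsAffine S] [Surjective p]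
    [Flat p] [QuasiCompact p] (D : SchDDFam (fun _ : PUnit.{u + 1} => p))
    [hD : IsAffineHom (D.obj ⟨⟩).hom] : D.IsEffective := by
  haveI : CompactSpace X := QuasiCompact.compactSpace_of_compactSpace p
  let 𝒰 := X.affineCover.finiteSubcover
  haveI : ∀ i, IsAffine (𝒰.X i) := fun i => by
    dsimp [𝒰]; infer_instance
  let g : (∐ 𝒰.X) ⟶ X := Sigma.desc 𝒰.f
  haveI : Flat g := by dsimp [g]; infer_instance
  haveI : Surjective g := by dsimp [g]; infer_instance
  have w : ∀ _ : PUnit.{u + 1}, g ≫ p = (g ≫ p) ≫ 𝟙 S := fun _ => (Category.comp_id _).symm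
  refine isEffective_of_pull (f := fun _ : PUnit.{u + 1} => p)
    (f' := fun _ : PUnit.{u + 1} => g ≫ p) (α := fun j => j) (p' := fun _ => g) w
    (single_mem_fpqc (g ≫ p)) D ?_
  apply isEffective_of_exists_iso
  haveI : IsAffine ((SchDDFam.toSchDD.{u, u} (g ≫ p)).obj
      ((pullDDFam (f := fun _ : PUnit.{u + 1} => p)
        (f' := fun _ : PUnit.{u + 1} => g ≫ p) (α := fun j => j) (p' := fun _ => g) w).obj D)).obj.left := by
    change IsAffine (pullback (D.obj ⟨⟩).hom g)
    exact isAffine_of_isAffineHom (pullback.snd (D.obj ⟨⟩).hom g)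
  exact affine_case_effective (g ≫ p) _

/-- Descent data affine over the source are effective along a flat surjective quasi-compact
morphism. -/
theorem isEffective_of_affineHom {X S : Scheme.{u}} (p : X ⟶ S) [Surjective p]
    [Flat p] [QuasiCompact p] (D : SchDDFam (fun _ : PUnit.{u + 1} => p))
    [hD : IsAffineHom (D.obj ⟨⟩).hom] : D.IsEffective := by
  refine isEffective_of_forall_opens (single_mem_fpqc p) D (A := S.affineOpens)
    (fun a => a.1) ?_ ?_
  · intro s
    obtain ⟨V, hV, hs, -⟩ := (TopologicalSpace.Opens.isBasis_iff_nbhd.mp S.isBasis_affineOpens)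
      (show s ∈ (⊤ : S.Opens) from trivial)
    exact ⟨⟨V, hV⟩, hs⟩
  · intro a
    haveI : IsAffine (a.1 : Scheme.{u}) := a.2
    haveI : Surjective (p ∣_ a.1) :=
      IsZariskiLocalAtTarget.restrict (P := @Surjective) (inferInstanceAs (Surjective p)) _
    haveI : Flat (p ∣_ a.1) :=
      IsZariskiLocalAtTarget.restrict (P := @Flat) (inferInstanceAs (Flat p)) _
    haveI : QuasiCompact (p ∣_ a.1) :=
      IsZariskiLocalAtTarget.restrict (P := @QuasiCompact) (inferInstanceAs (QuasiCompact p)) _
    haveI : IsAffineHom (((pullDDFam (f := fun _ : PUnit.{u + 1} => p)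
        (f' := fun _ : PUnit.{u + 1} => p ∣_ a.1) (α := fun i => i) (p := (a.1).ι)
        (p' := fun _ => (p ⁻¹ᵁ a.1).ι)
        (fun _ => (morphismRestrict_ι p a.1).symm)).obj D).obj ⟨⟩).hom := by
      change IsAffineHom (pullback.snd (D.obj ⟨⟩).hom (p ⁻¹ᵁ a.1).ι)
      exact MorphismProperty.pullback_snd (P := @IsAffineHom) _ _ hD
    exact isEffective_of_affine_base (p ∣_ a.1) _

end Groth.Agent.Helper2.DescAff
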