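import Mathlib
import Groth.Agent.Lib.Helper2.Desc.AffEff

/-!
# Descent data relative to a family with a section are effective (helper2)
-/

set_option autoImplicit false
set_option backward.isDefEq.respectTransparency false
universe u
open CategoryTheory CategoryTheory.Limits AlgebraicGeometry Opposite Desc

namespace Groth.Agent.Helper2.DescTriv

open Groth.Agent.Lib.Helper5.DescFam Groth.Agent.Helper2.DescEff Groth.Agent.Helper2.DescPull
  Groth.Agent.Helper2.DescAff

/-- Descent data relative to the identity are effective. -/
theorem isEffective_of_id {S : Scheme.{u}} (D : SchDDFam (fun _ : PUnit.{u + 1} => 𝟙 S)) :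
    D.IsEffective := by
  refine isEffective_of_quotient D (D.obj ⟨⟩) (fun _ => 𝟙 _) (fun _ => ?_) ?_
  · exact IsPullback.of_vert_isIso ⟨by simp⟩
  · intro T i j x₀ x₁ h v
    have hx : x₀ = x₁ := by simpa using h
    subst hx
    rw [D.φ_self]

/-- Descent data relative to a family one of whose members has a section are effective. -/
theorem isEffective_of_section {S : Scheme.{u}} {ι : Type u} {X : ι → Scheme.{u}}
    {f : ∀ i, X i ⟶ S} (a : ι) (σ : S ⟶ X a) (hσ : σ ≫ f a = 𝟙 S) (D : SchDDFam f) :
    D.IsEffective := by
  refine isEffective_of_pull (f := f) (f' := fun _ : PUnit.{u + 1} => 𝟙 S) (α := fun _ => a)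
    (p' := fun _ => σ) (fun _ => by rw [hσ, Category.comp_id]) (single_mem_fpqc (𝟙 S)) D ?_
  exact isEffective_of_id _

/-- Descent data relative to a family one of whose members is an isomorphism are effective. -/
theorem isEffective_of_isIso {S : Scheme.{u}} {ι : Type u} {X : ι → Scheme.{u}}
    {f : ∀ i, X i ⟶ S} (a : ι) [IsIso (f a)] (D : SchDDFam f) : D.IsEffective :=
  isEffective_of_section a (inv (f a)) (IsIso.inv_hom_id _) D

end Groth.Agent.Helper2.DescTriv
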