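import Mathlib
import Groth.Agent.Lib.Helper2.Desc.TrivEff
import Groth.Agent.Lib.Helper2.Desc.SecEquiv

/-!
# Restriction of a descent datum to a sub-family over another base (helper2)

Let `D` be a descent datum relative to `u i : U i ⟶ S`, `v : V ⟶ S` a scheme over `S` and
`γ k : U (β k) ⟶ V` morphisms over `S`.  Then the `D.obj (β k)` form a descent datum relative to
the family `γ`.  If `γ` is a Zariski covering of `V`, it is effective.
-/

set_option autoImplicit false
set_option backward.isDefEq.respectTransparency false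
set_option linter.unusedSectionVars false
universe u
open CategoryTheory CategoryTheory.Limits AlgebraicGeometry Opposite Desc

namespace Groth.Agent.Helper2.DescRestr

open Groth.Agent.Lib.Helper5.DescFam Groth.Agent.Helper2.DescEff Groth.Agent.Helper2.DescPull
  Groth.Agent.Helper2.DescAff Groth.Agent.Helper2.DescSec Groth.Agent.Helper2.DescBase
  Groth.Agent.Helper2.DescTriv

variable {S : Scheme.{u}} {ι : Type u} {U : ι → Scheme.{u}} {u : ∀ i, U i ⟶ S} (D : SchDDFam u)
  {V : Scheme.{u}} (v : V ⟶ S) {K : Type u} (β : K → ι) (γ : ∀ k, U (β k) ⟶ V)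
  (hγ : ∀ k, γ k ≫ v = u (β k))

include hγ in
lemma restr_compat {T : Scheme.{u}} {k k' : K} (x₀ : T ⟶ U (β k)) (x₁ : T ⟶ U (β k'))
    (h : x₀ ≫ γ k = x₁ ≫ γ k') : x₀ ≫ u (β k) = x₁ ≫ u (β k') := by
  rw [← hγ, ← hγ, ← Category.assoc, h, Category.assoc]

/-- The restriction of `D` to the family `γ` over `V`. -/
def restr : SchDDFam γ where
  obj k := D.obj (β k)
  φ _ _ _ x₀ x₁ h := D.φ x₀ x₁ (restr_compat v β γ hγ x₀ x₁ h)
  φ_natural _ _ g _ _ x₀ x₁ h y₀ y₁ hy₀ hy₁ h' a a' ha' :=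
    D.φ_natural g x₀ x₁ _ y₀ y₁ hy₀ hy₁ _ a a' ha'
  φ_self _ _ x a := D.φ_self x a
  φ_comp _ _ _ _ x₀ x₁ x₂ h₀₁ h₁₂ a := D.φ_comp x₀ x₁ x₂ _ _ a

@[simp] lemma restr_obj (k : K) : (restr D v β γ hγ).obj k = D.obj (β k) := rfl

lemma restr_φ {T : Scheme.{u}} {k k' : K} (x₀ : T ⟶ U (β k)) (x₁ : T ⟶ U (β k'))
    (h : x₀ ≫ γ k = x₁ ≫ γ k') (a : Lifts (D.obj (β k)) x₀) :
    (restr D v β γ hγ).φ x₀ x₁ h a = D.φ x₀ x₁ (restr_compat v β γ hγ x₀ x₁ h) a := rfl

section Zar

variable (hopen : ∀ k, IsOpenImmersion (γ k)) (hcov : ∀ s : V, ∃ k, s ∈ Set.range (γ k).base)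

include hopen hcov in
lemma zar_mem_fpqc : Presieve.ofArrows (fun k => U (β k)) γ ∈ Scheme.fpqcPrecoverage V := by
  apply Scheme.zariskiPrecoverage_le_fpqcPrecoverage
  rw [Scheme.zariskiPrecoverage, Scheme.ofArrows_mem_precoverage_iff]
  exact ⟨hcov, hopen⟩

include hopen hcov in
/-- Descent data relative to a Zariski covering are effective. -/
theorem isEffective_of_zariski (D' : SchDDFam γ) : D'.IsEffective := by
  haveI := hopen
  refine isEffective_of_local (zar_mem_fpqc β γ hopen hcov) D' (fun a : K => U (β a)) γ hcov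
    (fun a k => pullback (γ k) (γ a)) (fun a k => pullback.snd (γ k) (γ a))
    (fun a k => pullback.fst (γ k) (γ a)) (fun a k => IsPullback.of_hasPullback (γ k) (γ a)) ?_
  intro a
  haveI : IsIso (pullback.snd (γ a) (γ a)) := inferInstance
  exact isEffective_of_isIso (f := fun k => pullback.snd (γ k) (γ a)) a _

end Zar

end Groth.Agent.Helper2.DescRestr
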