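import Mathlib
import Groth.Agent.Lib.Helper2.Desc.Restrict

/-!
# Sections of a descent datum and of its restriction to a Zariski covering of another base (helper2)
-/

set_option autoImplicit false
set_option backward.isDefEq.respectTransparency false
set_option linter.unusedSectionVars false
universe u
open CategoryTheory CategoryTheory.Limits AlgebraicGeometry Opposite Desc

namespace Groth.Agent.Helper2.DescRestr

open Groth.Agent.Lib.Helper5.DescFam Groth.Agent.Helper2.DescEff Groth.Agent.Helper2.DescPull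
  Groth.Agent.Helper2.DescAff Groth.Agent.Helper2.DescSec Groth.Agent.Helper2.DescBase
  Groth.Agent.Helper2.DescTriv

variable {S : Scheme.{u}} {ι : Type u} {U : ι → Scheme.{u}} {u : ∀ i, U i ⟶ S} (D : SchDDFam u)
  {V : Scheme.{u}} (v : V ⟶ S) {K : Type u} (β : K → ι) (γ : ∀ k, U (β k) ⟶ V)
  (hγ : ∀ k, γ k ≫ v = u (β k))

section Rst

variable {T : Scheme.{u}} (s : Sec D T) (y : T ⟶ V) (hy : s.t = y ≫ v)

include hγ hy in
lemma rst_cond {T' : Scheme.{u}} {k : K} (g : T' ⟶ T) (x : T' ⟶ U (β k))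
    (h : x ≫ γ k = g ≫ y) : x ≫ u (β k) = g ≫ s.t := by
  rw [← hγ, ← Category.assoc, h, Category.assoc, hy]

/-- restriction of a section of `D` to a section of the restricted descent datum -/
noncomputable def rst : Sec (restr D v β γ hγ) T :=
  Sec.mk' y (fun _ _ g x h => s.pt g x (rst_cond D v β γ hγ s y hy g x h))
    (fun _ _ _ l g x _ _ => s.pt_nat l g x _ _)
    (fun _ _ _ g x₀ x₁ _ _ => s.pt_comm g x₀ x₁ _ _)

@[simp] lemma rst_t : (rst D v β γ hγ s y hy).t = y := rfl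

lemma rst_pt {T' : Scheme.{u}} {k : K} (g : T' ⟶ T) (x : T' ⟶ U (β k))
    (h : x ≫ γ k = g ≫ y) :
    (rst D v β γ hγ s y hy).pt g x h = s.pt g x (rst_cond D v β γ hγ s y hy g x h) := by
  unfold rst
  rw [Sec.mk'_pt]

end Rst

section Ext

variable (hopen : ∀ k, IsOpenImmersion (γ k)) (hcov : ∀ s : V, ∃ k, s ∈ Set.range (γ k).base)
variable {T : Scheme.{u}} (s' : Sec (restr D v β γ hγ) T)

/-- the covering of `T` induced by the covering `γ` of `V` -/
noncomputable abbrev cc (k : K) : pullback s'.t (γ k) ⟶ T := pullback.fst s'.t (γ k)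

/-- the points of the `U (β k)` over the covering -/
noncomputable abbrev zz (k : K) : pullback s'.t (γ k) ⟶ U (β k) := pullback.snd s'.t (γ k)

lemma zz_γ (k : K) : zz D v β γ hγ s' k ≫ γ k = cc D v β γ hγ s' k ≫ s'.t :=
  pullback.condition.symm

include hopen hcov in
lemma cc_mem : Presieve.ofArrows (fun k => pullback s'.t (γ k)) (cc D v β γ hγ s') ∈
    Scheme.fpqcPrecoverage T :=
  cover_fst γ (zar_mem_fpqc β γ hopen hcov) s'.t

/-- the local points of `D` given by the section -/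
noncomputable def ww (k : K) : Lifts (D.obj (β k)) (zz D v β γ hγ s' k) :=
  s'.pt (cc D v β γ hγ s' k) (zz D v β γ hγ s' k) (zz_γ D v β γ hγ s' k)

/-- the local sections of `D` given by the section -/
noncomputable def σσ (k : K) : Sec D (pullback s'.t (γ k)) :=
  secOfLift D (zz D v β γ hγ s' k) (ww D v β γ hγ s' k)

lemma σσ_t (k : K) : (σσ D v β γ hγ s' k).t = zz D v β γ hγ s' k ≫ u (β k) := rfl

lemma σσ_pt_val (k : K) {T' : Scheme.{u}} {i : ι} (g : T' ⟶ pullback s'.t (γ k)) (x : T' ⟶ U i)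
    (h : x ≫ u i = g ≫ (σσ D v β γ hγ s' k).t)
    (h' : (g ≫ zz D v β γ hγ s' k) ≫ u (β k) = x ≫ u i)
    (hc : (g ≫ zz D v β γ hγ s' k) ≫ γ k = (g ≫ cc D v β γ hγ s' k) ≫ s'.t) :
    ((σσ D v β γ hγ s' k).pt g x h).1 =
      (D.φ (g ≫ zz D v β γ hγ s' k) x h'
        (s'.pt (g ≫ cc D v β γ hγ s' k) (g ≫ zz D v β γ hγ s' k) hc)).1 := by
  unfold σσ
  rw [secOfLift_pt]
  refine φ_val_congr D _ _ rfl rfl _ _ ?_
  unfold ww
  exact (s'.pt_nat g _ _ _ _).symm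

lemma σσ_compat (k k' : K) (Z : Scheme.{u}) (g₁ : Z ⟶ pullback s'.t (γ k))
    (g₂ : Z ⟶ pullback s'.t (γ k')) (hg : g₁ ≫ cc D v β γ hγ s' k = g₂ ≫ cc D v β γ hγ s' k') :
    (σσ D v β γ hγ s' k).res g₁ = (σσ D v β γ hγ s' k').res g₂ := by
  have hc₁ : (g₁ ≫ zz D v β γ hγ s' k) ≫ γ k = (g₁ ≫ cc D v β γ hγ s' k) ≫ s'.t := by
    rw [Category.assoc, zz_γ, Category.assoc]
  have hc₂ : (g₂ ≫ zz D v β γ hγ s' k') ≫ γ k' = (g₂ ≫ cc D v β γ hγ s' k') ≫ s'.t := by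
    rw [Category.assoc, zz_γ, Category.assoc]
  have hz : (g₁ ≫ zz D v β γ hγ s' k) ≫ γ k = (g₂ ≫ zz D v β γ hγ s' k') ≫ γ k' := by
    rw [hc₁, hc₂, hg]
  have hu := restr_compat v β γ hγ _ _ hz
  have e1 : (g₂ ≫ zz D v β γ hγ s' k') ≫ u (β k') = ((σσ D v β γ hγ s' k).res g₁).t := by
    rw [Sec.res_t, σσ_t, ← Category.assoc]
    exact hu.symm
  have e2 : (g₂ ≫ zz D v β γ hγ s' k') ≫ u (β k') = ((σσ D v β γ hγ s' k').res g₂).t := by
    rw [Sec.res_t, σσ_t, ← Category.assoc]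
  refine sec_eq_of_pt D (g₂ ≫ zz D v β γ hγ s' k') _ _ e1 e2 ?_
  apply Subtype.ext
  have h1 : (g₂ ≫ zz D v β γ hγ s' k') ≫ u (β k') = (𝟙 Z ≫ g₁) ≫ (σσ D v β γ hγ s' k).t := by
    rw [Category.id_comp, σσ_t, ← Category.assoc]; exact hu.symm
  have h2 : (g₂ ≫ zz D v β γ hγ s' k') ≫ u (β k') = (𝟙 Z ≫ g₂) ≫ (σσ D v β γ hγ s' k').t := by
    rw [Category.id_comp, σσ_t, ← Category.assoc]
  rw [Sec.res_pt_val _ g₁ (𝟙 Z) _ _ h1, Sec.res_pt_val _ g₂ (𝟙 Z) _ _ h2]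
  have h1' : (g₂ ≫ zz D v β γ hγ s' k') ≫ u (β k') = g₁ ≫ (σσ D v β γ hγ s' k).t := by
    rw [σσ_t, ← Category.assoc]; exact hu.symm
  have h2' : (g₂ ≫ zz D v β γ hγ s' k') ≫ u (β k') = g₂ ≫ (σσ D v β γ hγ s' k').t := by
    rw [σσ_t, ← Category.assoc]
  rw [Sec.pt_val_congr _ h1 h1' (Category.id_comp g₁) rfl,
    Sec.pt_val_congr _ h2 h2' (Category.id_comp g₂) rfl,
    σσ_pt_val D v β γ hγ s' k g₁ _ h1' hu hc₁, σσ_pt_val D v β γ hγ s' k' g₂ _ h2' rfl hc₂,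
    D.φ_self]
  have hcomm := s'.pt_comm (g₁ ≫ cc D v β γ hγ s' k) (g₁ ≫ zz D v β γ hγ s' k)
    (g₂ ≫ zz D v β γ hγ s' k') hc₁ (hc₂.trans (by rw [hg]))
  rw [restr_φ] at hcomm
  rw [hcomm]
  exact Sec.pt_val_congr s' _ _ hg rfl

/-- extension of a section of the restricted descent datum to a section of `D` -/
noncomputable def ext : Sec D T :=
  glueSec (cc D v β γ hγ s') (cc_mem D v β γ hγ hopen hcov s') (σσ D v β γ hγ s')
    (σσ_compat D v β γ hγ s')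

lemma ext_res (k : K) : (ext D v β γ hγ hopen hcov s').res (cc D v β γ hγ s' k) =
    σσ D v β γ hγ s' k :=
  glueSec_res _ _ _ (σσ_compat D v β γ hγ s') k

lemma ext_t : (ext D v β γ hγ hopen hcov s').t = s'.t ≫ v := by
  apply jointly_epi_of_fpqc _ (cc_mem D v β γ hγ hopen hcov s')
  intro k
  have h1 := congrArg Sec.t (ext_res D v β γ hγ hopen hcov s' k)
  rw [Sec.res_t, σσ_t] at h1
  rw [h1, ← hγ, ← Category.assoc, zz_γ, Category.assoc]

/-- restricting the extension gives back the section -/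
lemma rst_ext : rst D v β γ hγ (ext D v β γ hγ hopen hcov s') s'.t
    (ext_t D v β γ hγ hopen hcov s') = s' := by
  refine Sec.ext_pt rfl ?_
  intro T' k g x hh
  rw [rst_pt]
  apply Subtype.ext
  have hh' : g ≫ s'.t = x ≫ γ k := hh.symm
  obtain ⟨g', hg'⟩ : ∃ g' : T' ⟶ pullback s'.t (γ k), g' = pullback.lift g x hh' := ⟨_, rfl⟩
  have hg1 : g' ≫ cc D v β γ hγ s' k = g := by rw [hg']; exact pullback.lift_fst _ _ _
  have hg2 : g' ≫ zz D v β γ hγ s' k = x := by rw [hg']; exact pullback.lift_snd _ _ _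
  have hxu : x ≫ u (β k) = g ≫ (ext D v β γ hγ hopen hcov s').t :=
    rst_cond D v β γ hγ _ s'.t (ext_t D v β γ hγ hopen hcov s') g x hh
  have hxu' : x ≫ u (β k) = (g' ≫ cc D v β γ hγ s' k) ≫ (ext D v β γ hγ hopen hcov s').t := by
    rw [hg1]; exact hxu
  have hxu'' : x ≫ u (β k) = g' ≫ ((ext D v β γ hγ hopen hcov s').res (cc D v β γ hγ s' k)).t := by
    rw [Sec.res_t, ← Category.assoc]; exact hxu'
  have hσ : x ≫ u (β k) = g' ≫ (σσ D v β γ hγ s' k).t := by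
    rw [σσ_t, ← Category.assoc, hg2]
  have hc : (g' ≫ zz D v β γ hγ s' k) ≫ γ k = (g' ≫ cc D v β γ hγ s' k) ≫ s'.t := by
    rw [Category.assoc, zz_γ, Category.assoc]
  calc ((ext D v β γ hγ hopen hcov s').pt g x hxu).1
      = ((ext D v β γ hγ hopen hcov s').pt (g' ≫ cc D v β γ hγ s' k) x hxu').1 :=
        Sec.pt_val_congr _ _ _ hg1.symm rfl
    _ = (((ext D v β γ hγ hopen hcov s').res (cc D v β γ hγ s' k)).pt g' x hxu'').1 :=
        (Sec.res_pt_val _ _ _ _ _ _).symm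
    _ = ((σσ D v β γ hγ s' k).pt g' x hσ).1 :=
        Sec.pt_val_congr_sec (ext_res D v β γ hγ hopen hcov s' k) _ _ _ _
    _ = (D.φ (g' ≫ zz D v β γ hγ s' k) x (by rw [hg2])
          (s'.pt (g' ≫ cc D v β γ hγ s' k) (g' ≫ zz D v β γ hγ s' k) hc)).1 :=
        σσ_pt_val D v β γ hγ s' k g' x hσ _ hc
    _ = (D.φ x x rfl (s'.pt g x hh)).1 :=
        φ_val_congr D _ _ hg2 rfl _ _ (Sec.pt_val_congr s' _ _ hg1 hg2)
    _ = (s'.pt g x hh).1 := by rw [D.φ_self]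

end Ext

section Equiv

variable (hopen : ∀ k, IsOpenImmersion (γ k)) (hcov : ∀ s : V, ∃ k, s ∈ Set.range (γ k).base)
variable {T : Scheme.{u}}

/-- extending the restriction gives back the section -/
lemma ext_rst (s : Sec D T) (y : T ⟶ V) (hy : s.t = y ≫ v) :
    ext D v β γ hγ hopen hcov (rst D v β γ hγ s y hy) = s := by
  obtain ⟨s', hs'⟩ : ∃ s', s' = rst D v β γ hγ s y hy := ⟨_, rfl⟩
  rw [← hs']
  apply sec_ext_of_cover _ (cc_mem D v β γ hγ hopen hcov s')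
  intro k
  rw [ext_res]
  have ht : s'.t = y := by rw [hs']; rfl
  have e1 : zz D v β γ hγ s' k ≫ u (β k) = (σσ D v β γ hγ s' k).t := rfl
  have e2 : zz D v β γ hγ s' k ≫ u (β k) = (s.res (cc D v β γ hγ s' k)).t := by
    rw [Sec.res_t, hy, ← hγ, ← Category.assoc, zz_γ, Category.assoc]
    exact congrArg (fun t => cc D v β γ hγ s' k ≫ t ≫ v) ht
  refine sec_eq_of_pt D (zz D v β γ hγ s' k) _ _ e1 e2 ?_
  apply Subtype.ext
  have h3 : zz D v β γ hγ s' k ≫ u (β k) = (𝟙 _ ≫ cc D v β γ hγ s' k) ≫ s.t := by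
    rw [Category.id_comp]; exact e2
  rw [Sec.res_pt_val s _ (𝟙 _) _ _ h3]
  have h4 : (σσ D v β γ hγ s' k).pt (𝟙 _) (zz D v β γ hγ s' k)
      (by rw [Category.id_comp]; exact e1) = ww D v β γ hγ s' k :=
    secOfLift_pt_self D _ _
  rw [h4]
  unfold ww
  have h5 : zz D v β γ hγ s' k ≫ γ k = cc D v β γ hγ s' k ≫ y := by
    rw [zz_γ]
    exact congrArg (fun t => cc D v β γ hγ s' k ≫ t) ht
  have h6 := rst_pt D v β γ hγ s y hy (cc D v β γ hγ s' k) (zz D v β γ hγ s' k) h5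
  have h7 : (s'.pt (cc D v β γ hγ s' k) (zz D v β γ hγ s' k) (zz_γ D v β γ hγ s' k)).1 =
      ((rst D v β γ hγ s y hy).pt (cc D v β γ hγ s' k) (zz D v β γ hγ s' k) h5).1 :=
    Sec.pt_val_congr_sec hs' _ _ _ _
  rw [h7, h6]
  exact Sec.pt_val_congr s _ _ (Category.id_comp _).symm rfl

/-- Sections of the restricted descent datum over `y : T ⟶ V` are the sections of `D` over
`y ≫ v`. -/
noncomputable def extEquiv (y : T ⟶ V) :
    {s' : Sec (restr D v β γ hγ) T // s'.t = y} ≃ {s : Sec D T // s.t = y ≫ v} where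
  toFun s' := ⟨ext D v β γ hγ hopen hcov s'.1, by rw [ext_t, s'.2]⟩
  invFun s := ⟨rst D v β γ hγ s.1 y s.2, rfl⟩
  left_inv s' := by
    obtain ⟨s', rfl⟩ := s'
    apply Subtype.ext
    exact rst_ext D v β γ hγ hopen hcov s'
  right_inv s := by
    apply Subtype.ext
    exact ext_rst D v β γ hγ hopen hcov s.1 y s.2

lemma extEquiv_symm_val (y : T ⟶ V) (s : {s : Sec D T // s.t = y ≫ v}) :
    ((extEquiv D v β γ hγ hopen hcov y).symm s).1 = rst D v β γ hγ s.1 y s.2 := rfl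

/-- restriction of sections is compatible with base change -/
lemma rst_res (s : Sec D T) (y : T ⟶ V) (hy : s.t = y ≫ v) {T' : Scheme.{u}} (g : T' ⟶ T) :
    rst D v β γ hγ (s.res g) (g ≫ y) (by rw [Sec.res_t, hy, Category.assoc]) =
      (rst D v β γ hγ s y hy).res g := by
  refine Sec.ext_pt rfl ?_
  intro T'' k l x hh
  rw [rst_pt, Sec.res_pt, Sec.res_pt, rst_pt]

/-- naturality of `extEquiv` -/
lemma extEquiv_nat (y : T ⟶ V) {T' : Scheme.{u}} (g : T' ⟶ T)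
    (s' : {s' : Sec (restr D v β γ hγ) T // s'.t = y})
    (s'' : {s' : Sec (restr D v β γ hγ) T' // s'.t = g ≫ y}) (hs : s''.1 = s'.1.res g) :
    (extEquiv D v β γ hγ hopen hcov (g ≫ y) s'').1 =
      (extEquiv D v β γ hγ hopen hcov y s').1.res g := by
  obtain ⟨s₀, hs₀⟩ : ∃ s₀, s₀ = extEquiv D v β γ hγ hopen hcov y s' := ⟨_, rfl⟩
  have h1 : s' = (extEquiv D v β γ hγ hopen hcov y).symm s₀ := by
    rw [hs₀, Equiv.symm_apply_apply]
  rw [← hs₀]
  have h2 : s'' = (extEquiv D v β γ hγ hopen hcov (g ≫ y)).symm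
      ⟨s₀.1.res g, by rw [Sec.res_t, s₀.2, Category.assoc]⟩ := by
    apply Subtype.ext
    rw [hs, h1, extEquiv_symm_val, extEquiv_symm_val]
    exact (rst_res D v β γ hγ s₀.1 y s₀.2 g).symm
  rw [h2, Equiv.apply_symm_apply]

end Equiv

end Groth.Agent.Helper2.DescRestr
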