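import Mathlib
import Groth.Agent.Lib.Helper2.Desc.ZarExt
import Groth.Agent.Lib.Helper2.Desc.DDofSec

/-!
# Pullback of descent data along a Zariski refinement is essentially surjective (helper2)
-/

set_option autoImplicit false
set_option backward.isDefEq.respectTransparency false
set_option linter.unusedSectionVars false
set_option linter.style.haveILetI false
universe w u
open CategoryTheory CategoryTheory.Limits AlgebraicGeometry Opposite Desc

namespace Groth.Agent.Helper2.DescRestr

open Groth.Agent.Lib.Helper5.DescFam Groth.Agent.Helper2.DescEff Groth.Agent.Helper2.DescPull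
  Groth.Agent.Helper2.DescAff Groth.Agent.Helper2.DescSec Groth.Agent.Helper2.DescBase
  Groth.Agent.Helper2.DescTriv

section Eff

variable {S : Scheme.{u}} {ι : Type u} {X : ι → Scheme.{u}} {f : ∀ i, X i ⟶ S}
  (hf : Presieve.ofArrows X f ∈ Scheme.fpqcPrecoverage S) (D : SchDDFam f) (E : Over S)
  (e : (toDDFam f).obj E ≅ D)

/-- For an effective descent datum relative to an fpqc covering, sections over `y : T ⟶ S` are the
points over `y` of the descended scheme. -/
noncomputable def effSecEquiv {T : Scheme.{u}} (y : T ⟶ S) :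
    Lifts E y ≃ {s : Sec D T // s.t = y} :=
  haveI := toDDFam_full f hf
  haveI := toDDFam_faithful f hf
  { toFun := fun a => ⟨⟨y, (toDDFam f).map (Over.homMk a.1 a.2 : Over.mk y ⟶ E) ≫ e.hom⟩, rfl⟩
    invFun := fun s => ⟨((toDDFam f).preimage (s.1.a ≫ e.inv) : Over.mk s.1.t ⟶ E).left, by
      rw [Over.w]; exact s.2⟩
    left_inv := fun a => by
      apply Subtype.ext
      dsimp only
      rw [Category.assoc, e.hom_inv_id, Category.comp_id, Functor.preimage_map]
      rfl
    right_inv := fun s => by
      obtain ⟨⟨t, a⟩, rfl⟩ := s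
      apply Subtype.ext
      dsimp only
      congr 1
      have : (Over.homMk ((toDDFam f).preimage (a ≫ e.inv) : Over.mk t ⟶ E).left
          (Over.w _) : Over.mk t ⟶ E) = (toDDFam f).preimage (a ≫ e.inv) := by
        ext; rfl
      rw [this, Functor.map_preimage, Category.assoc, e.inv_hom_id, Category.comp_id] }

lemma effSecEquiv_nat {T T' : Scheme.{u}} (g : T' ⟶ T) (y : T ⟶ S) (a : Lifts E y)
    (a' : Lifts E (g ≫ y)) (ha : a'.1 = g ≫ a.1) :
    (effSecEquiv hf D E e (g ≫ y) a').1 = (effSecEquiv hf D E e y a).1.res g := by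
  unfold effSecEquiv
  dsimp only [Equiv.coe_fn_mk]
  unfold Sec.res
  dsimp only
  congr 1
  rw [← Category.assoc, ← Functor.map_comp]
  congr 2
  ext
  simpa using ha

end Eff

section Zar

variable {S : Scheme.{u}} {ι : Type u} {U : ι → Scheme.{u}} {u : ∀ i, U i ⟶ S}
  {κ : Type w} {V : κ → Scheme.{u}} (D : SchDDFam u) (v : ∀ j, V j ⟶ S) (α : ι → κ)
  (g : ∀ i, U i ⟶ V (α i)) (w : ∀ i, g i ≫ v (α i) = u i ≫ 𝟙 S)
  (hopen : ∀ i, IsOpenImmersion (g i))
  (hcov : ∀ (j : κ) (s : V j), ∃ k : {i // α i = j},
    s ∈ Set.range (g k.1 ≫ eqToHom (congrArg V k.2)).base)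

/-- the members of the refinement over `V j` -/
noncomputable abbrev γγ (j : κ) (k : {i // α i = j}) : U k.1 ⟶ V j :=
  g k.1 ≫ eqToHom (congrArg V k.2)

lemma eqToHom_v {j j' : κ} (h : j' = j) : eqToHom (congrArg V h) ≫ v j = v j' := by
  subst h; simp

include w in
lemma γγ_v (j : κ) (k : {i // α i = j}) : γγ α g j k ≫ v j = u k.1 := by
  have hw := w k.1
  rw [Category.comp_id] at hw
  rw [Category.assoc, eqToHom_v v k.2, hw]

include hopen in
lemma γγ_open (j : κ) (k : {i // α i = j}) : IsOpenImmersion (γγ α g j k) := by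
  haveI := hopen k.1
  infer_instance

/-- the restriction of `D` to the refinement over `V j` -/
noncomputable abbrev DD (j : κ) : SchDDFam (γγ α g j) :=
  restr D (v j) (fun k : {i // α i = j} => k.1) (γγ α g j) (γγ_v v α g w j)

include hopen hcov in
lemma DD_eff (j : κ) : (DD D v α g w j).IsEffective :=
  isEffective_of_zariski _ (γγ α g j) (γγ_open α g hopen j) (hcov j) _

/-- the glued schemes -/
noncomputable def EE (j : κ) : Over (V j) := (DD_eff D v α g w hopen hcov j).witness

/-- the glued schemes descend the restricted descent data -/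
noncomputable def eEE (j : κ) :
    (toDDFam (γγ α g j)).obj (EE D v α g w hopen hcov j) ≅ DD D v α g w j :=
  (DD_eff D v α g w hopen hcov j).getIso

/-- Representability of the functor of sections of `D` over a family which `u` refines in the
Zariski topology. -/
noncomputable def zarSecRep : SecRep D v where
  obj := EE D v α g w hopen hcov
  ε T j y := (effSecEquiv (zar_mem_fpqc _ (γγ α g j) (γγ_open α g hopen j) (hcov j))
      (DD D v α g w j) _ (eEE D v α g w hopen hcov j) y).trans
    (extEquiv D (v j) _ (γγ α g j) (γγ_v v α g w j) (γγ_open α g hopen j) (hcov j) y)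
  nat T T' k j y y' a a' ha := by
    have hy := hom_eq_of_lifts k a a' ha
    subst hy
    simp only [Equiv.trans_apply]
    refine extEquiv_nat D (v j) _ (γγ α g j) (γγ_v v α g w j) (γγ_open α g hopen j) (hcov j) y k
      _ _ ?_
    exact effSecEquiv_nat _ _ _ _ k y a a' ha

include hopen hcov in
/-- Pullback of descent data along a Zariski refinement is essentially surjective. -/
theorem exists_pull_iso : ∃ E : SchDDFam v, Nonempty ((pullDDFam w).obj E ≅ D) :=
  ⟨(zarSecRep D v α g w hopen hcov).dd, ⟨(zarSecRep D v α g w hopen hcov).pullIso w⟩⟩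

end Zar

end Groth.Agent.Helper2.DescRestr
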