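import Mathlib
import Groth.Agent.Lib.Helper2.Desc.ZarRep
import Groth.Agent.Lib.Helper2.Desc.SigmaVK

/-!
# Reduction of effectivity of descent along fpqc coverings to the affine case (helper2)
-/

set_option autoImplicit false
set_option backward.isDefEq.respectTransparency false
set_option linter.unusedSectionVars false
set_option linter.style.haveILetI false
universe u
open CategoryTheory CategoryTheory.Limits AlgebraicGeometry Opposite Desc

namespace Groth.Agent.Helper2.DescRed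

open Groth.Agent.Lib.Helper5.DescFam Groth.Agent.Helper2.DescEff Groth.Agent.Helper2.DescPull
  Groth.Agent.Helper2.DescAff Groth.Agent.Helper2.DescSec Groth.Agent.Helper2.DescBase
  Groth.Agent.Helper2.DescTriv Groth.Agent.Helper2.DescRestr Groth.Agent.Helper2.SigmaVK

/-- A finite jointly surjective family of flat quasi-compact morphisms is an fpqc covering. -/
lemma finite_mem_fpqc {S : Scheme.{u}} {κ : Type u} [Finite κ] {Y : κ → Scheme.{u}}
    (q : ∀ k, Y k ⟶ S) [∀ k, Flat (q k)] [∀ k, QuasiCompact (q k)]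
    (hsurj : ∀ s : S, ∃ k, s ∈ Set.range (q k).base) :
    Presieve.ofArrows Y q ∈ Scheme.fpqcPrecoverage S := by
  let E : PreZeroHypercover.{u} S := ⟨κ, Y, q⟩
  have hmem : E.presieve₀ ∈ Scheme.precoverage @Flat S :=
    (Scheme.presieve₀_mem_precoverage_iff E).mpr ⟨hsurj, fun k => inferInstanceAs (Flat (q k))⟩
  let 𝒰 : S.Cover (Scheme.precoverage @Flat) := ⟨E, hmem⟩
  haveI : ∀ i, QuasiCompact (𝒰.f i) := fun i => inferInstanceAs (QuasiCompact (q i))
  haveI : Finite 𝒰.I₀ := inferInstanceAs (Finite κ)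
  haveI : QuasiCompactCover 𝒰.toPreZeroHypercover := .of_finite
  have hE : QuasiCompactCover E := this
  exact ⟨Scheme.presieve₀_mem_qcPrecoverage_iff.mpr hE, hmem⟩

/-- the components of an isomorphism of descent data are isomorphisms -/
lemma isIso_left_of_iso {S : Scheme.{u}} {ι : Type u} {X : ι → Scheme.{u}} {f : ∀ i, X i ⟶ S}
    {D D' : SchDDFam f} (e : D ≅ D') (i : ι) : IsIso (e.hom.hom i).left :=
  ⟨(e.inv.hom i).left, by
    have h1 := congrArg (fun a : D ⟶ D => (a.hom i).left) e.hom_inv_id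
    have h2 := congrArg (fun a : D' ⟶ D' => (a.hom i).left) e.inv_hom_id
    exact ⟨h1, h2⟩⟩

/-- a property stable under isomorphisms passes through isomorphisms of descent data -/
lemma prop_of_iso (P : MorphismProperty Scheme.{u}) [P.RespectsIso] {S : Scheme.{u}} {ι : Type u}
    {X : ι → Scheme.{u}} {f : ∀ i, X i ⟶ S} {D D' : SchDDFam f} (e : D ≅ D') (i : ι)
    (h : P (D'.obj i).hom) : P (D.obj i).hom := by
  haveI := isIso_left_of_iso e i
  rw [← Over.w (e.hom.hom i)]
  exact (P.cancel_left_of_respectsIso _ _).mpr h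

section

variable (P : MorphismProperty Scheme.{u}) [P.IsStableUnderBaseChange]
  (h2 : ∀ (m : ℕ) (Y V : Fin m → Scheme.{u}) (q : ∀ j, Y j ⟶ V j), (∀ j, P (q j)) →
    P (Limits.Sigma.map q))
  (h3 : ∀ (X S : Scheme.{u}) (p : X ⟶ S), IsAffine X → IsAffine S → Flat p → Surjective p →
    ∀ D : Desc.SchDD p, P D.obj.hom → ∃ U : Over S, Nonempty ((Desc.toDD p).obj U ≅ D))

include h2 h3 in
/-- The reduction over an affine base. -/
theorem isEffective_of_affine_base {ι : Type u} {S : Scheme.{u}} [IsAffine S] {U : ι → Scheme.{u}}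
    (u : ∀ i, U i ⟶ S) (hu : Presieve.ofArrows U u ∈ Scheme.fpqcPrecoverage S) (D : SchDDFam u)
    (hD : ∀ i, P (D.obj i).hom) : D.IsEffective := by
  let E : PreZeroHypercover.{u} S := ⟨ι, U, u⟩
  have hE : E.presieve₀ = Presieve.ofArrows U u := rfl
  haveI hqc : QuasiCompactCover E := Scheme.presieve₀_mem_qcPrecoverage_iff.mp (hE ▸ hu.1)
  obtain ⟨-, hflat⟩ := (Scheme.presieve₀_mem_precoverage_iff E).mp (hE ▸ hu.2)
  haveI : ∀ i, Flat (u i) := hflat
  obtain ⟨n, a, W, hWaff, hWeq⟩ := QuasiCompactCover.exists_isAffineOpen_of_isCompact E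
    (U := ⊤) isCompact_univ
  let Y : Fin n → Scheme.{u} := fun k => (W k : Scheme.{u})
  let y : ∀ k, Y k ⟶ S := fun k => (W k).ι ≫ u (a k)
  haveI : ∀ k, IsAffine (Y k) := fun k => hWaff k
  haveI : ∀ k, Flat (y k) := fun k => inferInstanceAs (Flat ((W k).ι ≫ u (a k)))
  have hsurj : ∀ s : S, ∃ k, s ∈ Set.range (y k).base := by
    intro s
    have hs : s ∈ ⋃ i, E.f (a i) '' (W i : Set (E.X (a i))) := by
      rw [hWeq]; trivial
    obtain ⟨k, x, hx, hxs⟩ := Set.mem_iUnion.mp hs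
    refine ⟨k, ⟨x, hx⟩, ?_⟩
    rw [← hxs]
    rfl
  -- the family indexed in the universe `u`
  let Wk : ULift.{u} (Fin n) → Scheme.{u} := fun i => Y i.down
  let wk : ∀ i, Wk i ⟶ S := fun i => y i.down
  haveI : ∀ i, Flat (wk i) := fun i => inferInstanceAs (Flat (y i.down))
  haveI : ∀ i, IsAffine (Wk i) := fun i => inferInstanceAs (IsAffine (Y i.down))
  haveI : ∀ i, QuasiCompact (wk i) := fun i => inferInstance
  have hwk : Presieve.ofArrows Wk wk ∈ Scheme.fpqcPrecoverage S :=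
    finite_mem_fpqc wk (fun s => by
      obtain ⟨k, hk⟩ := hsurj s
      exact ⟨⟨k⟩, hk⟩)
  have w1 : ∀ i : ULift.{u} (Fin n), (W i.down).ι ≫ u (a i.down) = wk i ≫ 𝟙 S :=
    fun i => (Category.comp_id _).symm
  refine isEffective_of_pull (f := u) (f' := wk) (α := fun i => a i.down)
    (p' := fun i => (W i.down).ι) w1 hwk D ?_
  obtain ⟨DW, hDW⟩ : ∃ DW, DW = (pullDDFam (f := u) (f' := wk) (α := fun i => a i.down)
    (p' := fun i => (W i.down).ι) w1).obj D := ⟨_, rfl⟩
  rw [← hDW]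
  have hDW_P : ∀ i, P (DW.obj i).hom := by
    intro i
    rw [hDW]
    exact P.pullback_snd _ _ (hD _)
  -- the coproduct
  let q₀ : ∐ Y ⟶ S := Sigma.desc y
  haveI : Flat q₀ := inferInstanceAs (Flat (Sigma.desc y))
  haveI : Surjective q₀ := by
    refine ⟨fun s => ?_⟩
    obtain ⟨k, x, hx⟩ := hsurj s
    refine ⟨(Sigma.ι Y k).base x, ?_⟩
    rw [← Scheme.Hom.comp_apply, Sigma.ι_desc]
    exact hx
  have w2 : ∀ i : ULift.{u} (Fin n), Sigma.ι Y i.down ≫ q₀ = wk i ≫ 𝟙 S := fun i => by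
    rw [Category.comp_id]; exact Sigma.ι_desc y i.down
  obtain ⟨Dt, ⟨e⟩⟩ := exists_pull_iso DW (fun _ : PUnit.{u + 1} => q₀) (fun _ => PUnit.unit)
    (fun i => Sigma.ι Y i.down) w2 (fun i => inferInstance) (by
      intro j s
      obtain ⟨k, x, hx⟩ := (sigmaOpenCover Y).exists_eq s
      refine ⟨⟨⟨k⟩, rfl⟩, x, ?_⟩
      simp only [eqToHom_refl, Category.comp_id]
      exact hx)
  have hDt : P (Dt.obj PUnit.unit).hom := by
    apply prop_of_pieces Y (Dt.obj PUnit.unit).hom P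
    apply h2
    intro k
    exact prop_of_iso P e ⟨k⟩ (hDW_P ⟨k⟩)
  obtain ⟨V, ⟨eV⟩⟩ := h3 (∐ Y) S q₀ inferInstance inferInstance inferInstance inferInstance
    ((SchDDFam.toSchDD.{u, u} q₀).obj Dt) hDt
  obtain ⟨V', ⟨eV'⟩⟩ := isEffective_of_exists_iso q₀ Dt ⟨V, ⟨eV⟩⟩
  have e1 := pullCanIso (f := fun _ : PUnit.{u + 1} => q₀) (f' := wk) (α := fun _ => PUnit.unit)
    (p' := fun i => Sigma.ι Y i.down) w2 V'
  have e2 := (pullDDFam (f := fun _ : PUnit.{u + 1} => q₀) (f' := wk) (α := fun _ => PUnit.unit)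
    (p' := fun i => Sigma.ι Y i.down) w2).mapIso eV'
  exact ⟨V', ⟨e1.symm ≪≫ e2 ≪≫ e⟩⟩

include h2 h3 in
/-- Reduction of effectivity of descent along fpqc coverings to flat surjective morphisms of
affine schemes. -/
theorem isEffective_of_fpqc {ι : Type u} {S : Scheme.{u}} {U : ι → Scheme.{u}}
    (u : ∀ i, U i ⟶ S) (hu : Presieve.ofArrows U u ∈ Scheme.fpqcPrecoverage S) (D : SchDDFam u)
    (hD : ∀ i, P (D.obj i).hom) : D.IsEffective := by
  refine isEffective_of_forall_opens hu D (A := S.affineOpens) (fun a => a.1) ?_ ?_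
  · intro s
    obtain ⟨V, hV, hs, -⟩ := (TopologicalSpace.Opens.isBasis_iff_nbhd.mp S.isBasis_affineOpens)
      (show s ∈ (⊤ : S.Opens) from trivial)
    exact ⟨⟨V, hV⟩, hs⟩
  · intro a
    haveI : IsAffine (a.1 : Scheme.{u}) := a.2
    refine isEffective_of_affine_base P h2 h3 (fun i => u i ∣_ a.1) ?_ _ ?_
    · exact Precoverage.mem_coverings_of_isPullback u hu (a.1).ι _ (fun i => (u i ⁻¹ᵁ a.1).ι)
        (fun i => isPullback_morphismRestrict (u i) a.1)
    · intro i
      exact P.pullback_snd _ _ (hD i)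

end

end Groth.Agent.Helper2.DescRed
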