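import Mathlib
import Groth.Agent.Lib.Helper2.Desc.FpqcReduce

/-!
# Reduction of effectivity of descent to the affine case, keeping track of a property of the
covering morphisms (helper2)

This is the variant of `DescRed.isEffective_of_fpqc` in which the members of the covering family
have a property `Q` (for instance: locally of finite presentation) which is Zariski-local on the
source and stable under base change; the affine case then only has to be treated for flat
surjective morphisms of affine schemes having `Q`.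
-/

set_option autoImplicit false
set_option backward.isDefEq.respectTransparency false
set_option linter.unusedSectionVars false
set_option linter.style.haveILetI false
universe u
open CategoryTheory CategoryTheory.Limits AlgebraicGeometry Opposite Desc

namespace Groth.Agent.Helper2.DescRedQ

open Groth.Agent.Lib.Helper5.DescFam Groth.Agent.Helper2.DescEff Groth.Agent.Helper2.DescPull
  Groth.Agent.Helper2.DescAff Groth.Agent.Helper2.DescSec Groth.Agent.Helper2.DescBase
  Groth.Agent.Helper2.DescTriv Groth.Agent.Helper2.DescRestr Groth.Agent.Helper2.SigmaVK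
  Groth.Agent.Helper2.DescRed

section

variable (P : MorphismProperty Scheme.{u}) [P.IsStableUnderBaseChange]
  (Q : MorphismProperty Scheme.{u}) [Q.IsStableUnderBaseChange] [IsZariskiLocalAtSource Q]
  (h2 : ∀ (m : ℕ) (Y V : Fin m → Scheme.{u}) (q : ∀ j, Y j ⟶ V j), (∀ j, P (q j)) →
    P (Limits.Sigma.map q))
  (h3 : ∀ (X S : Scheme.{u}) (p : X ⟶ S), IsAffine X → IsAffine S → Flat p → Surjective p →
    Q p → ∀ D : Desc.SchDD p, P D.obj.hom → ∃ U : Over S, Nonempty ((Desc.toDD p).obj U ≅ D))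

include h2 h3 in
/-- The reduction over an affine base. -/
theorem isEffective_of_affine_base_of {ι : Type u} {S : Scheme.{u}} [IsAffine S]
    {U : ι → Scheme.{u}}
    (u : ∀ i, U i ⟶ S) (hu : Presieve.ofArrows U u ∈ Scheme.fpqcPrecoverage S)
    (hQ : ∀ i, Q (u i)) (D : SchDDFam u)
    (hD : ∀ i, P (D.obj i).hom) : D.IsEffective := by
  let E : PreZeroHypercover.{u} S := ⟨ι, U, u⟩
  have hE : E.presieve₀ = Presieve.ofArrows U u := rfl
  haveI hqc : QuasiCompactCover E := Scheme.presieve₀_mem_qcPrecoverage_iff.mp (hE ▸ hu.1)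
  obtain ⟨-, hflat⟩ := (Scheme.presieve₀_mem_precoverage_iff E).mp (hE ▸ hu.2)
  haveI : ∀ i, Flat (u i) := hflat
  obtain ⟨n, a, W, hWaff, hWeq⟩ := QuasiCompactCover.exists_isAffineOpen_of_isCompact E
    (U := ⊤) isCompact_univ
  let Y : Fin n → Scheme.{u} := fun k => (W k : Scheme.{u})
  let y : ∀ k, Y k ⟶ S := fun k => (W k).ι ≫ u (a k)
  haveI : ∀ k, IsAffine (Y k) := fun k => hWaff k
  haveI : ∀ k, Flat (y k) := fun k => inferInstanceAs (Flat ((W k).ι ≫ u (a k)))
  have hsurj : ∀ s : S, ∃ k, s ∈ Set.range (y k).base := by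
    intro s
    have hs : s ∈ ⋃ i, E.f (a i) '' (W i : Set (E.X (a i))) := by
      rw [hWeq]; trivial
    obtain ⟨k, x, hx, hxs⟩ := Set.mem_iUnion.mp hs
    refine ⟨k, ⟨x, hx⟩, ?_⟩
    rw [← hxs]
    rfl
  -- the family indexed in the universe `u`
  let Wk : ULift.{u} (Fin n) → Scheme.{u} := fun i => Y i.down
  let wk : ∀ i, Wk i ⟶ S := fun i => y i.down
  haveI : ∀ i, Flat (wk i) := fun i => inferInstanceAs (Flat (y i.down))
  haveI : ∀ i, IsAffine (Wk i) := fun i => inferInstanceAs (IsAffine (Y i.down))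
  haveI : ∀ i, QuasiCompact (wk i) := fun i => inferInstance
  have hwk : Presieve.ofArrows Wk wk ∈ Scheme.fpqcPrecoverage S :=
    finite_mem_fpqc wk (fun s => by
      obtain ⟨k, hk⟩ := hsurj s
      exact ⟨⟨k⟩, hk⟩)
  have w1 : ∀ i : ULift.{u} (Fin n), (W i.down).ι ≫ u (a i.down) = wk i ≫ 𝟙 S :=
    fun i => (Category.comp_id _).symm
  refine isEffective_of_pull (f := u) (f' := wk) (α := fun i => a i.down)
    (p' := fun i => (W i.down).ι) w1 hwk D ?_
  obtain ⟨DW, hDW⟩ : ∃ DW, DW = (pullDDFam (f := u) (f' := wk) (α := fun i => a i.down)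
    (p' := fun i => (W i.down).ι) w1).obj D := ⟨_, rfl⟩
  rw [← hDW]
  have hDW_P : ∀ i, P (DW.obj i).hom := by
    intro i
    rw [hDW]
    exact P.pullback_snd _ _ (hD _)
  -- the coproduct
  let q₀ : ∐ Y ⟶ S := Sigma.desc y
  haveI : Flat q₀ := inferInstanceAs (Flat (Sigma.desc y))
  have hQq₀ : Q q₀ := by
    rw [IsZariskiLocalAtSource.iff_of_openCover (P := Q) (sigmaOpenCover Y)]
    intro k
    change Q (Sigma.ι Y k ≫ Sigma.desc y)
    rw [Sigma.ι_desc]
    exact IsZariskiLocalAtSource.comp (hQ (a k)) _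
  haveI : Surjective q₀ := by
    refine ⟨fun s => ?_⟩
    obtain ⟨k, x, hx⟩ := hsurj s
    refine ⟨(Sigma.ι Y k).base x, ?_⟩
    rw [← Scheme.Hom.comp_apply, Sigma.ι_desc]
    exact hx
  have w2 : ∀ i : ULift.{u} (Fin n), Sigma.ι Y i.down ≫ q₀ = wk i ≫ 𝟙 S := fun i => by
    rw [Category.comp_id]; exact Sigma.ι_desc y i.down
  obtain ⟨Dt, ⟨e⟩⟩ := exists_pull_iso DW (fun _ : PUnit.{u + 1} => q₀) (fun _ => PUnit.unit)
    (fun i => Sigma.ι Y i.down) w2 (fun i => inferInstance) (by
      intro j s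
      obtain ⟨k, x, hx⟩ := (sigmaOpenCover Y).exists_eq s
      refine ⟨⟨⟨k⟩, rfl⟩, x, ?_⟩
      simp only [eqToHom_refl, Category.comp_id]
      exact hx)
  have hDt : P (Dt.obj PUnit.unit).hom := by
    apply prop_of_pieces Y (Dt.obj PUnit.unit).hom P
    apply h2
    intro k
    exact prop_of_iso P e ⟨k⟩ (hDW_P ⟨k⟩)
  obtain ⟨V, ⟨eV⟩⟩ := h3 (∐ Y) S q₀ inferInstance inferInstance inferInstance inferInstance hQq₀
    ((SchDDFam.toSchDD.{u, u} q₀).obj Dt) hDt
  obtain ⟨V', ⟨eV'⟩⟩ := isEffective_of_exists_iso q₀ Dt ⟨V, ⟨eV⟩⟩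
  have e1 := pullCanIso (f := fun _ : PUnit.{u + 1} => q₀) (f' := wk) (α := fun _ => PUnit.unit)
    (p' := fun i => Sigma.ι Y i.down) w2 V'
  have e2 := (pullDDFam (f := fun _ : PUnit.{u + 1} => q₀) (f' := wk) (α := fun _ => PUnit.unit)
    (p' := fun i => Sigma.ι Y i.down) w2).mapIso eV'
  exact ⟨V', ⟨e1.symm ≪≫ e2 ≪≫ e⟩⟩

include h2 h3 in
/-- Reduction of effectivity of descent along fpqc coverings to flat surjective morphisms of
affine schemes. -/
theorem isEffective_of_fpqc_of {ι : Type u} {S : Scheme.{u}} {U : ι → Scheme.{u}}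
    (u : ∀ i, U i ⟶ S) (hu : Presieve.ofArrows U u ∈ Scheme.fpqcPrecoverage S)
    (hQ : ∀ i, Q (u i)) (D : SchDDFam u)
    (hD : ∀ i, P (D.obj i).hom) : D.IsEffective := by
  refine isEffective_of_forall_opens hu D (A := S.affineOpens) (fun a => a.1) ?_ ?_
  · intro s
    obtain ⟨V, hV, hs, -⟩ := (TopologicalSpace.Opens.isBasis_iff_nbhd.mp S.isBasis_affineOpens)
      (show s ∈ (⊤ : S.Opens) from trivial)
    exact ⟨⟨V, hV⟩, hs⟩
  · intro a
    haveI : IsAffine (a.1 : Scheme.{u}) := a.2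
    refine isEffective_of_affine_base_of P Q h2 h3 (fun i => u i ∣_ a.1) ?_ ?_ _ ?_
    · exact Precoverage.mem_coverings_of_isPullback u hu (a.1).ι _ (fun i => (u i ⁻¹ᵁ a.1).ι)
        (fun i => isPullback_morphismRestrict (u i) a.1)
    · intro i
      exact Q.of_isPullback (isPullback_morphismRestrict (u i) a.1).flip (hQ i)
    · intro i
      exact P.pullback_snd _ _ (hD i)

end

end Groth.Agent.Helper2.DescRedQ
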