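import Mathlib
import Groth.Agent.Lib.Helper2.Desc.ThmG
import Groth.Agent.Lib.Helper2.Desc.ZarRep

/-!
# An open sub-descent-datum of an effective descent datum is effective (helper2)
-/

set_option autoImplicit false
set_option linter.unusedSectionVars false
set_option linter.style.haveILetI false
set_option backward.isDefEq.respectTransparency false
universe u
open CategoryTheory CategoryTheory.Limits AlgebraicGeometry Opposite Desc

namespace Groth.Agent.Helper2.DescSec

open Groth.Agent.Lib.Helper5.DescFam Groth.Agent.Helper2.DescRestr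

variable {S : Scheme.{u}} {ι : Type u} {X : ι → Scheme.{u}} {f : ∀ i, X i ⟶ S}

section Push

variable {D D' : SchDDFam f} (j : D' ⟶ D)

/-- the image of a section under a morphism of descent data -/
noncomputable def pushSec {T : Scheme.{u}} (s' : Sec D' T) : Sec D T := ⟨s'.t, s'.a ≫ j⟩

@[simp] lemma pushSec_t {T : Scheme.{u}} (s' : Sec D' T) : (pushSec j s').t = s'.t := rfl

lemma pushSec_pt {T : Scheme.{u}} (s' : Sec D' T) {T' : Scheme.{u}} {i : ι} (g : T' ⟶ T)
    (x : T' ⟶ X i) (h : x ≫ f i = g ≫ s'.t) :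
    (pushSec j s').pt g x h = SchDDFam.Hom.push j (s'.pt g x h) := by
  unfold Sec.pt pushSec
  rw [push_comp]

lemma pushSec_res {T T' : Scheme.{u}} (s' : Sec D' T) (g : T' ⟶ T) :
    pushSec j (s'.res g) = (pushSec j s').res g := by
  unfold pushSec Sec.res
  dsimp only
  rw [Category.assoc]

lemma pushSec_injective [hj : ∀ i, IsOpenImmersion (j.hom i).left] {T : Scheme.{u}}
    (s₁ s₂ : Sec D' T) (h : pushSec j s₁ = pushSec j s₂) : s₁ = s₂ := by
  have ht : s₁.t = s₂.t := (congrArg Sec.t h : (pushSec j s₁).t = (pushSec j s₂).t)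
  refine Sec.ext_pt ht ?_
  intro T' i g x hh
  apply push_injective j
  rw [← pushSec_pt, ← pushSec_pt]
  apply Subtype.ext
  exact Sec.pt_val_congr_sec h g x _ _

end Push

section Main

variable (hf : Presieve.ofArrows X f ∈ Scheme.fpqcPrecoverage S)
variable {D D' : SchDDFam f} (j : D' ⟶ D) [hj : ∀ i, IsOpenImmersion (j.hom i).left]
variable (E : Over S) (e : (toDDFam f).obj E ≅ D)

/-- the universal section of an effective descent datum -/
noncomputable def univSec : Sec D E.left := ⟨E.hom, e.hom⟩

/-- the open subscheme descending the open sub-descent-datum -/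
noncomputable def descOpen : E.left.Opens := subOpen hf j (univSec E e)

lemma hall_descOpen {T : Scheme.{u}} (b : T ⟶ (descOpen hf j E e : Scheme.{u}))
    ⦃T' : Scheme.{u}⦄ ⦃i : ι⦄ (g : T' ⟶ T) (x : T' ⟶ X i)
    (h : x ≫ f i = g ≫ ((univSec E e).res (b ≫ (descOpen hf j E e).ι)).t) :
    Set.range (((univSec E e).res (b ≫ (descOpen hf j E e).ι)).pt g x h).1.base ⊆
      Set.range (j.hom i).left.base := by
  rw [Sec.res_pt]
  refine range_pt_of_le hf j (univSec E e) (b ≫ (descOpen hf j E e).ι) ?_ g x _
  rintro _ ⟨y, rfl⟩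
  exact ((b.base y).2 : _)

/-- the section of the sub-datum attached to a morphism to `descOpen` -/
noncomputable def toSec {T : Scheme.{u}} (b : T ⟶ (descOpen hf j E e : Scheme.{u})) : Sec D' T :=
  liftSec j ((univSec E e).res (b ≫ (descOpen hf j E e).ι)) (hall_descOpen hf j E e b)

lemma pushSec_toSec {T : Scheme.{u}} (b : T ⟶ (descOpen hf j E e : Scheme.{u})) :
    pushSec j (toSec hf j E e b) = (univSec E e).res (b ≫ (descOpen hf j E e).ι) :=
  liftSec_push j _ _

lemma effSecEquiv_val {T : Scheme.{u}} (y : T ⟶ S) (a : Lifts E y) :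
    (effSecEquiv hf D E e y a).1 = (univSec E e).res a.1 := by
  obtain ⟨a, rfl⟩ := a
  rfl

include hf in
lemma univSec_res_injective {T : Scheme.{u}} (b₁ b₂ : T ⟶ E.left)
    (h : (univSec E e).res b₁ = (univSec E e).res b₂) : b₁ = b₂ := by
  have ht : b₁ ≫ E.hom = b₂ ≫ E.hom := congrArg Sec.t h
  have key : ∀ (y : T ⟶ S) (a₁ a₂ : Lifts E y),
      (effSecEquiv hf D E e y a₁).1 = (effSecEquiv hf D E e y a₂).1 → a₁.1 = a₂.1 :=
    fun y a₁ a₂ h' => congrArg Subtype.val ((effSecEquiv hf D E e y).injective (Subtype.ext h'))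
  refine key (b₁ ≫ E.hom) ⟨b₁, rfl⟩ ⟨b₂, ht.symm⟩ ?_
  rw [effSecEquiv_val, effSecEquiv_val]
  exact h

include hf in
lemma exists_univSec_res_eq {T : Scheme.{u}} (s : Sec D T) :
    ∃ b : T ⟶ E.left, (univSec E e).res b = s := by
  obtain ⟨a, ha⟩ := (effSecEquiv hf D E e s.t).surjective ⟨s, rfl⟩
  refine ⟨a.1, ?_⟩
  rw [← effSecEquiv_val hf, ha]

lemma toSec_injective {T : Scheme.{u}} (b₁ b₂ : T ⟶ (descOpen hf j E e : Scheme.{u}))
    (h : toSec hf j E e b₁ = toSec hf j E e b₂) : b₁ = b₂ := by
  have h1 := congrArg (pushSec j) h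
  rw [pushSec_toSec, pushSec_toSec] at h1
  have h2 := univSec_res_injective hf E e _ _ h1
  exact (cancel_mono (descOpen hf j E e).ι).mp h2

lemma toSec_surjective {T : Scheme.{u}} (s' : Sec D' T) :
    ∃ b : T ⟶ (descOpen hf j E e : Scheme.{u}), toSec hf j E e b = s' := by
  obtain ⟨β, hβ⟩ := exists_univSec_res_eq hf E e (pushSec j s')
  have hr : Set.range β.base ⊆ Set.range (descOpen hf j E e).ι.base := by
    rw [Scheme.Opens.range_ι]
    apply range_le_subOpen hf j (univSec E e) β
    intro i
    have hc : pullback.fst (f i) (β ≫ (univSec E e).t) ≫ f i =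
        pullback.snd (f i) (β ≫ (univSec E e).t) ≫ (pushSec j s').t := by
      rw [← hβ]; exact pullback.condition
    have h1 := Sec.pt_val_congr_sec hβ (pullback.snd (f i) (β ≫ (univSec E e).t))
      (pullback.fst (f i) (β ≫ (univSec E e).t)) pullback.condition hc
    rw [h1, pushSec_pt]
    exact range_push j _
  refine ⟨IsOpenImmersion.lift (descOpen hf j E e).ι β hr, ?_⟩
  apply pushSec_injective j
  rw [pushSec_toSec, IsOpenImmersion.lift_fac, hβ]

/-- the functor of sections of the open sub-datum is representable -/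
noncomputable def representableBy_descOpen :
    (secFunctor D').RepresentableBy (descOpen hf j E e : Scheme.{u}) where
  homEquiv {T} := Equiv.ofBijective (toSec hf j E e)
    ⟨fun b₁ b₂ h => toSec_injective hf j E e b₁ b₂ h, fun s' => toSec_surjective hf j E e s'⟩
  homEquiv_comp {T T'} g b := by
    change toSec hf j E e (g ≫ b) = (toSec hf j E e b).res g
    apply pushSec_injective j
    rw [pushSec_res, pushSec_toSec, pushSec_toSec, Category.assoc, Sec.res_comp]

end Main

/-- An open sub-descent-datum of an effective descent datum relative to an fpqc covering family is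
effective. -/
theorem isEffective_of_open_sub (hf : Presieve.ofArrows X f ∈ Scheme.fpqcPrecoverage S)
    {D D' : SchDDFam f} (j : D' ⟶ D) (hj : ∀ i, IsOpenImmersion (j.hom i).left)
    (hD : D.IsEffective) : D'.IsEffective := by
  haveI := hj
  obtain ⟨E, ⟨e⟩⟩ := hD
  exact isEffective_of_representableBy D' (representableBy_descOpen hf j E e)

end Groth.Agent.Helper2.DescSec
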