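import Mathlib
import Groth.Agent.Lib.Helper2.Desc.AffDescRing

/-!
# Descent of the ring of global sections of a qcqs scheme along a flat morphism of affine schemes
(helper2)
-/

set_option autoImplicit false
set_option linter.style.haveILetI false

namespace Groth.Agent.Helper2.AffDesc
open CategoryTheory CategoryTheory.Limits AlgebraicGeometry
universe u

/-- Flat base change for global sections, as a pushout square of rings. -/
theorem isPushout_appTop_of_flat {X Y S T : Scheme.{u}} {f : T ⟶ S} {g : Y ⟶ X} {iX : X ⟶ S}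
    {iY : Y ⟶ T} (H : IsPullback g iY iX f) [Flat f] [IsAffine S] [IsAffine T] [CompactSpace X]
    [QuasiSeparatedSpace X] : IsPushout iX.appTop f.appTop g.appTop iY.appTop := by
  have hUST : (⊤ : T.Opens) ≤ f ⁻¹ᵁ (⊤ : S.Opens) := le_of_eq rfl
  have hUSX : (⊤ : X.Opens) ≤ iX ⁻¹ᵁ (⊤ : S.Opens) := le_of_eq rfl
  have hUY : (⊤ : Y.Opens) = g ⁻¹ᵁ (⊤ : X.Opens) ⊓ iY ⁻¹ᵁ (⊤ : T.Opens) := by simp
  have h1 := isIso_pushoutSection_of_isQuasiSeparated_of_flat_right H hUST hUSX hUY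
    (isAffineOpen_top S) (isAffineOpen_top T) isCompact_univ
    (isQuasiSeparated_univ_iff.mpr inferInstance)
  have h2 := (isIso_pushoutSection_iff H hUST hUSX hUY).mp h1
  convert h2 using 1 <;> simp [Scheme.Hom.appLE]

/-- Descent of the ring of global sections of a quasi-compact quasi-separated scheme with a
descent datum (in groupoid form) along a flat morphism of affine schemes. -/
theorem exists_qcqs_descent {S X V R R₂ : Scheme.{u}} [IsAffine S] [IsAffine X] [CompactSpace V]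
    [QuasiSeparatedSpace V] (p : X ⟶ S) [Flat p] (π : V ⟶ X)
    (x₂ : R ⟶ X) (s : R ⟶ V) (sqR : IsPullback x₂ s p (π ≫ p))
    (t : R ⟶ V) (ht : t ≫ π = x₂)
    (Δ : V ⟶ R) (hΔ₁ : Δ ≫ x₂ = π) (hΔ₂ : Δ ≫ s = 𝟙 V) (hU : Δ ≫ t = 𝟙 V)
    (y : R₂ ⟶ X) (r : R₂ ⟶ R) (sqR₂ : IsPullback y r p (s ≫ π ≫ p))
    (et : R₂ ⟶ R) (het₁ : et ≫ x₂ = y) (het₂ : et ≫ s = r ≫ t)
    (es : R₂ ⟶ R) (hes₁ : es ≫ x₂ = y) (hes₂ : es ≫ s = r ≫ s)
    (hC : et ≫ t = es ≫ t) :
    ∃ (C₀ : CommRingCat.{u}) (ι : C₀ ⟶ Γ(V, ⊤)) (α : Γ(S, ⊤) ⟶ C₀),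
      IsPushout p.appTop α π.appTop ι ∧ ι ≫ s.appTop = ι ≫ t.appTop := by
  haveI : IsAffineHom s := MorphismProperty.of_isPullback (P := @IsAffineHom) sqR inferInstance
  haveI : CompactSpace R := QuasiCompact.compactSpace_of_compactSpace s
  haveI : QuasiSeparatedSpace R := quasiSeparatedSpace_of_quasiSeparated s
  have PO₁ : IsPushout p.appTop (p.appTop ≫ π.appTop) x₂.appTop s.appTop := by
    have := (isPushout_appTop_of_flat sqR.flip).flip
    rwa [Scheme.Hom.comp_appTop] at this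
  have PO₂ : IsPushout p.appTop (p.appTop ≫ π.appTop ≫ s.appTop) y.appTop r.appTop := by
    have := (isPushout_appTop_of_flat sqR₂.flip).flip
    rwa [Scheme.Hom.comp_appTop, Scheme.Hom.comp_appTop, Category.assoc] at this
  have hflat : p.appTop.hom.Flat := Scheme.Hom.flat_appTop p
  have tr : ∀ {P Q W : Scheme.{u}} (f : P ⟶ Q) (g : Q ⟶ W) (h : P ⟶ W), f ≫ g = h →
      g.appTop ≫ f.appTop = h.appTop := by
    intro P Q W f g h e
    rw [← Scheme.Hom.comp_appTop, e]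
  exact exists_descended_ring p.appTop π.appTop hflat x₂.appTop s.appTop
    PO₁ t.appTop (tr t π x₂ ht) Δ.appTop (tr Δ x₂ π hΔ₁)
    (by rw [tr Δ s (𝟙 V) hΔ₂]; rfl) (by rw [tr Δ t (𝟙 V) hU]; rfl)
    y.appTop r.appTop PO₂ et.appTop (tr et x₂ y het₁)
    (by rw [tr et s (r ≫ t) het₂, Scheme.Hom.comp_appTop])
    es.appTop (tr es x₂ y hes₁)
    (by rw [tr es s (r ≫ s) hes₂, Scheme.Hom.comp_appTop])
    (by rw [tr et t (es ≫ t) hC, Scheme.Hom.comp_appTop])

end Groth.Agent.Helper2.AffDesc
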