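import Mathlib
import Groth.Prelude.Def_DescFam
import Groth.Agent.Lib.Helper2.Desc.QcqsDesc
import Groth.Agent.Lib.Helper2.Desc.AffCaseDD
import Groth.Agent.Lib.Helper2.Desc.OpenSubEff
import Groth.Agent.Lib.Helper2.Desc.AffEff

/-!
# Effectivity of descent for quasi-affine schemes over an affine base (helper2)
-/

set_option autoImplicit false
set_option linter.style.haveILetI false
set_option backward.isDefEq.respectTransparency false
universe u
open CategoryTheory CategoryTheory.Limits AlgebraicGeometry Opposite Desc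

namespace Groth.Agent.Helper2.DescEff

open Groth.Agent.Helper2.DescSec Groth.Agent.Helper2.DescAff

variable {S X : Scheme.{u}} (p : X ⟶ S)

/-- Effectivity of descent for quasi-affine schemes along a flat surjective morphism of affine
schemes. -/
theorem quasiAffine_case [IsAffine X] [IsAffine S] [Flat p] [Surjective p] (D : SchDD p)
    [D.obj.left.IsQuasiAffine] : ∃ U : Over S, Nonempty ((toDD p).obj U ≅ D) := by
  let V := D.obj.left
  let π : V ⟶ X := D.obj.hom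
  let R := pullback p (π ≫ p)
  let x₂ : R ⟶ X := pullback.fst p (π ≫ p)
  let s : R ⟶ V := pullback.snd p (π ≫ p)
  have hR : x₂ ≫ p = s ≫ π ≫ p := pullback.condition
  have hR' : (s ≫ π) ≫ p = x₂ ≫ p := by rw [Category.assoc]; exact hR.symm
  let tt : Lifts D.obj x₂ := D.φ (s ≫ π) x₂ hR' ⟨s, rfl⟩
  let t : R ⟶ V := tt.1
  have ht : t ≫ π = x₂ := tt.2
  -- the universal property of `t`
  have key : ∀ ⦃T : Scheme.{u}⦄ (x₀ x₁ : T ⟶ X) (h : x₀ ≫ p = x₁ ≫ p) (v : Lifts D.obj x₀)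
      (g : T ⟶ R), g ≫ x₂ = x₁ → g ≫ s = v.1 → (D.φ x₀ x₁ h v).1 = g ≫ t := by
    intro T x₀ x₁ h v g hg₁ hg₂
    refine φ_val_of_comp p D g (s ≫ π) x₂ hR' ⟨s, rfl⟩ x₀ x₁ ?_ hg₁ h v hg₂.symm
    rw [← Category.assoc, hg₂]
    exact v.2
  let Δ : V ⟶ R := pullback.lift π (𝟙 V) (by rw [Category.id_comp])
  have hΔ₁ : Δ ≫ x₂ = π := pullback.lift_fst _ _ _
  have hΔ₂ : Δ ≫ s = 𝟙 V := pullback.lift_snd _ _ _
  have hU : Δ ≫ t = 𝟙 V := by
    have h1 := key π π rfl ⟨𝟙 V, Category.id_comp _⟩ Δ hΔ₁ hΔ₂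
    rw [← h1, D.φ_self]
  let R₂ := pullback p (s ≫ π ≫ p)
  let y : R₂ ⟶ X := pullback.fst p (s ≫ π ≫ p)
  let r : R₂ ⟶ R := pullback.snd p (s ≫ π ≫ p)
  have hR₂ : y ≫ p = r ≫ s ≫ π ≫ p := pullback.condition
  let et : R₂ ⟶ R := pullback.lift y (r ≫ t) (by
    rw [hR₂, Category.assoc, ← Category.assoc t, ht, hR])
  have het₁ : et ≫ x₂ = y := pullback.lift_fst _ _ _
  have het₂ : et ≫ s = r ≫ t := pullback.lift_snd _ _ _
  let es : R₂ ⟶ R := pullback.lift y (r ≫ s) (by rw [hR₂, Category.assoc])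
  have hes₁ : es ≫ x₂ = y := pullback.lift_fst _ _ _
  have hes₂ : es ≫ s = r ≫ s := pullback.lift_snd _ _ _
  have hC : et ≫ t = es ≫ t := by
    have e1 : (r ≫ s ≫ π) ≫ p = (r ≫ x₂) ≫ p := by
      rw [Category.assoc, Category.assoc, Category.assoc, hR]
    have e2 : (r ≫ x₂) ≫ p = y ≫ p := by
      rw [hR₂, Category.assoc, hR]
    have h1 := key (r ≫ s ≫ π) (r ≫ x₂) e1 ⟨r ≫ s, by rw [Category.assoc]⟩ r rfl rfl
    have h2 := key (r ≫ x₂) y e2 ⟨r ≫ t, by rw [Category.assoc, ht]⟩ et het₁ het₂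
    have h3 := key (r ≫ s ≫ π) y (e1.trans e2) ⟨r ≫ s, by rw [Category.assoc]⟩ es hes₁ hes₂
    rw [← h2, ← h3]
    have h4 : (⟨r ≫ t, by rw [Category.assoc, ht]⟩ : Lifts D.obj (r ≫ x₂)) =
        D.φ (r ≫ s ≫ π) (r ≫ x₂) e1 ⟨r ≫ s, by rw [Category.assoc]⟩ := Subtype.ext h1.symm
    rw [h4, D.φ_comp]
  haveI : V.IsQuasiAffine := inferInstanceAs D.obj.left.IsQuasiAffine
  obtain ⟨C₀, ι, α, PO, hι⟩ := Groth.Agent.Helper2.AffDesc.exists_qcqs_descent p π x₂ s
    (IsPullback.of_hasPullback p (π ≫ p)) t ht Δ hΔ₁ hΔ₂ hU y r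
    (IsPullback.of_hasPullback p (s ≫ π ≫ p)) et het₁ het₂ es hes₁ hes₂ hC
  -- the descended affine hull
  let u : Spec C₀ ⟶ S := Spec.map α ≫ S.isoSpec.inv
  let qb : V ⟶ Spec C₀ := V.toSpecΓ ≫ Spec.map ι
  have hpbbar : IsPullback (Spec.map π.appTop ≫ X.isoSpec.inv) (Spec.map ι) p u := by
    have h0 := isPullback_SpecMap_of_isPushout p.appTop α π.appTop ι PO
    refine h0.of_iso (Iso.refl _) X.isoSpec.symm (Iso.refl _) S.isoSpec.symm ?_ ?_ ?_ ?_
    · simp
    · simp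
    · exact Scheme.isoSpec_inv_naturality p
    · simp [u]
  have hfst : V.toSpecΓ ≫ Spec.map π.appTop ≫ X.isoSpec.inv = π := by
    rw [← Category.assoc, ← Scheme.toSpecΓ_naturality, Category.assoc]
    have : X.toSpecΓ = X.isoSpec.hom := rfl
    rw [this, Iso.hom_inv_id, Category.comp_id]
  have hcomm : π ≫ p = qb ≫ u := by
    have := hpbbar.w
    rw [← hfst, Category.assoc, this]
    simp only [qb, Category.assoc]
  -- invariance
  have hst : t ≫ qb = s ≫ qb := by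
    simp only [qb]
    rw [← Category.assoc, Scheme.toSpecΓ_naturality, ← Category.assoc s,
      Scheme.toSpecΓ_naturality, Category.assoc, Category.assoc, ← Spec.map_comp, ← Spec.map_comp,
      hι]
  have hinv : ∀ ⦃T : Scheme.{u}⦄ (x₀ x₁ : T ⟶ X) (h : x₀ ≫ p = x₁ ≫ p) (v : Lifts D.obj x₀),
      (D.φ x₀ x₁ h v).1 ≫ qb = v.1 ≫ qb := by
    intro T x₀ x₁ h v
    let g : T ⟶ R := pullback.lift x₁ v.1 (by rw [← h, ← Category.assoc, v.2])
    have h1 := key x₀ x₁ h v g (pullback.lift_fst _ _ _) (pullback.lift_snd _ _ _)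
    rw [h1, Category.assoc, hst, ← Category.assoc]
    congr 1
    exact pullback.lift_snd _ _ _
  -- the open immersion into the canonical descent datum of the affine hull
  let jV : V ⟶ pullback p u := pullback.lift π qb hcomm
  have hjV : jV = V.toSpecΓ ≫ hpbbar.isoPullback.hom := by
    apply pullback.hom_ext
    · rw [pullback.lift_fst, Category.assoc, IsPullback.isoPullback_hom_fst, hfst]
    · rw [pullback.lift_snd, Category.assoc, IsPullback.isoPullback_hom_snd]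
  haveI : IsOpenImmersion jV := by rw [hjV]; infer_instance
  apply exists_iso_of_isEffective
  obtain ⟨Dc, hDc⟩ : ∃ Dc, Dc = (toDDFam (fun _ : PUnit.{u + 1} => p)).obj (Over.mk u) := ⟨_, rfl⟩
  have hcan₁ : ∀ ⦃T : Scheme.{u}⦄ (i i' : PUnit.{u + 1}) (x₀ x₁ : T ⟶ X) (h : x₀ ≫ p = x₁ ≫ p)
      (w : Lifts (((toDDFam (fun _ : PUnit.{u + 1} => p)).obj (Over.mk u)).obj i) x₀),
      (((toDDFam (fun _ : PUnit.{u + 1} => p)).obj (Over.mk u)).φ (i := i) (j := i')
        x₀ x₁ h w).1 ≫ pullback.fst p u = x₁ := fun T i i' x₀ x₁ h w =>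
    (((toDDFam (fun _ : PUnit.{u + 1} => p)).obj (Over.mk u)).φ (i := i) (j := i') x₀ x₁ h w).2
  have hcan₂ : ∀ ⦃T : Scheme.{u}⦄ (i i' : PUnit.{u + 1}) (x₀ x₁ : T ⟶ X) (h : x₀ ≫ p = x₁ ≫ p)
      (w : Lifts (((toDDFam (fun _ : PUnit.{u + 1} => p)).obj (Over.mk u)).obj i) x₀),
      (((toDDFam (fun _ : PUnit.{u + 1} => p)).obj (Over.mk u)).φ (i := i) (j := i')
        x₀ x₁ h w).1 ≫ pullback.snd p u = w.1 ≫ pullback.snd p u := by
    intro T i i' x₀ x₁ h w
    simp [toDDFam, canonicalDDFam]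
  let j : (SchDDFam.ofSchDD.{u, u} p).obj D ⟶
      (toDDFam (fun _ : PUnit.{u + 1} => p)).obj (Over.mk u) :=
    { hom := fun _ => Over.homMk jV (pullback.lift_fst _ _ _)
      comm := fun T i i' x₀ x₁ h v w hw => by
        have hw' : w.1 = v.1 ≫ jV := hw
        apply pullback.hom_ext
        · refine (hcan₁ i i' x₀ x₁ h w).trans ?_
          refine Eq.trans ?_ (Category.assoc _ _ _).symm
          change x₁ = (D.φ x₀ x₁ h v).1 ≫ jV ≫ pullback.fst p u
          rw [pullback.lift_fst]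
          exact (D.φ x₀ x₁ h v).2.symm
        · refine (hcan₂ i i' x₀ x₁ h w).trans ?_
          refine Eq.trans ?_ (Category.assoc _ _ _).symm
          change w.1 ≫ pullback.snd p u = (D.φ x₀ x₁ h v).1 ≫ jV ≫ pullback.snd p u
          rw [pullback.lift_snd, hw', Category.assoc, pullback.lift_snd]
          exact (hinv x₀ x₁ h v).symm }
  refine isEffective_of_open_sub (single_mem_fpqc p) j (fun _ => ?_) ⟨Over.mk u, ⟨Iso.refl _⟩⟩
  change IsOpenImmersion jV
  infer_instance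

end Groth.Agent.Helper2.DescEff
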