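import Mathlib

/-!
# Coproducts of morphisms and properties local on the target (helper2)
-/

set_option autoImplicit false
set_option backward.isDefEq.respectTransparency false
universe v u
open CategoryTheory CategoryTheory.Limits AlgebraicGeometry Opposite

namespace Groth.Agent.Helper2.SigmaLocal

variable {σ : Type v} [Small.{u} σ] {Y V : σ → Scheme.{u}} (q : ∀ j, Y j ⟶ V j)

lemma preimage_opensRange_sigmaι (j : σ) :
    (Limits.Sigma.map q) ⁻¹ᵁ (Sigma.ι V j).opensRange = (Sigma.ι Y j).opensRange := by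
  ext x
  obtain ⟨k, y, rfl⟩ := (sigmaOpenCover Y).exists_eq x
  change (Sigma.ι Y k ≫ Limits.Sigma.map q).base y ∈ Set.range (Sigma.ι V j).base ↔
    (Sigma.ι Y k).base y ∈ Set.range (Sigma.ι Y j).base
  rw [Sigma.ι_map]
  constructor
  · rintro ⟨z, hz⟩
    have hz' : (Sigma.ι V j).base z = (Sigma.ι V k).base ((q k).base y) := hz
    obtain ⟨rfl⟩ := congrArg Sigma.fst ((sigmaι_eq_iff V j k z _).mp hz')
    exact ⟨y, rfl⟩
  · rintro ⟨z, hz⟩
    obtain ⟨rfl⟩ := congrArg Sigma.fst ((sigmaι_eq_iff Y j k z y).mp hz)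
    exact ⟨(q j).base y, rfl⟩

/-- the coproduct of morphisms restricts to its components -/
lemma isPullback_sigmaι_map (j : σ) :
    IsPullback (q j) (Sigma.ι Y j) (Sigma.ι V j) (Limits.Sigma.map q) :=
  IsOpenImmersion.isPullback (q j) (Sigma.ι Y j) (Sigma.ι V j) (Limits.Sigma.map q)
    (Sigma.ι_map q j) (preimage_opensRange_sigmaι q j)

/-- A coproduct of morphisms having a property local on the target has this property. -/
theorem sigmaMap_of_isZariskiLocalAtTarget (P : MorphismProperty Scheme.{u})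
    [IsZariskiLocalAtTarget P] (hq : ∀ j, P (q j)) : P (Limits.Sigma.map q) := by
  apply IsZariskiLocalAtTarget.of_openCover (sigmaOpenCover V)
  intro j
  have h1 : IsPullback (q j) (Sigma.ι Y j) (Sigma.ι V j) (Limits.Sigma.map q) :=
    isPullback_sigmaι_map q j
  have h2 : IsPullback (pullback.snd (Limits.Sigma.map q) (Sigma.ι V j))
      (pullback.fst (Limits.Sigma.map q) (Sigma.ι V j)) (Sigma.ι V j) (Limits.Sigma.map q) :=
    (IsPullback.of_hasPullback _ _).flip
  let e : Y j ≅ pullback (Limits.Sigma.map q) (Sigma.ι V j) := h1.isoIsPullback _ _ h2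
  have he : e.hom ≫ pullback.snd (Limits.Sigma.map q) (Sigma.ι V j) = q j :=
    IsPullback.isoIsPullback_hom_fst _ _ h1 h2
  change P (pullback.snd (Limits.Sigma.map q) (Sigma.ι V j))
  rw [← P.cancel_left_of_respectsIso e.hom, he]
  exact hq j

end Groth.Agent.Helper2.SigmaLocal
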