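import Mathlib
import Groth.Agent.Lib.Helper2.Desc.FpqcReduce
import Groth.Agent.Lib.Helper2.Desc.SigmaLocal
import Groth.Agent.Lib.Helper2.Desc.QAffCase

/-!
# Effectivity of descent data quasi-affine over an fpqc covering family (helper2)

`QAff` is the class of morphisms which factor as a quasi-compact open immersion followed by an
affine morphism.
-/

set_option autoImplicit false
set_option backward.isDefEq.respectTransparency false
set_option linter.style.haveILetI false
universe u
open CategoryTheory CategoryTheory.Limits AlgebraicGeometry Opposite Desc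

namespace Groth.Agent.Helper2.DescRed

open Groth.Agent.Helper2.DescEff Groth.Agent.Helper2.SigmaLocal

/-- Morphisms factoring as a quasi-compact open immersion followed by an affine morphism. -/
def QAff : MorphismProperty Scheme.{u} := fun X Y f =>
  ∃ (Z : Scheme.{u}) (j : X ⟶ Z) (a : Z ⟶ Y),
    IsOpenImmersion j ∧ QuasiCompact j ∧ IsAffineHom a ∧ j ≫ a = f

instance : QAff.{u}.RespectsIso := by
  apply MorphismProperty.RespectsIso.mk
  · rintro X Y Z e f ⟨W, j, a, hj, hqc, ha, rfl⟩
    exact ⟨W, e.hom ≫ j, a, inferInstance, inferInstance, ha, Category.assoc _ _ _⟩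
  · rintro X Y Z e f ⟨W, j, a, hj, hqc, ha, rfl⟩
    exact ⟨W, j, a ≫ e.hom, hj, hqc, inferInstance, (Category.assoc _ _ _).symm⟩

instance : QAff.{u}.IsStableUnderBaseChange := by
  apply MorphismProperty.IsStableUnderBaseChange.mk'
  rintro X Y S f g _ ⟨Z, j, a, hj, hqc, ha, rfl⟩
  let j' : pullback f (j ≫ a) ⟶ pullback f a :=
    pullback.lift (pullback.fst f (j ≫ a)) (pullback.snd f (j ≫ a) ≫ j)
      (by rw [pullback.condition, Category.assoc])
  have h1 : j' ≫ pullback.fst f a = pullback.fst f (j ≫ a) := pullback.lift_fst _ _ _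
  have h2 : j' ≫ pullback.snd f a = pullback.snd f (j ≫ a) ≫ j := pullback.lift_snd _ _ _
  have hbig : IsPullback (j' ≫ pullback.fst f a) (pullback.snd f (j ≫ a)) f (j ≫ a) := by
    rw [h1]; exact IsPullback.of_hasPullback f (j ≫ a)
  have hsq : IsPullback j' (pullback.snd f (j ≫ a)) (pullback.snd f a) j :=
    IsPullback.of_right hbig h2 (IsPullback.of_hasPullback f a)
  refine ⟨pullback f a, j', pullback.fst f a, ?_, ?_,
    MorphismProperty.pullback_fst (P := @IsAffineHom) f a ha, h1⟩
  · exact MorphismProperty.of_isPullback (P := @IsOpenImmersion) hsq.flip hj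
  · exact MorphismProperty.of_isPullback (P := @QuasiCompact) hsq.flip hqc

lemma qaff_sigmaMap (m : ℕ) (Y V : Fin m → Scheme.{u}) (q : ∀ j, Y j ⟶ V j)
    (hq : ∀ j, QAff (q j)) : QAff (Limits.Sigma.map q) := by
  choose Z j a hj hqc ha hja using hq
  refine ⟨∐ Z, Limits.Sigma.map j, Limits.Sigma.map a, ?_, ?_, ?_, ?_⟩
  · exact sigmaMap_of_isZariskiLocalAtTarget j @IsOpenImmersion hj
  · exact sigmaMap_of_isZariskiLocalAtTarget j @QuasiCompact hqc
  · exact sigmaMap_of_isZariskiLocalAtTarget a @IsAffineHom ha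
  · rw [Sigma.map_comp_map]
    congr 1
    funext k
    exact hja k

lemma qaff_case (X S : Scheme.{u}) (p : X ⟶ S) (hX : IsAffine X) (hS : IsAffine S) (hfl : Flat p)
    (hsurj : Surjective p) (D : Desc.SchDD p) (hD : QAff D.obj.hom) :
    ∃ U : Over S, Nonempty ((Desc.toDD p).obj U ≅ D) := by
  obtain ⟨Z, j, a, hj, hqc, ha, hja⟩ := hD
  haveI : IsAffine Z := isAffine_of_isAffineHom a
  haveI : CompactSpace D.obj.left := QuasiCompact.compactSpace_of_compactSpace j
  haveI : D.obj.left.IsQuasiAffine := Scheme.IsQuasiAffine.of_isImmersion j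
  exact quasiAffine_case p D

/-- Descent data relative to an fpqc covering family all of whose members factor as a
quasi-compact open immersion followed by an affine morphism are effective. -/
theorem isEffective_of_qaff_fam {ι : Type u} {S : Scheme.{u}} {X : ι → Scheme.{u}}
    (f : ∀ i, X i ⟶ S) (hf : Presieve.ofArrows X f ∈ Scheme.fpqcPrecoverage S) (D : SchDDFam f)
    (hD : ∀ i, QAff (D.obj i).hom) : D.IsEffective :=
  isEffective_of_fpqc.{u} QAff.{u} qaff_sigmaMap qaff_case f hf D hD

/-- a quasi-affine scheme over an affine scheme factors through its affine hull -/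
lemma qaff_of_isQuasiAffine {V W : Scheme.{u}} (f : V ⟶ W) [IsAffine W] [V.IsQuasiAffine] :
    QAff f := by
  refine ⟨Spec Γ(V, ⊤), V.toSpecΓ, Spec.map f.appTop ≫ W.isoSpec.inv, inferInstance,
    inferInstance, inferInstance, ?_⟩
  rw [← Category.assoc, ← Scheme.toSpecΓ_naturality, Category.assoc]
  have h : W.toSpecΓ ≫ W.isoSpec.inv = 𝟙 W := W.isoSpec.hom_inv_id
  rw [h]
  exact Category.comp_id _

end Groth.Agent.Helper2.DescRed
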