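import Mathlib
import Groth.Agent.Lib.Helper2.Desc.QAff

/-!
# Effectivity of descent data separated and quasi-finite over an fpqc covering family (helper2)

By Zariski's main theorem a separated quasi-compact locally quasi-finite morphism locally of finite
type factors as an open immersion followed by an integral morphism.
-/

set_option autoImplicit false
set_option backward.isDefEq.respectTransparency false
set_option linter.style.haveILetI false
universe u
open CategoryTheory CategoryTheory.Limits AlgebraicGeometry Opposite Desc

namespace Groth.Agent.Helper2.DescRed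

open Groth.Agent.Helper2.DescEff

lemma locallyQuasiFinite_of_etale {X Y : Scheme.{u}} (p : X ⟶ Y) [Etale p] :
    LocallyQuasiFinite p := by
  rw [HasRingHomProperty.iff_appLE (P := @LocallyQuasiFinite)]
  intro U V e
  have h1 : RingHom.Etale (p.appLE U V e).hom :=
    HasRingHomProperty.appLE (P := @Etale) p inferInstance U V e
  algebraize [(p.appLE U V e).hom]
  show Algebra.QuasiFinite ↑Γ(Y, U.1) ↑Γ(X, V.1)
  infer_instance

/-- Zariski's main theorem: a separated quasi-compact quasi-finite morphism factors as a
quasi-compact open immersion followed by an affine morphism. -/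
lemma qaff_of_quasiFinite {V X : Scheme.{u}} (f : V ⟶ X) [IsSeparated f] [QuasiCompact f]
    [LocallyQuasiFinite f] [LocallyOfFiniteType f] : QAff f := by
  haveI : QuasiCompact (f.toNormalization ≫ f.fromNormalization) := by
    rw [f.toNormalization_fromNormalization]; infer_instance
  haveI : QuasiCompact f.toNormalization :=
    QuasiCompact.of_comp f.toNormalization f.fromNormalization
  exact ⟨f.normalization, f.toNormalization, f.fromNormalization, inferInstance, inferInstance,
    inferInstance, f.toNormalization_fromNormalization⟩

/-- Descent data relative to an fpqc covering family all of whose members are separated,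
quasi-compact, locally quasi-finite and locally of finite type over the members of the family are
effective. -/
theorem isEffective_of_quasiFinite_fam {ι : Type u} {S : Scheme.{u}} {X : ι → Scheme.{u}}
    (f : ∀ i, X i ⟶ S) (hf : Presieve.ofArrows X f ∈ Scheme.fpqcPrecoverage S) (D : SchDDFam f)
    (h1 : ∀ i, IsSeparated (D.obj i).hom) (h2 : ∀ i, QuasiCompact (D.obj i).hom)
    (h3 : ∀ i, LocallyQuasiFinite (D.obj i).hom) (h4 : ∀ i, LocallyOfFiniteType (D.obj i).hom) :
    D.IsEffective :=
  isEffective_of_qaff_fam f hf D (fun i =>
    haveI := h1 i; haveI := h2 i; haveI := h3 i; haveI := h4 i; qaff_of_quasiFinite _)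

/-- A property of morphisms satisfying fpqc descent passes from a descent datum to the scheme it
descends to. -/
lemma prop_of_toDD_iso (P : MorphismProperty Scheme.{u}) [P.RespectsIso]
    [P.DescendsAlong (@Surjective ⊓ @Flat ⊓ @QuasiCompact)] {X S : Scheme.{u}} (p : X ⟶ S)
    [Surjective p] [Flat p] [QuasiCompact p] (U : Over S) (D : SchDD p)
    (e : (toDD p).obj U ≅ D) (h : P D.obj.hom) : P U.hom := by
  haveI : IsIso e.hom.hom.left :=
    ⟨e.inv.hom.left, by
      have h1 := congrArg (fun a : (toDD p).obj U ⟶ (toDD p).obj U => a.hom.left) e.hom_inv_id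
      have h2 := congrArg (fun a : D ⟶ D => a.hom.left) e.inv_hom_id
      exact ⟨h1, h2⟩⟩
  have hw : e.hom.hom.left ≫ D.obj.hom = pullback.fst p U.hom := Over.w e.hom.hom
  have h1 : P (pullback.fst p U.hom) := by
    rw [← hw]
    exact (P.cancel_left_of_respectsIso _ _).mpr h
  exact MorphismProperty.of_pullback_fst_of_descendsAlong
    (Q := (@Surjective ⊓ @Flat ⊓ @QuasiCompact : MorphismProperty Scheme.{u}))
    ⟨⟨inferInstance, inferInstance⟩, inferInstance⟩ h1

end Groth.Agent.Helper2.DescRed
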