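import Mathlib
import Groth.Prelude.Def_DescFam
import Groth.Agent.Lib.Helper2.Desc.AffCaseDD
import Groth.Agent.Lib.Helper2.Desc.SubDD

/-!
# The equivalence relation of a descent datum and saturation of subsets (helper2)

For a descent datum `D` relative to `p : X ⟶ S` with underlying scheme `π : V ⟶ X`, the scheme
`R = X ×_S V` carries the two morphisms `s, t : R ⟶ V` (`s` the projection, `t` given by the gluing
bijections).  The saturation of a subset `W ⊆ V` is `t (s ⁻¹ W)`; it contains `W` and is stable under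
the gluing bijections.  When `p` is universally open it is open if `W` is, and when `p` is
quasi-compact it is quasi-compact if `W` is quasi-compact open.
-/

set_option autoImplicit false
set_option backward.isDefEq.respectTransparency false
set_option linter.unusedSectionVars false
set_option linter.style.haveILetI false
universe u
open CategoryTheory CategoryTheory.Limits AlgebraicGeometry Opposite Desc

namespace Groth.Agent.Helper2.DescSat

open Groth.Agent.Helper2.DescEff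

variable {S X : Scheme.{u}} (p : X ⟶ S) (D : SchDD p)

/-- `R = X ×_S V` -/
noncomputable abbrev Rel : Scheme.{u} := pullback p (D.obj.hom ≫ p)

/-- the projection `R ⟶ X` -/
noncomputable abbrev rx : Rel p D ⟶ X := pullback.fst p (D.obj.hom ≫ p)

/-- the projection `s : R ⟶ V` -/
noncomputable abbrev rs : Rel p D ⟶ D.obj.left := pullback.snd p (D.obj.hom ≫ p)

lemma rel_cond : (rs p D ≫ D.obj.hom) ≫ p = rx p D ≫ p := by
  rw [Category.assoc]; exact pullback.condition.symm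

/-- the universal transported point -/
noncomputable def rtt : Lifts D.obj (rx p D) :=
  D.φ (rs p D ≫ D.obj.hom) (rx p D) (rel_cond p D) ⟨rs p D, rfl⟩

/-- the morphism `t : R ⟶ V` -/
noncomputable def rt : Rel p D ⟶ D.obj.left := (rtt p D).1

lemma rt_hom : rt p D ≫ D.obj.hom = rx p D := (rtt p D).2

/-- the universal property of `t` -/
lemma key ⦃T : Scheme.{u}⦄ (x₀ x₁ : T ⟶ X) (h : x₀ ≫ p = x₁ ≫ p) (v : Lifts D.obj x₀)
    (g : T ⟶ Rel p D) (hg₁ : g ≫ rx p D = x₁) (hg₂ : g ≫ rs p D = v.1) :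
    (D.φ x₀ x₁ h v).1 = g ≫ rt p D := by
  refine φ_val_of_comp p D g (rs p D ≫ D.obj.hom) (rx p D) (rel_cond p D) ⟨rs p D, rfl⟩ x₀ x₁ ?_
    hg₁ h v hg₂.symm
  rw [← Category.assoc, hg₂]
  exact v.2

lemma φ_val_congr {T : Scheme.{u}} {x₀ x₀' x₁ x₁' : T ⟶ X} (h : x₀ ≫ p = x₁ ≫ p)
    (h' : x₀' ≫ p = x₁' ≫ p) (hx₀ : x₀ = x₀') (hx₁ : x₁ = x₁') (v : Lifts D.obj x₀)
    (v' : Lifts D.obj x₀') (hv : v.1 = v'.1) : (D.φ x₀ x₁ h v).1 = (D.φ x₀' x₁' h' v').1 := by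
  subst hx₀ hx₁
  have : v = v' := Subtype.ext hv
  subst this
  rfl

/-- the diagonal `V ⟶ R` -/
noncomputable def rΔ : D.obj.left ⟶ Rel p D :=
  pullback.lift D.obj.hom (𝟙 _) (by rw [Category.id_comp])

@[reassoc] lemma rΔ_rx : rΔ p D ≫ rx p D = D.obj.hom := pullback.lift_fst _ _ _
@[reassoc] lemma rΔ_rs : rΔ p D ≫ rs p D = 𝟙 _ := pullback.lift_snd _ _ _

lemma rΔ_rt : rΔ p D ≫ rt p D = 𝟙 _ := by
  have h1 := key p D D.obj.hom D.obj.hom rfl ⟨𝟙 _, Category.id_comp _⟩ (rΔ p D) (rΔ_rx p D)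
    (rΔ_rs p D)
  rw [← h1, D.φ_self]

/-- the symmetry of `R` -/
noncomputable def rσ : Rel p D ⟶ Rel p D :=
  pullback.lift (rs p D ≫ D.obj.hom) (rt p D) (by
    rw [rel_cond, ← Category.assoc, rt_hom])

@[reassoc] lemma rσ_rx : rσ p D ≫ rx p D = rs p D ≫ D.obj.hom := pullback.lift_fst _ _ _
@[reassoc] lemma rσ_rs : rσ p D ≫ rs p D = rt p D := pullback.lift_snd _ _ _

lemma rσ_rt : rσ p D ≫ rt p D = rs p D := by
  have h1 := key p D (rx p D) (rs p D ≫ D.obj.hom) (rel_cond p D).symm (rtt p D) (rσ p D)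
    (rσ_rx p D) (rσ_rs p D)
  rw [← h1]
  change (D.φ (rx p D) (rs p D ≫ D.obj.hom) _ (D.φ (rs p D ≫ D.obj.hom) (rx p D) _ _)).1 = _
  rw [D.φ_comp, D.φ_self]

lemma rσ_rσ : rσ p D ≫ rσ p D = 𝟙 _ := by
  apply pullback.hom_ext
  · rw [Category.assoc, rσ_rx, rσ_rs_assoc, rt_hom, Category.id_comp]
  · rw [Category.assoc, rσ_rs, rσ_rt, Category.id_comp]

instance : IsIso (rσ p D) := ⟨rσ p D, rσ_rσ p D, rσ_rσ p D⟩

/-- the saturation of a subset of `V` -/
def sat (W : Set D.obj.left) : Set D.obj.left := (rt p D).base '' ((rs p D).base ⁻¹' W)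

lemma subset_sat (W : Set D.obj.left) : W ⊆ sat p D W := by
  intro v hv
  refine ⟨(rΔ p D).base v, ?_, ?_⟩
  · change (rs p D).base ((rΔ p D).base v) ∈ W
    rw [← Scheme.Hom.comp_apply, rΔ_rs]
    exact hv
  · rw [← Scheme.Hom.comp_apply, rΔ_rt]
    rfl

/-- the saturation is stable under the gluing bijections -/
lemma sat_stable (W : Set D.obj.left) ⦃T : Scheme.{u}⦄ (x₀ x₁ : T ⟶ X) (h : x₀ ≫ p = x₁ ≫ p)
    (v : Lifts D.obj x₀) (hv : Set.range v.1.base ⊆ sat p D W) :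
    Set.range (D.φ x₀ x₁ h v).1.base ⊆ sat p D W := by
  rintro _ ⟨τ, rfl⟩
  obtain ⟨r, hrW, hrτ⟩ := hv ⟨τ, rfl⟩
  obtain ⟨z, hz₁, hz₂⟩ := Scheme.Pullback.exists_preimage_pullback (f := v.1) (g := rt p D) τ r
    hrτ.symm
  obtain ⟨g, hg⟩ : ∃ g, g = pullback.fst v.1 (rt p D) := ⟨_, rfl⟩
  obtain ⟨ρ, hρ⟩ : ∃ ρ, ρ = pullback.snd v.1 (rt p D) := ⟨_, rfl⟩
  rw [← hg] at hz₁
  rw [← hρ] at hz₂
  have hc : g ≫ v.1 = ρ ≫ rt p D := by rw [hg, hρ]; exact pullback.condition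
  have hx : g ≫ x₀ = ρ ≫ rx p D := by
    have hv2 : v.1 ≫ D.obj.hom = x₀ := v.2
    calc g ≫ x₀ = (g ≫ v.1) ≫ D.obj.hom := by rw [Category.assoc, hv2]
      _ = ρ ≫ rx p D := by rw [hc, Category.assoc, rt_hom]
  have hcond : (g ≫ x₁) ≫ p = (ρ ≫ rs p D) ≫ D.obj.hom ≫ p := by
    rw [Category.assoc, ← h, ← Category.assoc, hx, Category.assoc, Category.assoc]
    congr 1
    exact pullback.condition
  let ρ' : pullback v.1 (rt p D) ⟶ Rel p D := pullback.lift (g ≫ x₁) (ρ ≫ rs p D) hcond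
  have hρ'₁ : ρ' ≫ rx p D = g ≫ x₁ := pullback.lift_fst _ _ _
  have hρ'₂ : ρ' ≫ rs p D = ρ ≫ rs p D := pullback.lift_snd _ _ _
  -- the point `w = ρ ≫ s` over `w ≫ π`
  let w : Lifts D.obj ((ρ ≫ rs p D) ≫ D.obj.hom) := ⟨ρ ≫ rs p D, rfl⟩
  have e0 : ((ρ ≫ rs p D) ≫ D.obj.hom) ≫ p = (ρ ≫ rx p D) ≫ p := by
    rw [Category.assoc, Category.assoc, Category.assoc]
    congr 1
    exact pullback.condition.symm
  have e1 : (D.φ ((ρ ≫ rs p D) ≫ D.obj.hom) (ρ ≫ rx p D) e0 w).1 = ρ ≫ rt p D :=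
    key p D _ _ e0 w ρ rfl rfl
  have e2 : ((ρ ≫ rs p D) ≫ D.obj.hom) ≫ p = (g ≫ x₁) ≫ p := by
    rw [hcond, Category.assoc]
  have e3 : (D.φ ((ρ ≫ rs p D) ≫ D.obj.hom) (g ≫ x₁) e2 w).1 = ρ' ≫ rt p D :=
    key p D _ _ e2 w ρ' hρ'₁ hρ'₂
  have e4 : (ρ ≫ rx p D) ≫ p = (g ≫ x₁) ≫ p := e0.symm.trans e2
  have e5 : (g ≫ x₀) ≫ p = (g ≫ x₁) ≫ p := by rw [Category.assoc, h, Category.assoc]
  have hnat : (D.φ (g ≫ x₀) (g ≫ x₁) e5 ⟨g ≫ v.1, by rw [Category.assoc, v.2]⟩).1 =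
      g ≫ (D.φ x₀ x₁ h v).1 := D.φ_natural g x₀ x₁ h e5 v _ rfl
  have hfin : g ≫ (D.φ x₀ x₁ h v).1 = ρ' ≫ rt p D := by
    rw [← hnat, ← e3, ← D.φ_comp ((ρ ≫ rs p D) ≫ D.obj.hom) (ρ ≫ rx p D) (g ≫ x₁) e0 e4 w]
    exact φ_val_congr p D e5 e4 hx rfl _ _ (hc.trans e1.symm)
  refine ⟨ρ'.base z, ?_, ?_⟩
  · change (rs p D).base (ρ'.base z) ∈ W
    rw [← Scheme.Hom.comp_apply, hρ'₂, Scheme.Hom.comp_apply, hz₂]
    exact hrW
  · rw [← Scheme.Hom.comp_apply, ← hfin, Scheme.Hom.comp_apply, hz₁]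

/-- the saturation of an open subset is open when `p` is universally open -/
lemma isOpen_sat [UniversallyOpen p] {W : Set D.obj.left} (hW : IsOpen W) :
    IsOpen (sat p D W) := by
  have h1 : sat p D W = (rs p D).base '' ((rσ p D).base ⁻¹' ((rs p D).base ⁻¹' W)) := by
    ext v
    constructor
    · rintro ⟨r, hr, rfl⟩
      refine ⟨(rσ p D).base r, ?_, ?_⟩
      · change (rs p D).base ((rσ p D).base ((rσ p D).base r)) ∈ W
        have e : (rσ p D).base ((rσ p D).base r) = r := by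
          rw [← Scheme.Hom.comp_apply, rσ_rσ]; rfl
        rw [e]
        exact hr
      · rw [← Scheme.Hom.comp_apply, rσ_rs]
    · rintro ⟨r, hr, rfl⟩
      refine ⟨(rσ p D).base r, hr, ?_⟩
      rw [← Scheme.Hom.comp_apply, rσ_rt]
  rw [h1]
  apply (rs p D).isOpenMap
  exact (hW.preimage (rs p D).continuous).preimage (rσ p D).continuous

/-- the saturation of a quasi-compact open subset is quasi-compact when `p` is quasi-compact -/
lemma isCompact_sat [QuasiCompact p] {W : Set D.obj.left} (hWo : IsOpen W) (hW : IsCompact W) :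
    IsCompact (sat p D W) :=
  (QuasiCompact.isCompact_preimage (f := rs p D) W hWo hW).image (rt p D).continuous

end Groth.Agent.Helper2.DescSat
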