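import Mathlib
import Groth.Agent.Lib.Helper2.Desc.Sat
import Groth.Agent.Lib.Helper2.Desc.QFin
import Groth.Agent.Lib.Helper2.Desc.FpqcReduceQ
import Groth.Agent.Lib.Helper2.Desc.ThmG

/-!
# Effectivity of descent data separated and locally quasi-finite over an fppf covering (helper2)

Over a flat surjective finitely presented morphism of affine schemes, the saturation of a
quasi-compact open of the underlying scheme of a descent datum is a quasi-compact open stable under
the gluing bijections; it is quasi-affine over the source by Zariski's main theorem, hence descends,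
and the descended pieces glue.
-/

set_option autoImplicit false
set_option backward.isDefEq.respectTransparency false
set_option linter.unusedSectionVars false
set_option linter.style.haveILetI false
universe u
open CategoryTheory CategoryTheory.Limits AlgebraicGeometry Opposite Desc

namespace Groth.Agent.Helper2.DescSat

open Groth.Agent.Helper2.DescEff Groth.Agent.Helper2.DescSub Groth.Agent.Helper2.DescSec
  Groth.Agent.Helper2.DescRed Groth.Agent.Helper2.DescAff Groth.Agent.Helper2.SigmaLocal

section

variable {S X : Scheme.{u}} (p : X ⟶ S) [UniversallyOpen p] (D : SchDD p) (W : D.obj.left.Opens)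

/-- the saturation of an open subscheme -/
def satOpen : D.obj.left.Opens := ⟨sat p D W, isOpen_sat p D W.2⟩

lemma le_satOpen : W ≤ satOpen p D W := subset_sat p D W

lemma satOpen_stable ⦃T : Scheme.{u}⦄ ⦃i i' : PUnit.{u + 1}⦄ (x₀ x₁ : T ⟶ X)
    (h : x₀ ≫ p = x₁ ≫ p) (v : Lifts (((SchDDFam.ofSchDD.{u, u} p).obj D).obj i) x₀)
    (hv : Set.range v.1.base ⊆ Set.range (satOpen p D W).ι.base) :
    Set.range (((SchDDFam.ofSchDD.{u, u} p).obj D).φ (i := i) (j := i') x₀ x₁ h v).1.base ⊆
      Set.range (satOpen p D W).ι.base := by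
  rw [Scheme.Opens.range_ι] at hv ⊢
  exact sat_stable p D W x₀ x₁ h v hv

/-- the saturated open sub-descent-datum -/
noncomputable def satDD : SchDDFam (fun _ : PUnit.{u + 1} => p) :=
  subDD ((SchDDFam.ofSchDD.{u, u} p).obj D) (fun _ => (satOpen p D W).ι)
    (fun _ _ _ x₀ x₁ h v hv => satOpen_stable p D W x₀ x₁ h v hv)

/-- the inclusion of the saturated open sub-descent-datum -/
noncomputable def satHom : satDD p D W ⟶ (SchDDFam.ofSchDD.{u, u} p).obj D :=
  subDDHom ((SchDDFam.ofSchDD.{u, u} p).obj D) (fun _ => (satOpen p D W).ι)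
    (fun _ _ _ x₀ x₁ h v hv => satOpen_stable p D W x₀ x₁ h v hv)

lemma satHom_left (i : PUnit.{u + 1}) : ((satHom p D W).hom i).left = (satOpen p D W).ι := rfl

lemma satDD_obj_hom (i : PUnit.{u + 1}) :
    ((satDD p D W).obj i).hom = (satOpen p D W).ι ≫ D.obj.hom := rfl

end

/-- The affine case: descent data separated and locally quasi-finite over the source are effective
along a flat surjective finitely presented morphism of affine schemes. -/
theorem sepLqf_affine_case (X S : Scheme.{u}) (p : X ⟶ S) (hX : IsAffine X) (hS : IsAffine S)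
    (hfl : Flat p) (hsurj : Surjective p) (hlfp : LocallyOfFinitePresentation p) (D : SchDD p)
    (h1 : IsSeparated D.obj.hom) (h3 : LocallyQuasiFinite D.obj.hom)
    (h4 : LocallyOfFiniteType D.obj.hom) :
    ∃ U : Over S, Nonempty ((toDD p).obj U ≅ D) := by
  apply exists_iso_of_isEffective
  haveI : UniversallyOpen p := inferInstance
  haveI : QuasiCompact p := inferInstance
  have hp := single_mem_fpqc p
  refine isEffective_of_open_cover hp _ (K := D.obj.left.affineOpens)
    (fun W => satDD p D W.1) (fun W => satHom p D W.1) ?_ ?_ ?_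
  · intro W i
    rw [satHom_left]
    infer_instance
  · intro W
    haveI : CompactSpace (satOpen p D W.1 : Scheme.{u}) :=
      isCompact_iff_compactSpace.mp (isCompact_sat p D W.1.2 W.2.isCompact)
    refine isEffective_of_quasiFinite_fam (fun _ : PUnit.{u + 1} => p) hp _ ?_ ?_ ?_ ?_
    · intro i
      rw [satDD_obj_hom]
      infer_instance
    · intro i
      rw [satDD_obj_hom]
      exact @quasiCompact_of_compactSpace (satOpen p D W.1 : Scheme.{u}) X
        ((satOpen p D W.1).ι ≫ D.obj.hom) inferInstance inferInstance
    · intro i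
      rw [satDD_obj_hom]
      infer_instance
    · intro i
      rw [satDD_obj_hom]
      infer_instance
  · intro i v
    obtain ⟨V, hV, hv, -⟩ := (TopologicalSpace.Opens.isBasis_iff_nbhd.mp
      D.obj.left.isBasis_affineOpens) (show v ∈ (⊤ : D.obj.left.Opens) from trivial)
    refine ⟨⟨V, hV⟩, ?_⟩
    have hr : Set.range (satOpen p D V).ι.base = (satOpen p D V : Set D.obj.left) :=
      Scheme.Opens.range_ι _
    change v ∈ Set.range (satOpen p D V).ι.base
    rw [hr]
    exact le_satOpen p D V hv

/-- Descent data relative to an fpqc covering family whose members are locally of finite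
presentation, all of whose members are separated, locally quasi-finite and locally of finite type
over the members of the family, are effective. -/
theorem isEffective_of_sepLqf_fam {ι : Type u} {S : Scheme.{u}} {X : ι → Scheme.{u}}
    (f : ∀ i, X i ⟶ S) (hf : Presieve.ofArrows X f ∈ Scheme.fpqcPrecoverage S)
    (hlfp : ∀ i, LocallyOfFinitePresentation (f i)) (D : SchDDFam f)
    (h1 : ∀ i, IsSeparated (D.obj i).hom) (h3 : ∀ i, LocallyQuasiFinite (D.obj i).hom)
    (h4 : ∀ i, LocallyOfFiniteType (D.obj i).hom) : D.IsEffective := by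
  refine Groth.Agent.Helper2.DescRedQ.isEffective_of_fpqc_of.{u}
    (@IsSeparated ⊓ @LocallyQuasiFinite ⊓ @LocallyOfFiniteType : MorphismProperty Scheme.{u})
    (@LocallyOfFinitePresentation : MorphismProperty Scheme.{u}) ?_ ?_ f hf hlfp D
    (fun i => ⟨⟨h1 i, h3 i⟩, h4 i⟩)
  · intro m Y V q hq
    exact ⟨⟨sigmaMap_of_isZariskiLocalAtTarget q @IsSeparated (fun j => (hq j).1.1),
      sigmaMap_of_isZariskiLocalAtTarget q @LocallyQuasiFinite (fun j => (hq j).1.2)⟩,
      sigmaMap_of_isZariskiLocalAtTarget q @LocallyOfFiniteType (fun j => (hq j).2)⟩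
  · intro X S p hX hS hfl hsurj hQ D hD
    exact sepLqf_affine_case X S p hX hS hfl hsurj hQ D hD.1.1 hD.1.2 hD.2

end Groth.Agent.Helper2.DescSat
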