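import Mathlib
import Groth.Agent.Lib.Helper2.Desc.SepLqf

/-!
# Effectivity of descent data separated and locally quasi-finite over an fppf morphism (helper2)
-/

set_option autoImplicit false
set_option backward.isDefEq.respectTransparency false
universe u
open CategoryTheory CategoryTheory.Limits AlgebraicGeometry Opposite Desc

namespace Groth.Agent.Helper2.DescSat

/-- the property of being separated, locally quasi-finite and locally of finite type -/
def SepLqf : MorphismProperty Scheme.{u} :=
  fun _ _ f => IsSeparated f ∧ LocallyQuasiFinite f ∧ LocallyOfFiniteType f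

/-- Descent data relative to a flat surjective finitely presented morphism whose scheme is
separated, locally quasi-finite and locally of finite type over the source are effective. -/
theorem sepLqf_effective {X S : Scheme.{u}} (p : X ⟶ S) (hs : Surjective p) (hf : Flat p)
    (hl : LocallyOfFinitePresentation p) (D : SchDD p) (hD : SepLqf D.obj.hom) :
    ∃ U : Over S, Nonempty ((toDD p).obj U ≅ D) := by
  apply Groth.Agent.Helper2.DescEff.exists_iso_of_isEffective
  have hp : Presieve.ofArrows (fun _ : PUnit.{u + 1} => X) (fun _ => p) ∈
      Scheme.fpqcPrecoverage S := by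
    rw [Presieve.ofArrows_pUnit]
    exact Scheme.fppfPrecoverage_le_fpqcPrecoverage _ (Scheme.Hom.singleton_mem_fppfPrecoverage p)
  exact isEffective_of_sepLqf_fam (fun _ : PUnit.{u + 1} => p) hp (fun _ => hl) _
    (fun _ => hD.1) (fun _ => hD.2.1) (fun _ => hD.2.2)

end Groth.Agent.Helper2.DescSat
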