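import Mathlib
import Groth.Agent.Lib.Helper2.Desc.Sat2

/-!
# Bounding the orbits of a descent datum along a finite morphism by geometric fibres (helper2)
-/

set_option autoImplicit false
set_option backward.isDefEq.respectTransparency false
set_option linter.unusedSectionVars false
set_option linter.style.haveILetI false
universe u
open CategoryTheory CategoryTheory.Limits AlgebraicGeometry Opposite Desc

namespace Groth.Agent.Helper2.DescSat

variable {S X : Scheme.{u}} (p : X ⟶ S) (D : SchDD p)

instance isFinite_rt [IsFinite p] : IsFinite (rt p D) := by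
  rw [← rσ_rs]
  infer_instance

/-- a geometric point of `R` through a given point of a fibre of `t` -/
lemma exists_geomPoint_rt [IsFinite p] (v : D.obj.left) {k : Type u} [Field k] [IsAlgClosed k]
    (c : Spec (CommRingCat.of k) ⟶ D.obj.left) (hc : ∀ a, c.base a = v) (z : Rel p D)
    (hz : (rt p D).base z = v) :
    ∃ e : Spec (CommRingCat.of k) ⟶ Rel p D, e ≫ rt p D = c ∧ ∀ a, e.base a = z := by
  let a₀ : Spec (CommRingCat.of k) := IsLocalRing.closedPoint k
  obtain ⟨z', hz'₁, hz'₂⟩ := Scheme.Pullback.exists_preimage_pullback (f := rt p D) (g := c) z a₀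
    (hz.trans (hc a₀).symm)
  let g : pullback (rt p D) c ⟶ Spec (CommRingCat.of k) := pullback.snd _ _
  haveI : IsFinite g := MorphismProperty.pullback_snd (P := @IsFinite) _ _ inferInstance
  have hdisc : DiscreteTopology ↥(pullback (rt p D) c : Scheme.{u}) := by
    rw [← isDiscrete_univ_iff]
    have h1 := g.isDiscrete_preimage_singleton a₀
    have h2 : g.base ⁻¹' {a₀} = Set.univ := by
      ext w
      simp only [Set.mem_preimage, Set.mem_singleton_iff, Set.mem_univ, iff_true]
      exact Subsingleton.elim _ _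
    rwa [h2] at h1
  have hcl : IsClosed ({z'} : Set ↥(pullback (rt p D) c : Scheme.{u})) := isClosed_discrete _
  refine ⟨pointOfClosedPoint g z' hcl ≫ pullback.fst _ _, ?_, ?_⟩
  · rw [Category.assoc, pullback.condition, ← Category.assoc]
    have := pointOfClosedPoint_comp g z' hcl
    change pointOfClosedPoint g z' hcl ≫ g = 𝟙 _ at this
    rw [this, Category.id_comp]
  · intro a
    rw [Scheme.Hom.comp_apply, pointOfClosedPoint_apply, hz'₁]

/-- The fibres of `t` have at most as many points as the geometric fibres of `p`. -/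
theorem encard_rt_fibre_le [IsFinite p] (d : ℕ)
    (hfib : ∀ (k : Type u) [Field k] [IsAlgClosed k] (y : Spec (CommRingCat.of k) ⟶ S),
      Set.encard {x : Spec (CommRingCat.of k) ⟶ X | x ≫ p = y} ≤ d) (v : D.obj.left) :
    ((rt p D).base ⁻¹' {v}).encard ≤ d := by
  let K : Type u := D.obj.left.residueField v
  let k : Type u := AlgebraicClosure K
  let c : Spec (CommRingCat.of k) ⟶ D.obj.left :=
    Spec.map (CommRingCat.ofHom (algebraMap K k)) ≫ D.obj.left.fromSpecResidueField v
  have hc : ∀ a, c.base a = v := by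
    intro a
    rw [Scheme.Hom.comp_apply]
    exact D.obj.left.fromSpecResidueField_apply v _
  let y : Spec (CommRingCat.of k) ⟶ S := c ≫ D.obj.hom ≫ p
  have hex : ∀ z : ((rt p D).base ⁻¹' {v}), ∃ e : Spec (CommRingCat.of k) ⟶ Rel p D,
      e ≫ rt p D = c ∧ ∀ a, e.base a = z.1 := fun z =>
    exists_geomPoint_rt p D v c hc z.1 z.2
  choose e he₁ he₂ using hex
  have hxy : ∀ z, (e z ≫ rs p D ≫ D.obj.hom) ≫ p = y := by
    intro z
    have h1 : (rs p D ≫ D.obj.hom) ≫ p = rt p D ≫ D.obj.hom ≫ p := by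
      rw [← Category.assoc (rt p D), rt_hom]
      exact rel_cond p D
    rw [Category.assoc, h1, ← Category.assoc, he₁]
  let F : ((rt p D).base ⁻¹' {v}) → {x : Spec (CommRingCat.of k) ⟶ X | x ≫ p = y} := fun z =>
    ⟨e z ≫ rs p D ≫ D.obj.hom, hxy z⟩
  have hF : Function.Injective F := by
    intro z z' hzz'
    have h1 : e z ≫ rs p D ≫ D.obj.hom = e z' ≫ rs p D ≫ D.obj.hom := congrArg Subtype.val hzz'
    have h2 : e z ≫ rσ p D = e z' ≫ rσ p D := by
      apply pullback.hom_ext
      · change (e z ≫ rσ p D) ≫ rx p D = (e z' ≫ rσ p D) ≫ rx p D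
        rw [Category.assoc, Category.assoc, rσ_rx]
        exact h1
      · change (e z ≫ rσ p D) ≫ rs p D = (e z' ≫ rσ p D) ≫ rs p D
        rw [Category.assoc, Category.assoc, rσ_rs, he₁, he₁]
    have h3 : e z = e z' := by
      have := congrArg (fun m => m ≫ rσ p D) h2
      simpa only [Category.assoc, rσ_rσ, Category.comp_id] using this
    apply Subtype.ext
    rw [← he₂ z (IsLocalRing.closedPoint k), ← he₂ z' (IsLocalRing.closedPoint k), h3]
  exact (Function.Embedding.encard_le ⟨F, hF⟩).trans (hfib k y)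

/-- the orbit of a point: the set of points identified with it by the gluing bijections -/
def orbit (v : D.obj.left) : Set D.obj.left := (rs p D).base '' ((rt p D).base ⁻¹' {v})

lemma encard_orbit_le [IsFinite p] (d : ℕ)
    (hfib : ∀ (k : Type u) [Field k] [IsAlgClosed k] (y : Spec (CommRingCat.of k) ⟶ S),
      Set.encard {x : Spec (CommRingCat.of k) ⟶ X | x ≫ p = y} ≤ d) (v : D.obj.left) :
    (orbit p D v).encard ≤ d :=
  (Set.encard_image_le _ _).trans (encard_rt_fibre_le p D d hfib v)

lemma mem_orbit_self (v : D.obj.left) : v ∈ orbit p D v := by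
  refine ⟨(rΔ p D).base v, ?_, ?_⟩
  · change (rt p D).base ((rΔ p D).base v) = v
    rw [← Scheme.Hom.comp_apply, rΔ_rt]; rfl
  · rw [← Scheme.Hom.comp_apply, rΔ_rs]; rfl

lemma orbit_over (v w : D.obj.left) (hw : w ∈ orbit p D v) :
    p.base (D.obj.hom.base w) = p.base (D.obj.hom.base v) := by
  obtain ⟨r, hr, rfl⟩ := hw
  have hr' : (rt p D).base r = v := hr
  have e : rs p D ≫ D.obj.hom ≫ p = rt p D ≫ D.obj.hom ≫ p := by
    rw [← Category.assoc (rt p D), rt_hom]
    exact pullback.condition.symm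
  rw [← hr', ← Scheme.Hom.comp_apply, ← Scheme.Hom.comp_apply, ← Scheme.Hom.comp_apply,
    ← Scheme.Hom.comp_apply, e]

/-- the orbit contains the source of every point transported to `v` -/
lemma mem_orbit_of_φ ⦃T : Scheme.{u}⦄ (x₀ x₁ : T ⟶ X) (h : x₀ ≫ p = x₁ ≫ p)
    (w : Lifts D.obj x₀) (τ : T) (v : D.obj.left) (hτ : (D.φ x₀ x₁ h w).1.base τ = v) :
    w.1.base τ ∈ orbit p D v := by
  have hw2 : w.1 ≫ D.obj.hom = x₀ := w.2
  let g : T ⟶ Rel p D := pullback.lift x₁ w.1 (by rw [← Category.assoc, hw2, h])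
  have hg := key p D x₀ x₁ h w g (pullback.lift_fst _ _ _) (pullback.lift_snd _ _ _)
  refine ⟨g.base τ, ?_, ?_⟩
  · change (rt p D).base (g.base τ) = v
    rw [← Scheme.Hom.comp_apply, ← hg]
    exact hτ
  · have e : g ≫ rs p D = w.1 := pullback.lift_snd _ _ _
    rw [← Scheme.Hom.comp_apply, e]

end Groth.Agent.Helper2.DescSat
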