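import Mathlib
import Groth.Agent.Lib.Helper2.Desc.AffEff
import Groth.Agent.Lib.Helper2.Desc.ThmG
import Groth.Agent.Lib.Helper2.Desc.SubDD

/-!
# Descent along flat surjective quasi-compact universally injective morphisms (helper2)

Every descent datum relative to such a morphism is effective.
-/

set_option autoImplicit false
set_option backward.isDefEq.respectTransparency false
set_option linter.style.haveILetI false
universe u
open CategoryTheory CategoryTheory.Limits AlgebraicGeometry Opposite Desc

namespace Groth.Agent.Helper2.DescRad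

open Groth.Agent.Lib.Helper5.DescFam Groth.Agent.Helper2.DescEff Groth.Agent.Helper2.DescPull
  Groth.Agent.Helper2.DescAff Groth.Agent.Helper2.DescSec Groth.Agent.Helper2.DescBase
  Groth.Agent.Helper2.DescSub

/-- Universally injective morphisms are separated. -/
lemma isSeparated_of_universallyInjective {X Y : Scheme.{u}} (f : X ⟶ Y)
    [UniversallyInjective f] : IsSeparated f := by
  constructor
  haveI : Surjective (pullback.diagonal f) := (UniversallyInjective.iff_diagonal f).mp inferInstance
  apply IsClosedImmersion.of_isPreimmersion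
  rw [Set.range_eq_univ.mpr (pullback.diagonal f).surjective]
  exact isClosed_univ

variable {S' S : Scheme.{u}} (g : S' ⟶ S)

/-- For a universally injective morphism, the gluing bijections do not move points. -/
lemma φ_base_eq [UniversallyInjective g] (D : SchDDFam (fun _ : PUnit.{u + 1} => g))
    {T : Scheme.{u}} (x₀ x₁ : T ⟶ S') (h : x₀ ≫ g = x₁ ≫ g) (v : Lifts (D.obj ⟨⟩) x₀) (t : T) :
    (D.φ x₀ x₁ h v).1.base t = v.1.base t := by
  obtain ⟨τ, hτ⟩ : ∃ τ : Spec (T.residueField t) ⟶ T, τ = T.fromSpecResidueField t := ⟨_, rfl⟩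
  have hpt : τ.base (IsLocalRing.closedPoint _) = t := by
    rw [hτ]; exact Scheme.fromSpecResidueField_apply _ _
  have hinj0 : ∀ (K : Type u) [Field K], Function.Injective
      (fun a : Spec (.of K) ⟶ S' ↦ a ≫ g) :=
    ((tfae_universallyInjective g).out 0 1).mp ‹UniversallyInjective g›
  have hinj := hinj0 (T.residueField t)
  have hx : τ ≫ x₀ = τ ≫ x₁ := hinj (by
    change (τ ≫ x₀) ≫ g = (τ ≫ x₁) ≫ g
    rw [Category.assoc, Category.assoc, h])
  have h' : (τ ≫ x₀) ≫ g = (τ ≫ x₁) ≫ g := by rw [hx]
  have n1 := D.φ_natural τ (i := PUnit.unit) (j := PUnit.unit) x₀ x₁ h (τ ≫ x₀) (τ ≫ x₁) rfl rfl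
    h' v (res τ v rfl) rfl
  have n2 := φ_val_congr D (i := PUnit.unit) (j := PUnit.unit) (x₀ := τ ≫ x₀) (x₀' := τ ≫ x₀) (x₁ := τ ≫ x₁) (x₁' := τ ≫ x₀) h' rfl rfl
    hx.symm (res τ v rfl) (res τ v rfl) rfl
  rw [D.φ_self] at n2
  have n3 : τ ≫ (D.φ x₀ x₁ h v).1 = τ ≫ v.1 := by
    rw [← n1, n2]; rfl
  have n4 := congrArg (fun a => a.base (IsLocalRing.closedPoint _)) n3
  simp only [Scheme.Hom.comp_base, TopCat.comp_app] at n4
  rw [hpt] at n4
  exact n4

/-- For a universally injective morphism, every open subscheme of a descent datum is stable under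
the gluing bijections. -/
lemma stable_of_universallyInjective [UniversallyInjective g]
    (D : SchDDFam (fun _ : PUnit.{u + 1} => g)) (Z : (D.obj ⟨⟩).left.Opens)
    ⦃T : Scheme.{u}⦄ ⦃i i' : PUnit.{u + 1}⦄ (x₀ x₁ : T ⟶ S') (h : x₀ ≫ g = x₁ ≫ g)
    (v : Lifts (D.obj i) x₀) (hv : Set.range v.1.base ⊆ Set.range Z.ι.base) :
    Set.range (D.φ x₀ x₁ h v).1.base ⊆ Set.range Z.ι.base := by
  rintro _ ⟨t, rfl⟩
  rw [φ_base_eq g D x₀ x₁ h v t]
  exact hv ⟨t, rfl⟩

/-- Over an affine base: every descent datum relative to a flat surjective quasi-compact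
universally injective morphism is effective. -/
theorem isEffective_of_affine_base [IsAffine S] [Flat g] [Surjective g] [QuasiCompact g]
    [UniversallyInjective g] (D : SchDDFam (fun _ : PUnit.{u + 1} => g)) : D.IsEffective := by
  haveI : IsSeparated g := isSeparated_of_universallyInjective g
  haveI : S'.IsSeparated := ⟨by rw [← terminal.comp_from g]; infer_instance⟩
  refine isEffective_of_open_cover (single_mem_fpqc g) D (K := (D.obj ⟨⟩).left.affineOpens)
    (fun Z => subDD D (fun _ => Z.1.ι) (stable_of_universallyInjective g D Z.1))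
    (fun Z => subDDHom D (fun _ => Z.1.ι) (stable_of_universallyInjective g D Z.1)) ?_ ?_ ?_
  · intro Z i
    rw [subDDHom_hom_left]
    infer_instance
  · intro Z
    haveI : IsAffine (Z.1 : Scheme.{u}) := Z.2
    haveI : IsAffineHom ((subDD D (fun _ => Z.1.ι)
        (stable_of_universallyInjective g D Z.1)).obj ⟨⟩).hom := by
      change IsAffineHom (Z.1.ι ≫ (D.obj ⟨⟩).hom)
      haveI : IsAffineHom ((Z.1.ι ≫ (D.obj ⟨⟩).hom) ≫ terminal.from S') := by
        rw [terminal.comp_from]; infer_instance
      exact IsAffineHom.of_comp (Z.1.ι ≫ (D.obj ⟨⟩).hom) (terminal.from S')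
    exact isEffective_of_affineHom g _
  · intro i v
    obtain ⟨Z, hZ, hv, -⟩ := (TopologicalSpace.Opens.isBasis_iff_nbhd.mp
      (D.obj ⟨⟩).left.isBasis_affineOpens) (show v ∈ (⊤ : (D.obj ⟨⟩).left.Opens) from trivial)
    refine ⟨⟨Z, hZ⟩, ?_⟩
    rw [subDDHom_hom_left]
    exact ⟨⟨v, hv⟩, rfl⟩

/-- Every descent datum relative to a flat surjective quasi-compact universally injective morphism
is effective. -/
theorem isEffective_of_radicial [Flat g] [Surjective g] [QuasiCompact g]
    [UniversallyInjective g] (D : SchDDFam (fun _ : PUnit.{u + 1} => g)) : D.IsEffective := by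
  refine isEffective_of_forall_opens (single_mem_fpqc g) D (A := S.affineOpens)
    (fun a => a.1) ?_ ?_
  · intro s
    obtain ⟨V, hV, hs, -⟩ := (TopologicalSpace.Opens.isBasis_iff_nbhd.mp S.isBasis_affineOpens)
      (show s ∈ (⊤ : S.Opens) from trivial)
    exact ⟨⟨V, hV⟩, hs⟩
  · intro a
    haveI : IsAffine (a.1 : Scheme.{u}) := a.2
    haveI : Surjective (g ∣_ a.1) :=
      IsZariskiLocalAtTarget.restrict (P := @Surjective) (inferInstanceAs (Surjective g)) _
    haveI : Flat (g ∣_ a.1) :=
      IsZariskiLocalAtTarget.restrict (P := @Flat) (inferInstanceAs (Flat g)) _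
    haveI : QuasiCompact (g ∣_ a.1) :=
      IsZariskiLocalAtTarget.restrict (P := @QuasiCompact) (inferInstanceAs (QuasiCompact g)) _
    haveI : UniversallyInjective (g ∣_ a.1) :=
      IsZariskiLocalAtTarget.restrict (P := @UniversallyInjective)
        (inferInstanceAs (UniversallyInjective g)) _
    exact isEffective_of_affine_base (g ∣_ a.1) _

end Groth.Agent.Helper2.DescRad
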